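import Cfsg.Agent.Lib.TCX.Fi23.Main
import Cfsg.Agent.Lib.Grp.Fi23.Main
import Cfsg.Prelude.Def_Spor_Fi23

/-! Identification of the presented group `Fi23` with its table permutation group. -/

set_option autoImplicit false
set_option maxRecDepth 100000

namespace Cfsg.Agent.Id.Fi23

open Cfsg.Agent.CG Cfsg.Agent.TCX

/-- How the relators of the enumeration follow from those of the table group. -/
def hints : List (ℕ × Bool × List ℕ) := [(16,false,[]),
  (24,false,[]),
  (31,false,[]),
  (37,false,[]),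
  (42,false,[]),
  (46,false,[]),
  (57,false,[]),
  (52,false,[7]),
  (53,false,[]),
  (15,false,[]),
  (23,false,[]),
  (30,false,[]),
  (36,false,[]),
  (41,false,[]),
  (57,false,[]),
  (49,false,[]),
  (50,false,[6]),
  (51,false,[]),
  (14,false,[]),
  (22,false,[]),
  (29,false,[]),
  (35,false,[]),
  (57,false,[]),
  (45,false,[]),
  (47,false,[5]),
  (48,false,[]),
  (13,false,[]),
  (21,false,[]),
  (28,false,[]),
  (57,false,[]),
  (40,false,[]),
  (43,false,[]),
  (44,false,[]),
  (12,false,[]),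
  (20,false,[]),
  (57,false,[]),
  (34,false,[]),
  (39,false,[]),
  (11,false,[]),
  (57,false,[]),
  (27,false,[]),
  (33,false,[]),
  (17,false,[]),
  (25,false,[]),
  (38,false,[]),
  (57,false,[]),
  (57,false,[]),
  (19,false,[]),
  (26,false,[]),
  (32,false,[]),
  (18,false,[]),
  (54,false,[]),
  (57,false,[]),
  (57,false,[]),
  (10,false,[]),
  (56,true,[]),
  (56,false,[]),
  (55,false,[]),
  (55,true,[])]

instance factBounds : Fact (Bounds CG.Fi23.tcR CG.Fi23.tcS 4089470473293004800) :=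
  ⟨bounds_of_ders (n := 10) (inv := invOf TCX.Fi23.invL) (hs := hints) TCX.Fi23.bounds (by decide +kernel) (invOf_ge' rfl)
    (by decide +kernel) (by decide +kernel) (by decide +kernel)⟩

/-- The letter of a generator. -/
def code : Spor.Fi23.Gen → ℕ
  | .a => 0
  | .b => 1
  | .c => 2
  | .d => 3
  | .e => 4
  | .f => 5
  | .g => 6
  | .j => 7
  | .h => 8
  | .i => 9

/-- The table of letters. -/
def tab : List (Spor.Fi23.Gen × Bool) := [(.a, true), (.b, true), (.c, true), (.d, true), (.e, true), (.f, true), (.g, true), (.j, true), (.h, true), (.i, true)]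

/-- The values of the letters in the presented group. -/
def y : ℕ → Spor.Fi23 := letter Spor.Fi23.edges Spor.Fi23.extra tab

theorem y_inv : ∀ a, y (invOf TCX.Fi23.invL a) = (y a)⁻¹ :=
  letter_inv (I := Spor.coxNodes Spor.Fi23.edges) (by decide +kernel) (fun _ h => node_sq _ _ h) (invOf_ge rfl)

theorem y_code : ∀ γ, y (code γ) = PresentedGroup.of γ := by
  intro γ; cases γ <;> rfl

theorem y_rels : ∀ r ∈ TCX.Fi23.R, ev y r = 1 :=
  ders_sound (hs := TCX.Fi23.hints) y_inv (letter_rels y_inv y_code) (by decide +kernel)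

theorem exists_iso : ∃ e : Spor.Fi23 ≃* CG.Fi23.PG, ∀ γ, e (PresentedGroup.of γ) = CG.Fi23.act.gen (code γ) :=
  iso_of_bound y_code (by intro γ; cases γ <;> decide) (TCX.Fi23.bounds _ y y_rels) CG.Fi23.hinv
    (CG.Fi23.base.rels (by decide +kernel)) CG.Fi23.tabOK.cl_eq_top
    (by
      intro a ha
      rw [List.mem_range] at ha
      interval_cases a
      · exact ⟨.a, Or.inl rfl⟩
      · exact ⟨.b, Or.inl rfl⟩
      · exact ⟨.c, Or.inl rfl⟩
      · exact ⟨.d, Or.inl rfl⟩
      · exact ⟨.e, Or.inl rfl⟩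
      · exact ⟨.f, Or.inl rfl⟩
      · exact ⟨.g, Or.inl rfl⟩
      · exact ⟨.j, Or.inl rfl⟩
      · exact ⟨.h, Or.inl rfl⟩
      · exact ⟨.i, Or.inl rfl⟩)
    CG.Fi23.card.ge

theorem iso : Nonempty (Spor.Fi23 ≃* CG.Fi23.PG) := exists_iso.nonempty

theorem card : Nat.card Spor.Fi23 = 4089470473293004800 := by
  obtain ⟨e⟩ := iso
  rw [Nat.card_congr e.toEquiv, CG.Fi23.card]

end Cfsg.Agent.Id.Fi23
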