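import Cfsg.Agent.Lib.Id.Basic

/-! Identification of a group given by generators inside an ambient group with a presented table group. -/

set_option autoImplicit false

namespace Cfsg.Agent.Id

open Cfsg.Agent.CG

/-- `X ≤ M` maps onto `G` with kernel `C`, from a presentation of `G` and a lower bound for `|X|`. -/
theorem exists_hom_of_pres {G M : Type*} [Group G] [Group M] {gen : ℕ → G} {R : List (List ℕ)}
    {S : List ℕ} {N : ℕ} (hb : Bounds R S N) (hG : ∀ r ∈ R, ev gen r = 1) (hS : cl gen S = ⊤)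
    (hN : Nat.card G = N) (hN0 : 0 < N) (X C : Subgroup M) [C.Normal] [Finite X] (hCX : C ≤ X)
    (y : ℕ → M) (hR : ∀ r ∈ R, ev y r ∈ C) {T : List ℕ} (hT : cl gen T = ⊤)
    (hw : ∀ i ∈ T, ∃ v : List ℕ, (∀ a ∈ v, a ∈ S) ∧ gen i = ev gen v ∧ ev y v ∈ X)
    (hX : X ≤ cl y S ⊔ C) (hc : Nat.card C * N < 2 * Nat.card X) :
    ∃ f : X →* G, Function.Surjective f ∧ f.ker = C.subgroupOf X ∧
      ∀ a ∈ S, ∀ h : y a ∈ X, f ⟨y a, h⟩ = gen a := by
  have hfin : Finite G := Nat.finite_of_card_ne_zero (by omega)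
  let π := QuotientGroup.mk' C
  obtain ⟨φ, hφ⟩ := hb.lift hG hS hN.ge (fun a => π (y a)) (fun r hr => by
    rw [← map_ev y π r]; exact (QuotientGroup.eq_one_iff _).2 (hR r hr))
  have key : ∀ v : List ℕ, (∀ a ∈ v, a ∈ S) → φ (ev gen v) = π (ev y v) := by
    intro v hv
    rw [map_ev, map_ev]
    exact ev_congr _ fun a ha => hφ a (hv a ha)
  have h1 : φ.range ≤ X.map π := by
    rw [MonoidHom.range_eq_map, ← hT, map_cl]
    apply cl_le
    intro i hi
    obtain ⟨v, h1, h2, h3⟩ := hw i hi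
    exact ⟨_, h3, by rw [h2, key v h1]⟩
  have h2 : X.map π ≤ φ.range := by
    rw [Subgroup.map_le_iff_le_comap]
    refine hX.trans (sup_le (cl_le _ fun a ha => ⟨gen a, hφ a ha⟩) fun c hc => ?_)
    rw [Subgroup.mem_comap, show π c = 1 from (QuotientGroup.eq_one_iff _).2 hc]
    exact one_mem _
  let ψ : X →* φ.range := (π.comp X.subtype).codRestrict _ fun x => h2 ⟨x, x.2, rfl⟩
  have hψ : Function.Surjective ψ := by
    intro z
    obtain ⟨x, hx, e⟩ := h1 z.2
    exact ⟨⟨x, hx⟩, Subtype.ext e⟩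
  have hker : ψ.ker = C.subgroupOf X := by
    ext x
    rw [MonoidHom.mem_ker, Subgroup.mem_subgroupOf, Subtype.ext_iff]
    exact QuotientGroup.eq_one_iff _
  have c1 : Nat.card X = Nat.card φ.range * Nat.card C := by
    rw [← Nat.card_congr (QuotientGroup.quotientKerEquivOfSurjective ψ hψ).toEquiv,
      ← Nat.card_congr (Subgroup.subgroupOfEquivOfLe hCX).toEquiv, ← hker,
      ← Subgroup.card_eq_card_quotient_mul_card_subgroup]
  have c2 : Nat.card G = Nat.card φ.range * Nat.card φ.ker := by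
    rw [← Nat.card_congr (QuotientGroup.quotientKerEquivRange φ).toEquiv,
      ← Subgroup.card_eq_card_quotient_mul_card_subgroup]
  have c3 : Nat.card φ.ker = 1 := by
    have p1 : 0 < Nat.card φ.ker := Nat.card_pos
    by_contra hne
    have p2 : 2 ≤ Nat.card φ.ker := by omega
    rw [c1, ← hN, c2] at hc
    nlinarith [Nat.mul_le_mul_left (Nat.card C * Nat.card φ.range) p2]
  have hinj : Function.Injective φ := (MonoidHom.ker_eq_bot_iff φ).1 (Subgroup.card_eq_one.1 c3)
  let e := MonoidHom.ofInjective hinj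
  refine ⟨e.symm.toMonoidHom.comp ψ, e.symm.surjective.comp hψ, ?_, fun a ha h => ?_⟩
  · rw [← hker]; ext x; simp [MonoidHom.mem_ker]
  · simp only [MonoidHom.comp_apply, MulEquiv.coe_toMonoidHom, MulEquiv.symm_apply_eq]
    exact Subtype.ext (hφ a ha).symm

/-- The centre of a table group is trivial, from the list of the centraliser of a subgroup. -/
theorem center_eq_bot_of_cent {G X : Type*} [Group G] [MulAction G X] {A : Act G X} {B : List ℕ}
    (hB : A.IsBase B) {P : Subgroup G} {F : List (List ℕ)}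
    (hF : ∀ g ∈ Subgroup.centralizer (P : Set G), ∃ φ ∈ F, g = ev A.gen φ) (T : List ℕ)
    (h : allL (fun φ => bor (eqW A.app B φ [])
      (anyL (fun a => bnot (eqW A.app B (a :: φ) (app2 φ [a]))) T)) F = true) :
    Subgroup.center G = ⊥ := by
  rw [eq_bot_iff]
  intro z hz
  obtain ⟨φ, h1, rfl⟩ := hF z fun g _ => Subgroup.mem_center_iff.1 hz g
  have := (allL_iff _ _).1 h φ h1
  rw [bor_eq, anyL_iff] at this
  rcases this with h2 | ⟨a, -, h2⟩
  · exact hB.ev_eq h2
  · rw [bnot_eq] at h2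
    refine absurd ?_ (A.ev_ne_of_eqW hB.1 h2)
    rw [app2_eq, ev_cons, ev_append, ev_singleton]
    exact Subgroup.mem_center_iff.1 hz _

/-- From a surjection with central kernel onto a centreless group to the central quotient. -/
theorem quotient_center_equiv {X G : Type*} [Group X] [Group G] (f : X →* G)
    (hf : Function.Surjective f) (hk : f.ker ≤ Subgroup.center X) (hG : Subgroup.center G = ⊥) :
    Nonempty (X ⧸ Subgroup.center X ≃* G) := by
  have : Subgroup.center X = f.ker := by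
    refine le_antisymm (fun z hz => ?_) hk
    rw [MonoidHom.mem_ker, ← Subgroup.mem_bot, ← hG, Subgroup.mem_center_iff]
    intro g
    obtain ⟨x, rfl⟩ := hf g
    rw [← map_mul, ← map_mul, Subgroup.mem_center_iff.1 hz x]
  exact ⟨(QuotientGroup.quotientMulEquivOfEq this).trans
    (QuotientGroup.quotientKerEquivOfSurjective f hf)⟩

section Coded
variable {G M V : Type*} [Group G] [Group M] [MulAction M V]

/-- The word `u` equals `v` up to a power (below `c`) of the letter `s`. -/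
noncomputable def eqC (app : ℕ → ℕ → ℕ) (B : List ℕ) (s c : ℕ) (u v : List ℕ) : Bool :=
  bnot (allLt (fun k => bnot (eqW app B u (app2 (repL k s) v))) c)

theorem eqC_sound {A : Act M V} {B : List ℕ} (hB : A.IsBase B) {s c : ℕ} {u v : List ℕ}
    (h : eqC A.app B s c u v = true) : ∃ k : ℕ, ev A.gen u = A.gen s ^ k * ev A.gen v := by
  unfold eqC at h
  rw [bnot_eq, ← Bool.not_eq_true, allLt_iff] at h
  push Not at h
  obtain ⟨k, -, hk⟩ := h
  rw [ne_eq, bnot_eq, Bool.not_eq_false] at hk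
  exact ⟨k, by rw [hB.ev_eq hk, app2_eq, ev_append, ev_repL]⟩

/-- The letters in the first components are words in `S`, up to powers of `s`. -/
noncomputable def wordsC (app : ℕ → ℕ → ℕ) (B : List ℕ) (s c : ℕ) (S : List ℕ)
    (L : List (ℕ × List ℕ)) : Bool :=
  allL (fun p => band (allL (fun a => memL a S) p.2) (eqC app B s c [p.1] p.2)) L

theorem wordsC_sound {A : Act M V} {B : List ℕ} (hB : A.IsBase B) {s c : ℕ} {S : List ℕ}
    {L : List (ℕ × List ℕ)} (h : wordsC A.app B s c S L = true) :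
    ∀ p ∈ L, (∀ a ∈ p.2, a ∈ S) ∧ ∃ k : ℕ, A.gen p.1 = A.gen s ^ k * ev A.gen p.2 := by
  intro p hp
  have := (allL_iff _ _).1 h p hp
  rw [band_eq, allL_iff] at this
  refine ⟨fun a ha => (memL_iff _ _).1 (this.1 a ha), ?_⟩
  simpa using eqC_sound hB this.2

theorem wordsC_mem {A : Act M V} {B : List ℕ} (hB : A.IsBase B) {s c : ℕ} {S : List ℕ}
    {L : List (ℕ × List ℕ)} (h : wordsC A.app B s c S L = true) :
    ∀ p ∈ L, A.gen p.1 ∈ cl A.gen S ⊔ Subgroup.zpowers (A.gen s) := by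
  intro p hp
  obtain ⟨h1, k, h2⟩ := wordsC_sound hB h p hp
  rw [h2]
  exact mul_mem (Subgroup.mem_sup_right (Subgroup.npow_mem_zpowers _ _))
    (Subgroup.mem_sup_left (ev_mem _ fun a ha => gen_mem_cl _ (h1 a ha)))

/-- The coded form of `exists_hom_of_pres`. -/
theorem exists_hom_of_coded [Finite M] {Y : Type*} [MulAction G Y] {AG : Act G Y} {BG : List ℕ}
    (hBG : AG.IsBase BG) {R : List (List ℕ)} {S : List ℕ} {N : ℕ} (hb : Bounds R S N)
    (hG : ∀ r ∈ R, ev AG.gen r = 1) (hS : cl AG.gen S = ⊤) (hN : Nat.card G = N) (hN0 : 0 < N)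
    {A : Act M V} {B : List ℕ} (hB : A.IsBase B) {s c : ℕ} (hs : A.gen s ∈ Subgroup.center M)
    (hc0 : 0 < c) (hsc : eqW A.app B (repL c s) [] = true) (X : Subgroup M) (hsX : A.gen s ∈ X)
    (hR : allL (fun r => eqC A.app B s c r []) R = true)
    {W : List (ℕ × List ℕ)} (hT : cl AG.gen (W.map Prod.fst) = ⊤) (hTX : ∀ p ∈ W, A.gen p.1 ∈ X)
    (hW1 : allL (fun p => eqW AG.app BG [p.1] p.2) W = true) (hW2 : wordsC A.app B s c S W = true)
    (hX : X ≤ cl A.gen S ⊔ Subgroup.zpowers (A.gen s))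
    {L : List Lvl} (hL : ChainOK A L []) {U : List (ℕ × List ℕ)} (hU : wordsC A.app B s c S U = true)
    (hLU : chainIn (U.map Prod.fst) L = true) (hc : c * N < 2 * prodN L) :
    ∃ f : X →* G, Function.Surjective f ∧ f.ker = (Subgroup.zpowers (A.gen s)).subgroupOf X ∧
      ∀ a ∈ S, ∀ h : A.gen a ∈ X, f ⟨A.gen a, h⟩ = AG.gen a := by
  have hle : Subgroup.zpowers (A.gen s) ≤ Subgroup.center M := (Subgroup.zpowers_le).2 hs
  have : (Subgroup.zpowers (A.gen s)).Normal := ⟨fun n hn g => by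
    rw [Subgroup.mem_center_iff.1 (hle hn) g, mul_inv_cancel_right]; exact hn⟩
  have hCX : Subgroup.zpowers (A.gen s) ≤ X := (Subgroup.zpowers_le).2 hsX
  have hw : ∀ i ∈ W.map Prod.fst, ∃ v : List ℕ, (∀ a ∈ v, a ∈ S) ∧ AG.gen i = ev AG.gen v ∧
      ev A.gen v ∈ X := by
    intro i hi
    obtain ⟨p, hp, rfl⟩ := List.mem_map.1 hi
    obtain ⟨h1, k, h2⟩ := wordsC_sound hB hW2 p hp
    refine ⟨p.2, h1, by simpa using hBG.ev_eq ((allL_iff _ _).1 hW1 p hp), ?_⟩
    have := hTX p hp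
    rw [h2] at this
    exact (mul_mem_cancel_left (pow_mem hsX k)).1 this
  have hR' : ∀ r ∈ R, ev A.gen r ∈ Subgroup.zpowers (A.gen s) := by
    intro r hr
    obtain ⟨k, hk⟩ := eqC_sound hB ((allL_iff _ _).1 hR r hr)
    rw [hk, ev_nil, mul_one]; exact Subgroup.npow_mem_zpowers _ _
  -- the letters of `S` lie in `X`
  have hSX : cl A.gen S ≤ X := by
    let π := QuotientGroup.mk' (Subgroup.zpowers (A.gen s))
    obtain ⟨φ, hφ⟩ := hb.lift hG hS hN.ge (fun a => π (A.gen a)) (fun r hr => by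
      rw [← map_ev A.gen π r]; exact (QuotientGroup.eq_one_iff _).2 (hR' r hr))
    have h1 : φ.range ≤ X.map π := by
      rw [MonoidHom.range_eq_map, ← hT, map_cl]
      apply cl_le
      intro i hi
      obtain ⟨v, h1, h2, h3⟩ := hw i hi
      refine ⟨_, h3, ?_⟩
      rw [h2, map_ev, map_ev]
      exact ev_congr _ fun a ha => (hφ a (h1 a ha)).symm
    apply cl_le
    intro a ha
    obtain ⟨x, hx, e⟩ := h1 ⟨AG.gen a, hφ a ha⟩
    have : x⁻¹ * A.gen a ∈ X := hCX (QuotientGroup.eq.1 e)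
    exact (mul_mem_cancel_left (inv_mem hx)).1 this
  have hP : prodN L ≤ Nat.card X := hL.prodN_le_card_of_mem fun l hl a ha => by
    obtain ⟨p, hp, rfl⟩ := List.mem_map.1 (chainIn_mem hLU l hl a ha)
    exact sup_le hSX hCX (wordsC_mem hB hU p hp)
  have hC : Nat.card (Subgroup.zpowers (A.gen s)) ≤ c := by
    rw [Nat.card_zpowers]
    apply orderOf_le_of_pow_eq_one hc0
    rw [← ev_repL]; exact hB.ev_eq hsc
  exact exists_hom_of_pres hb hG hS hN hN0 X _ hCX A.gen hR' hT hw hX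
    (lt_of_le_of_lt (Nat.mul_le_mul_right _ hC) (hc.trans_le (Nat.mul_le_mul_left _ hP)))

end Coded

end Cfsg.Agent.Id
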