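import Cfsg.Agent.Lib.CG.Glue2

/-! Identification of a group acting on a set with a table permutation group. -/

set_option autoImplicit false

namespace Cfsg.Agent.Id

open Cfsg.Agent.CG

section
variable (X : Type*) {Ω : Type*} [Group X] [MulAction X Ω] {n : ℕ}

/-- The permutations of the indices that are induced by elements of `X`. -/
def realized (pt : Fin n → Ω) : Subgroup (Equiv.Perm (Fin n)) where
  carrier := {σ | ∃ x : X, ∀ j, x • pt j = pt (σ j)}
  one_mem' := ⟨1, fun j => by simp⟩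
  mul_mem' := by
    rintro σ τ ⟨x, hx⟩ ⟨y, hy⟩
    exact ⟨x * y, fun j => by rw [mul_smul, hy, hx]; rfl⟩
  inv_mem' := by
    rintro σ ⟨x, hx⟩
    exact ⟨x⁻¹, fun j => by rw [inv_smul_eq_iff, hx]; simp⟩

variable {X}

theorem exists_hom_of_realized [Finite X] {pt : Fin n → Ω} (hpt : Function.Injective pt)
    {P : Subgroup (Equiv.Perm (Fin n))} (hP : P ≤ realized X pt) (Z : Subgroup X)
    (hZ : ∀ z ∈ Z, ∀ j, z • pt j = pt j) (hN : Nat.card X ≤ Nat.card Z * Nat.card P) :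
    ∃ f : X →* P, Function.Surjective f ∧ f.ker = Z ∧ ∀ x j, x • pt j = pt ((f x).1 j) := by
  let Γ : Subgroup (X × P) :=
    { carrier := {g | ∀ j, g.1 • pt j = pt (g.2.1 j)}
      one_mem' := fun j => by simp
      mul_mem' := fun {g h} hg hh j => by
        rw [Prod.fst_mul, mul_smul, hh, hg]; rfl
      inv_mem' := fun {g} hg j => by
        rw [Prod.fst_inv, inv_smul_eq_iff, hg]; simp }
  let p1 : Γ →* X := (MonoidHom.fst X P).comp Γ.subtype
  let p2 : Γ →* P := (MonoidHom.snd X P).comp Γ.subtype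
  have h1 : Function.Injective p1 := by
    rw [injective_iff_map_eq_one]
    rintro ⟨⟨x, σ⟩, hg⟩ hx
    obtain rfl : x = 1 := hx
    refine Subtype.ext (Prod.ext rfl (Subtype.ext (Equiv.ext fun j => hpt ?_)))
    exact (hg j).symm.trans (one_smul _ _)
  have h2 : Function.Surjective p2 := fun σ => by
    obtain ⟨x, hx⟩ := hP σ.2
    exact ⟨⟨(x, σ), hx⟩, rfl⟩
  have : Finite Γ := Finite.of_injective p1 h1
  have h3 : Nat.card Γ = Nat.card p2.ker * Nat.card P := by
    rw [← Nat.card_congr (QuotientGroup.quotientKerEquivOfSurjective p2 h2).toEquiv, mul_comm,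
      ← Subgroup.card_eq_card_quotient_mul_card_subgroup]
  have h4 : Z ≤ p2.ker.map p1 := fun z hz => ⟨⟨(z, 1), hZ z hz⟩, rfl, rfl⟩
  have h5 : Nat.card (p2.ker.map p1) = Nat.card p2.ker :=
    (Nat.card_congr (p2.ker.equivMapOfInjective p1 h1).toEquiv).symm
  have h6 := Subgroup.card_le_of_le h4
  have h7 := Nat.card_le_card_of_injective p1 h1
  have h8 : 0 < Nat.card P := Nat.card_pos
  have h9 : Nat.card X ≤ Nat.card Γ := by
    rw [h3, ← h5]; exact hN.trans (Nat.mul_le_mul_right _ h6)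
  have hb : Function.Bijective p1 := h1.bijective_of_nat_card_le h9
  have h10 : Nat.card (p2.ker.map p1) ≤ Nat.card Z := by
    apply Nat.le_of_mul_le_mul_right _ h8
    rw [h5, ← h3]; exact h7.trans hN
  let e := MulEquiv.ofBijective p1 hb
  refine ⟨p2.comp e.symm.toMonoidHom, h2.comp e.symm.surjective, ?_, fun x j => ?_⟩
  · rw [Subgroup.eq_of_le_of_card_ge h4 h10]
    ext x
    obtain ⟨g, rfl⟩ := e.surjective x
    simp only [MonoidHom.mem_ker, MonoidHom.comp_apply, MulEquiv.coe_toMonoidHom,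
      MulEquiv.symm_apply_apply]
    exact (Subgroup.mem_map_iff_mem (K := p2.ker) (x := g) h1).symm
  · obtain ⟨g, rfl⟩ := e.surjective x
    simp only [MonoidHom.comp_apply, MulEquiv.coe_toMonoidHom, MulEquiv.symm_apply_apply]
    exact g.2 j

theorem exists_equiv_of_realized [Finite X] {pt : Fin n → Ω} (hpt : Function.Injective pt)
    {P : Subgroup (Equiv.Perm (Fin n))} (hP : P ≤ realized X pt) (hN : Nat.card X ≤ Nat.card P) :
    ∃ e : X ≃* P, ∀ x j, x • pt j = pt ((e x).1 j) := by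
  obtain ⟨f, h1, h2, h3⟩ := exists_hom_of_realized hpt hP ⊥ (by simp) (by simpa using hN)
  exact ⟨MulEquiv.ofBijective f ⟨(MonoidHom.ker_eq_bot_iff f).1 h2, h1⟩, h3⟩

end

/-- Orbit–stabiliser bound inside a possibly infinite group. -/
theorem card_le_of_orbit {G Ω : Type*} [Group G] [MulAction G Ω] (H : Subgroup G) (b : Ω)
    {S : Set Ω} (hS : S.Finite) (h : ∀ g ∈ H, g • b ∈ S)
    [Finite ↥(H ⊓ MulAction.stabilizer G b)] :
    Finite H ∧ Nat.card H ≤ S.ncard * Nat.card ↥(H ⊓ MulAction.stabilizer G b) := by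
  have e : MulAction.stabilizer H b ≃ ↥(H ⊓ MulAction.stabilizer G b) :=
    ⟨fun g => ⟨g.1.1, g.1.2, g.2⟩, fun g => ⟨⟨g.1, g.2.1⟩, g.2.2⟩, fun _ => rfl, fun _ => rfl⟩
  have hsub : MulAction.orbit H b ⊆ S := by
    rintro _ ⟨g, rfl⟩; exact h g g.2
  have : Finite (MulAction.orbit H b) := (hS.subset hsub).to_subtype
  have : Finite (MulAction.stabilizer H b) := Finite.of_equiv _ e.symm
  have e2 := MulAction.orbitProdStabilizerEquivGroup H b
  refine ⟨Finite.of_equiv _ e2, ?_⟩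
  rw [← Nat.card_congr e2, Nat.card_prod, Nat.card_congr e]
  exact Nat.mul_le_mul_right _ (Set.ncard_le_ncard hsub hS)

theorem card_le_of_orbit' {G Ω : Type*} [Group G] [MulAction G Ω] (H : Subgroup G) (b : Ω)
    {S : Set Ω} {m N : ℕ} (hS : S.Finite ∧ S.ncard ≤ m) (h : ∀ g ∈ H, g • b ∈ S)
    (hK : Finite ↥(H ⊓ MulAction.stabilizer G b) ∧
      Nat.card ↥(H ⊓ MulAction.stabilizer G b) ≤ N) : Finite H ∧ Nat.card H ≤ m * N := by
  have := hK.1
  obtain ⟨h1, h2⟩ := card_le_of_orbit H b hS.1 h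
  exact ⟨h1, h2.trans (Nat.mul_le_mul hS.2 hK.2)⟩

section
variable {n w : ℕ} [NeZero n] {app : ℕ → ℕ → ℕ} {r k : ℕ} {partner : ℕ → ℕ}
  {slp : ℕ → Bool × List ℕ}

theorem permOf_val (h : TabOK n w app r k partner slp) (a : ℕ) (j : Fin n) :
    (permOf n w app a j : ℕ) = app a (w * j) / w := by
  obtain ⟨⟨i, hi, e⟩, h2⟩ := (h.good a).1 (w * j) (okc_mul j)
  rw [ptc_mul' h.w_pos] at h2
  rw [h2, e, ptc_mul h.w_pos hi, Nat.mul_div_cancel_left _ h.w_pos]

theorem tabGroup_le (h : TabOK n w app r k partner slp) {inv : ℕ → ℕ}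
    (hinv : ∀ a, h.act.gen (inv a) = (h.act.gen a)⁻¹) {R : Subgroup (Equiv.Perm (Fin n))}
    (L : List ℕ) (hL : ∀ a ∈ L, permOf n w app a ∈ R)
    (hall : allLt (fun a => bor (memL a L) (memL (inv a) L)) r = true) :
    tabGroup n w app r ≤ R := by
  apply cl_le
  intro a ha
  have := (allLt_iff _ _).1 hall a (List.mem_range.1 ha)
  rw [bor_eq, memL_iff, memL_iff] at this
  rcases this with h1 | h1
  · exact hL a h1
  · have h2 : permOf n w app (inv a) = (permOf n w app a)⁻¹ := congrArg Subtype.val (hinv a)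
    have := inv_mem (hL _ h1)
    rwa [h2, inv_inv] at this

/-- A first level of full length gives transitivity. -/
theorem transitive_of_chain (h : TabOK n w app r k partner slp) {l : Lvl} {L : List Lvl}
    (hC : ChainOK h.act (l :: L) []) (hN : l.N = n) (i j : Fin n) :
    ∃ g ∈ tabGroup n w app r, g i = j := by
  obtain ⟨f, hf, -⟩ := hC.1.orbit_inj (K := ⊤) (fun _ _ => Subgroup.mem_top _)
  have h1 : MulAction.orbit ↥(⊤ ⊓ h.act.fix []) (h.act.pt l.b) = Set.univ := by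
    apply Set.eq_of_subset_of_ncard_le (Set.subset_univ _)
    have := Nat.card_le_card_of_injective f hf
    simpa [hN] using this
  obtain ⟨g, hg⟩ : i ∈ MulAction.orbit ↥(⊤ ⊓ h.act.fix []) (h.act.pt l.b) := h1 ▸ Set.mem_univ _
  obtain ⟨g', hg'⟩ : j ∈ MulAction.orbit ↥(⊤ ⊓ h.act.fix []) (h.act.pt l.b) := h1 ▸ Set.mem_univ _
  refine ⟨(g' * g⁻¹).1.1, (g' * g⁻¹).1.2, ?_⟩
  change (g' * g⁻¹) • i = j
  simp only at hg hg'
  rw [← hg, ← hg', mul_smul, inv_smul_smul]

end

end Cfsg.Agent.Id
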