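import Cfsg.Agent.Lib.Id.Basic
import Cfsg.Prelude.Def_Transfer
import Cfsg.Prelude.Def_Solvable

/-! Centralisers in table groups: transport, orders, actions on sets of points, extraspecial subgroups. -/

set_option autoImplicit false

namespace Cfsg.Agent.Id

open Cfsg.Agent.CG
open scoped Pointwise commutatorElement

/-- Centralisers of corresponding elements are isomorphic. -/
def centEquiv {G H : Type*} [Group G] [Group H] (e : G ≃* H) (g : G) :
    Subgroup.centralizer ({g} : Set G) ≃* Subgroup.centralizer ({e g} : Set H) where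
  toFun x := ⟨e x, by
    have := x.2
    rw [Subgroup.mem_centralizer_singleton_iff] at *
    rw [← map_mul, this, map_mul]⟩
  invFun y := ⟨e.symm y, by
    have := y.2
    rw [Subgroup.mem_centralizer_singleton_iff] at *
    apply e.injective
    simpa using this⟩
  left_inv x := by simp
  right_inv y := by simp
  map_mul' x y := by simp

section
variable {G X : Type*} [Group G] [MulAction G X] {A : Act G X} {B : List ℕ}

theorem card_cent_le [Finite G] {E : Enum} {test : (ℕ → ℕ) → Bool} {N kl kh c : ℕ}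
    (h : E.OK A.app test 0 N kl kh) (hinv : ∀ a, A.gen (E.inv a) = (A.gen a)⁻¹)
    (hY : ∀ y ∈ E.Y, A.ok y) (hN : 0 < N) (hc : Nat.card G ≤ N * c) :
    Nat.card (Subgroup.centralizer {A.gen E.t}) ≤ c :=
  Nat.le_of_mul_le_mul_left ((h.card_centralizer_le hinv hY).trans hc) hN

theorem ev_mem_cent (hB : A.IsBase B) {t : ℕ} {u : List ℕ}
    (h : eqW A.app B (app2 u [t]) (t :: u) = true) :
    ev A.gen u ∈ Subgroup.centralizer {A.gen t} := by
  have := hB.ev_eq h
  rw [Subgroup.mem_centralizer_singleton_iff]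
  simpa [app2_eq] using this

theorem orderOf_gen_two (hB : A.IsBase B) {t : ℕ} (h1 : eqW A.app B [t, t] [] = true)
    (h2 : eqW A.app B [t] [] = false) : orderOf (A.gen t) = 2 :=
  orderOf_eq_prime (by simpa [sq] using hB.ev_eq h1) (by simpa using A.ev_ne_of_eqW hB.1 h2)

/-- The keys of the first words increase, starting above `k`. -/
noncomputable def incrKeys (app : ℕ → ℕ → ℕ) (B : List ℕ) (M : ℕ) (Ws : List (List ℕ × List ℕ))
    (k : ℕ) : Bool :=
  List.rec (motive := fun _ => ℕ → Bool) (fun _ => true)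
    (fun p _ ih k => force (keyOf (evp app p.1) B M) fun κ => band (blt k κ) (ih κ)) Ws k

theorem incrKeys_spec {app : ℕ → ℕ → ℕ} {M : ℕ} : ∀ {Ws : List (List ℕ × List ℕ)} {k : ℕ},
    incrKeys app B M Ws k = true → (∀ p ∈ Ws, k < keyOf (evp app p.1) B M) ∧
      Ws.Pairwise fun p q => keyOf (evp app p.1) B M < keyOf (evp app q.1) B M
  | [], _, _ => by simp
  | p :: Ws, k, h => by
    have e : incrKeys app B M (p :: Ws) k = force (keyOf (evp app p.1) B M) fun κ =>
      band (blt k κ) (incrKeys app B M Ws κ) := rfl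
    rw [e, force_eq, band_eq, blt_iff] at h
    obtain ⟨h1, h2⟩ := incrKeys_spec h.2
    exact ⟨List.forall_mem_cons.2 ⟨h.1, fun q hq => h.1.trans (h1 q hq)⟩,
      List.pairwise_cons.2 ⟨h1, h2⟩⟩

theorem exists_word_of_card [Finite G] (hB : A.IsBase B) {K : Subgroup G} {M : ℕ}
    {Ws : List (List ℕ × List ℕ)} (h1 : ∀ p ∈ Ws, ev A.gen p.1 ∈ K)
    (h2 : incrKeys A.app B M Ws 0 = true) (h3 : Nat.card K ≤ Ws.length) {g : G} (hg : g ∈ K) :
    ∃ p ∈ Ws, ev A.gen p.1 = g := by
  classical
  have h4 : (Ws.map fun p => ev A.gen p.1).Nodup := by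
    rw [List.Nodup, List.pairwise_map]
    refine (incrKeys_spec h2).2.imp fun {p q} h e => h.ne (keyOf_congr _ fun y hy => ?_)
    exact (A.rep_ev p.1).apply_eq (e ▸ A.rep_ev q.1) (hB.1 y hy)
  have h5 := Set.eq_of_subset_of_ncard_le (s := ((Ws.map fun p => ev A.gen p.1).toFinset : Set G))
    (t := K) (fun x hx => by
      obtain ⟨p, hp, rfl⟩ := List.mem_map.1 (List.mem_toFinset.1 hx)
      exact h1 p hp) (by
      rw [Set.ncard_coe_finset, List.toFinset_card_of_nodup h4, List.length_map]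
      exact h3)
  exact List.mem_map.1 (List.mem_toFinset.1 ((Set.ext_iff.1 h5 g).2 hg))

/-- All elements of order `r` are conjugate to `t`, from a list of the elements of a Sylow subgroup. -/
theorem isConj_of_sylow [Finite G] (hB : A.IsBase B) {S : List ℕ} {r n t M : ℕ} (hr : r.Prime)
    (hS : Nat.card (cl A.gen S) = r ^ n) (hn : ¬ r ^ (n + 1) ∣ Nat.card G)
    {Ws : List (List ℕ × List ℕ)} (h1 : lettersIn S (Ws.map Prod.fst) = true)
    (h2 : incrKeys A.app B M Ws 0 = true) (h3 : r ^ n ≤ Ws.length)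
    (h4 : allL (fun p : List ℕ × List ℕ => bor (eqW A.app B p.1 [])
      (bor (bnot (eqW A.app B (powL r p.1) [])) (eqW A.app B (app2 p.2 p.1) (t :: p.2)))) Ws = true)
    {x : G} (hx : orderOf x = r) : IsConj x (A.gen t) := by
  have := Fact.mk hr
  let P : Sylow r G := Sylow.ofCard (cl A.gen S) (by
    have h0 : Nat.card G ≠ 0 := Nat.card_pos.ne'
    have a := (hr.pow_dvd_iff_le_factorization h0).1 (hS ▸ (cl A.gen S).card_subgroup_dvd_card)
    have b : ¬ n + 1 ≤ (Nat.card G).factorization r :=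
      fun h => hn ((hr.pow_dvd_iff_le_factorization h0).2 h)
    rw [hS, show (Nat.card G).factorization r = n by omega])
  obtain ⟨Q, hQ⟩ := (IsPGroup.of_card (p := r) (G := Subgroup.zpowers x) (n := 1)
    (by rw [Nat.card_zpowers, hx, pow_one])).exists_le_sylow
  obtain ⟨g, hg⟩ := MulAction.exists_smul_eq G Q P
  have h5 : g * x * g⁻¹ ∈ (g • Q : Sylow r G) :=
    Subgroup.smul_mem_pointwise_smul x (MulAut.conj g) (Q : Subgroup G) (hQ (Subgroup.mem_zpowers x))
  rw [hg] at h5
  obtain ⟨p, hp, e⟩ := exists_word_of_card hB (K := cl A.gen S) (fun p hp => ev_mem _ fun a ha =>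
    gen_mem_cl _ (lettersIn_iff.1 h1 _ (List.mem_map_of_mem hp) a ha)) h2 (hS ▸ h3) h5
  have h6 := (allL_iff _ _).1 h4 p hp
  have h7 : orderOf (ev A.gen p.1) = r := by
    rw [e, ← hx]; exact (MulAut.conj g).orderOf_eq x
  rw [bor_eq, bor_eq, bnot_eq] at h6
  rcases h6 with h6 | h6 | h6
  · rw [hB.ev_eq h6, ev_nil, orderOf_one] at h7
    exact absurd h7.symm hr.ne_one
  · refine absurd ?_ (A.ev_ne_of_eqW hB.1 h6)
    rw [ev_powL, ev_nil, ← h7, pow_orderOf_eq_one]
  · have h8 := hB.ev_eq h6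
    rw [app2_eq, ev_append, ev_cons, e] at h8
    refine isConj_iff.2 ⟨ev A.gen p.2 * g, ?_⟩
    rw [← mul_inv_eq_iff_eq_mul] at h8
    rw [← h8]; group

end

section
variable {n w : ℕ} [NeZero n] {app : ℕ → ℕ → ℕ} {r k : ℕ} {partner : ℕ → ℕ}
  {slp : ℕ → Bool × List ℕ} {m w' : ℕ} [NeZero m] {app' : ℕ → ℕ → ℕ} {r' k' : ℕ} {partner' : ℕ → ℕ}
  {slp' : ℕ → Bool × List ℕ}

/-- The sets of points described by masks. -/
def mset (n : ℕ) (msk : ℕ → ℕ) (m : ℕ) (j : Fin m) : Set (Fin n) := {x | bit (msk x) j = true}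

/-- The check that the word `u` permutes the sets as the function `σ`. -/
noncomputable def chkSet (w : ℕ) (app : ℕ → ℕ → ℕ) (u : List ℕ) (msk : ℕ → ℕ) (m : ℕ) (σ : ℕ → ℕ)
    (n : ℕ) : Bool :=
  comp app u fun f => allLt (fun x => force (msk x) fun s => force (msk (Nat.div (f (Nat.mul w x)) w))
    fun s' => bor (band (Nat.beq s 0) (Nat.beq s' 0)) (allLt (fun j =>
      Nat.beq (Nat.land (Nat.shiftRight s' (σ j)) 1) (Nat.land (Nat.shiftRight s j) 1)) m)) n

theorem ev_val (h : TabOK n w app r k partner slp) (u : List ℕ) (x : Fin n) :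
    ((ev h.act.gen u).1 x : ℕ) = evp app u (w * x) / w := by
  have h1 := h.act.ev_smul u (x := w * x) (okc_mul x)
  obtain ⟨i, hi, e⟩ := h.act.ok_evp u (x := w * x) (okc_mul x)
  have h3 : h.act.pt (w * x) = x := ptc_mul' h.w_pos x
  have h4 : h.act.pt (w * i) = ⟨i, hi⟩ := ptc_mul h.w_pos hi
  rw [h3, e, h4] at h1
  change evp app u (w * x) = _ at e
  rw [e, Nat.mul_div_cancel_left _ h.w_pos]
  exact congrArg Fin.val h1

omit [NeZero m] in
theorem smul_mset (h : TabOK n w app r k partner slp) {u : List ℕ} {msk σ : ℕ → ℕ}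
    (hc : chkSet w app u msk m σ n = true) (i j : Fin m) (e : σ i = j) :
    ev h.act.gen u • mset n msk m i = mset n msk m j := by
  rw [chkSet, comp_eq, allLt_iff] at hc
  ext y
  obtain ⟨x, rfl⟩ := (MulAction.toPerm (ev h.act.gen u)).surjective y
  rw [MulAction.toPerm_apply, Set.smul_mem_smul_set_iff]
  have h1 := hc x x.2
  rw [force_eq, force_eq, bor_eq, band_eq, beq_iff, beq_iff, allLt_iff] at h1
  have h2 : ((ev h.act.gen u • x : Fin n) : ℕ) = Nat.div (evp app u (Nat.mul w x)) w := ev_val h u x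
  change bit (msk x) i = true ↔ bit (msk (ev h.act.gen u • x : Fin n)) j = true
  rw [h2]
  rcases h1 with h1 | h1
  · rw [h1.1, h1.2, bit_eq_testBit, bit_eq_testBit]; simp
  · have h3 := (beq_iff _ _).1 (h1 i i.2)
    rw [e] at h3
    unfold bit
    rw [h3]

theorem permOf_mem_realized_mset (h : TabOK n w app r k partner slp)
    (h' : TabOK m w' app' r' k' partner' slp') {K : Subgroup (tabGroup n w app r)} {u : List ℕ}
    (hu : ev h.act.gen u ∈ K) {msk : ℕ → ℕ} {a : ℕ}
    (hc : chkSet w app u msk m (fun j => Nat.div (app' a (Nat.mul w' j)) w') n = true) :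
    permOf m w' app' a ∈ realized K (mset n msk m) :=
  ⟨⟨_, hu⟩, fun j => smul_mset h hc j _ (permOf_val h' a j).symm⟩

/-- The check that the points `L` separate the sets. -/
noncomputable def chkSep (msk : ℕ → ℕ) (L : List ℕ) (n m : ℕ) : Bool :=
  band (allL (fun x => blt x n) L) (allLt (fun i => allLt (fun j =>
    anyL (fun x => bnot (Nat.beq (Nat.land (Nat.shiftRight (msk x) i) 1)
      (Nat.land (Nat.shiftRight (msk x) j) 1))) L) i) m)

omit [NeZero n] [NeZero m] in
theorem mset_injective {msk : ℕ → ℕ} (L : List ℕ) (h : chkSep msk L n m = true) :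
    Function.Injective (mset n msk m) := by
  rw [chkSep, band_eq, allL_iff, allLt_iff] at h
  have key : ∀ i j : Fin m, j < i → mset n msk m i ≠ mset n msk m j := fun i j hij e => by
    obtain ⟨x, hx, h1⟩ := (anyL_iff _ _).1 ((allLt_iff _ _).1 (h.2 i i.2) j hij)
    have h2 : bit (msk x) i = bit (msk x) j :=
      Bool.eq_iff_iff.2 (Set.ext_iff.1 e ⟨x, (blt_iff _ _).1 (h.1 x hx)⟩)
    rw [bnot_eq, beq_false_iff] at h1
    rw [bit_eq_testBit, bit_eq_testBit] at h2
    have h3 : ∀ a b : ℕ, Nat.land (Nat.shiftRight a b) 1 = (a.testBit b).toNat := fun a b => by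
      rw [Nat.toNat_testBit, ← Nat.shiftRight_eq_div_pow]; exact Nat.and_one_is_mod _
    exact h1 (by rw [h3, h3, h2])
  intro i j e
  rcases lt_trichotomy i j with h1 | h1 | h1
  · exact absurd e.symm (key j i h1)
  · exact h1
  · exact absurd e (key i j h1)

end

/-- A pointwise stabiliser. -/
def fixL (X : Type*) {V : Type*} [Group X] [MulAction X V] (L : List V) : Subgroup X where
  carrier := {g | ∀ v ∈ L, g • v = v}
  one_mem' := fun _ _ => one_smul _ _
  mul_mem' := fun hg hh v hv => by rw [mul_smul, hh v hv, hg v hv]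
  inv_mem' := fun hg v hv => by rw [inv_smul_eq_iff, hg v hv]

theorem card_fixL_le {X V : Type*} [Group X] [Finite X] [MulAction X V] {L : List V} (b : V)
    {S : Set V} {m N : ℕ} (hS : S.Finite ∧ S.ncard ≤ m) (h : ∀ g : X, (∀ v ∈ L, g • v = v) → g • b ∈ S)
    (hN : Nat.card (fixL X (b :: L)) ≤ N) : Nat.card (fixL X L) ≤ m * N :=
  (card_le_of_orbit' (fixL X L) b hS h ⟨inferInstance, (Subgroup.card_le_of_le
    (H := fixL X L ⊓ MulAction.stabilizer X b) (K := fixL X (b :: L)) fun g hg =>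
      (List.forall_mem_cons (p := fun v => g • v = v)).2 ⟨hg.2, hg.1⟩).trans hN⟩).2

theorem card_fixL_le_one {X V : Type*} [Group X] [MulAction X V] {L : List V}
    (h : ∀ g : X, (∀ v ∈ L, g • v = v) → g = 1) : Nat.card (fixL X L) ≤ 1 :=
  (Subgroup.card_eq_one.2 ((Subgroup.eq_bot_iff_forall (fixL X L)).2 h)).le

theorem card_le_fixL {X V : Type*} [Group X] [MulAction X V] {N : ℕ}
    (h : Nat.card (fixL X ([] : List V)) ≤ N) : Nat.card X ≤ N := by
  rwa [show fixL X ([] : List V) = ⊤ from eq_top_iff.2 fun _ _ _ hv => by simp at hv,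
    Subgroup.card_top] at h

/-! Extraspecial groups. -/

/-- Elements `e i` with the relations of an extraspecial 2-group with central involution `t`. -/
structure ESData {X ι : Type*} [Group X] (t : X) (e : ι → X) (τ : ι → ι) : Prop where
  ne : t ≠ 1
  tt : t * t = 1
  comm : ∀ i, t * e i = e i * t
  rel : ∀ i j, j ≠ τ i → e i * e j = e j * e i
  rel' : ∀ i, e i * e (τ i) = t * (e (τ i) * e i)

theorem ESData.map {X Y ι : Type*} [Group X] [Group Y] {t : X} {e : ι → X} {τ : ι → ι}
    (h : ESData t e τ) (f : X →* Y) (hf : Function.Injective f) : ESData (f t) (fun i => f (e i)) τ :=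
  ⟨fun h1 => h.ne (hf (by rw [h1, map_one])), by rw [← map_mul, h.tt, map_one],
    fun i => by rw [← map_mul, h.comm, map_mul],
    fun i j hj => by rw [← map_mul, h.rel i j hj, map_mul],
    fun i => by rw [← map_mul, h.rel', map_mul, map_mul]⟩

theorem ESData.of_map {X Y ι : Type*} [Group X] [Group Y] {t : X} {e : ι → X} {τ : ι → ι}
    (f : X →* Y) (hf : Function.Injective f) (h : ESData (f t) (fun i => f (e i)) τ) : ESData t e τ :=
  ⟨fun h1 => h.ne (by rw [h1, map_one]), hf (by rw [map_mul, h.tt, map_one]),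
    fun i => hf (by rw [map_mul, h.comm, map_mul]),
    fun i j hj => hf (by rw [map_mul, h.rel i j hj, map_mul]),
    fun i => hf (by rw [map_mul, h.rel', map_mul, map_mul])⟩

section
variable {Q ι : Type*} [Group Q] [Finite Q] [Fintype ι] [DecidableEq ι] {t : Q} {e : ι → Q} {τ : ι → ι}

omit [Finite Q] [Fintype ι] [DecidableEq ι] in
theorem ESData.mem_center (h : ESData t e τ) (hQ : Subgroup.closure (Set.range e) = ⊤) :
    t ∈ Subgroup.center Q := by
  have : Subgroup.closure (Set.range e) ≤ Subgroup.centralizer {t} := by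
    rw [Subgroup.closure_le]
    rintro _ ⟨i, rfl⟩
    exact Subgroup.mem_centralizer_singleton_iff.2 (h.comm i).symm
  rw [Subgroup.mem_center_iff]
  exact fun g => Subgroup.mem_centralizer_singleton_iff.1 (this (hQ ▸ Subgroup.mem_top g))

omit [Finite Q] in
theorem ESData.exists_hom (h : ESData t e τ) (hτ : Function.Bijective τ)
    (hQ : Subgroup.closure (Set.range e) = ⊤) :
    ∃ φ : Q →* (ι → Multiplicative (ZMod 2)), Function.Surjective φ ∧ φ.ker = Subgroup.center Q ∧
      ∀ g x : Q, g * x = x * g ∨ g * x = t * (x * g) := by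
  classical
  have hc := Subgroup.mem_center_iff.1 (h.mem_center hQ)
  have key : ∀ x : Q, (∀ i, e i * x = x * e i ∨ e i * x = t * (x * e i)) →
      ∀ g : Q, g * x = x * g ∨ g * x = t * (x * g) := fun x hx g => by
    have hg : g ∈ Subgroup.closure (Set.range e) := hQ ▸ Subgroup.mem_top g
    induction hg using Subgroup.closure_induction with
    | mem _ hg => obtain ⟨i, rfl⟩ := hg; exact hx i
    | one => simp
    | mul a b _ _ ha hb =>
      rcases ha with ha | ha <;> rcases hb with hb | hb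
      · left; rw [mul_assoc, hb, ← mul_assoc, ha, mul_assoc]
      · right; rw [mul_assoc, hb, ← mul_assoc, hc a, mul_assoc, ← mul_assoc a, ha, mul_assoc]
      · right; rw [mul_assoc, hb, ← mul_assoc, ha]; group
      · left
        rw [mul_assoc, hb, ← mul_assoc, hc a, mul_assoc, ← mul_assoc a, ha, ← mul_assoc, ← mul_assoc,
          h.tt, one_mul, mul_assoc]
    | inv a _ ha =>
      rcases ha with ha | ha
      · left; rw [inv_mul_eq_iff_eq_mul, ← mul_assoc, ha]; group
      · right
        rw [inv_mul_eq_iff_eq_mul, ← mul_assoc, hc a, mul_assoc, ← mul_assoc a, ha, ← mul_assoc,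
          ← mul_assoc, h.tt]; group
  have flip : ∀ g x : Q, g * x = x * g ∨ g * x = t * (x * g) → x * g = g * x ∨ x * g = t * (g * x) :=
    fun g x hx => hx.imp Eq.symm fun h1 => by rw [h1, ← mul_assoc, h.tt, one_mul]
  have k1 : ∀ g j, g * e j = e j * g ∨ g * e j = t * (e j * g) := fun g j => key _ (fun i => by
    by_cases hj : j = τ i
    · exact Or.inr (hj ▸ h.rel' i)
    · exact Or.inl (h.rel i j hj)) g
  have k2 : ∀ g x : Q, g * x = x * g ∨ g * x = t * (x * g) := fun g x =>
    key x (fun i => flip _ _ (k1 x i)) g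
  have hne : ∀ {x y : Q}, x = t * y → ¬ x = y := fun h1 h2 => h.ne (by simpa [h2] using h1.symm)
  let φ : Q →* (ι → Multiplicative (ZMod 2)) := MonoidHom.mk'
    (fun g j => if g * e j = e j * g then 1 else Multiplicative.ofAdd 1) fun a b => by
      funext j
      rw [Pi.mul_apply]
      rcases k1 a j with ha | ha <;> rcases k1 b j with hb | hb
      · rw [if_pos ha, if_pos hb, if_pos (by rw [mul_assoc, hb, ← mul_assoc, ha, mul_assoc])]; rfl
      · rw [if_pos ha, if_neg (hne hb), if_neg (hne (by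
          rw [mul_assoc, hb, ← mul_assoc, hc a, mul_assoc, ← mul_assoc a, ha, mul_assoc])), one_mul]
      · rw [if_pos hb, if_neg (hne ha), if_neg (hne (by
          rw [mul_assoc, hb, ← mul_assoc, ha, mul_assoc, mul_assoc])), mul_one]
      · rw [if_neg (hne ha), if_neg (hne hb), if_pos (by
          rw [mul_assoc, hb, ← mul_assoc, hc a, mul_assoc, ← mul_assoc a, ha, ← mul_assoc, ← mul_assoc,
            h.tt, one_mul, mul_assoc])]
        rfl
  refine ⟨φ, ?_, ?_, k2⟩
  · rw [← MonoidHom.range_eq_top, eq_top_iff]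
    intro y _
    rw [← Finset.univ_prod_mulSingle y]
    refine prod_mem fun j _ => ?_
    obtain ⟨i, rfl⟩ := hτ.2 j
    have : y (τ i) = 1 ∨ y (τ i) = Multiplicative.ofAdd 1 := by
      generalize y (τ i) = c
      revert c; decide
    rcases this with h1 | h1 <;> rw [h1]
    · simp
    · refine ⟨e i, funext fun j => ?_⟩
      change (if e i * e j = e j * e i then 1 else Multiplicative.ofAdd 1) = _
      by_cases hj : j = τ i
      · rw [hj, Pi.mulSingle_eq_same, if_neg (hne (h.rel' i))]
      · rw [Pi.mulSingle_eq_of_ne hj, if_pos (h.rel i j hj)]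
  · ext g
    rw [MonoidHom.mem_ker, Subgroup.mem_center_iff]
    constructor
    · intro hg x
      have : Subgroup.closure (Set.range e) ≤ Subgroup.centralizer {g} := by
        rw [Subgroup.closure_le]
        rintro _ ⟨j, rfl⟩
        have h1 : (if g * e j = e j * g then 1 else Multiplicative.ofAdd (1 : ZMod 2)) = 1 :=
          congrFun hg j
        refine Subgroup.mem_centralizer_singleton_iff.2 (Eq.symm ?_)
        by_contra h2
        rw [if_neg h2] at h1
        exact absurd h1 (by decide)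
      exact Subgroup.mem_centralizer_singleton_iff.1 (this (hQ ▸ Subgroup.mem_top x))
    · exact fun hg => funext fun j => if_pos (hg _).symm

theorem ESData.card_eq (h : ESData t e τ) (hτ : Function.Bijective τ)
    (hQ : Subgroup.closure (Set.range e) = ⊤) :
    Nat.card Q = 2 ^ Fintype.card ι * Nat.card (Subgroup.center Q) ∧ 2 ≤ Nat.card (Subgroup.center Q) := by
  obtain ⟨φ, h1, h2, -⟩ := h.exists_hom hτ hQ
  constructor
  · rw [← h2, Subgroup.card_eq_card_quotient_mul_card_subgroup φ.ker,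
      Nat.card_congr (QuotientGroup.quotientKerEquivOfSurjective φ h1).toEquiv]
    simp
  · have : Nontrivial (Subgroup.center Q) :=
      ⟨⟨⟨t, h.mem_center hQ⟩, 1, fun h1 => h.ne (congrArg Subtype.val h1)⟩⟩
    exact Finite.one_lt_card

theorem ESData.isExtraspecial [Nonempty ι] (h : ESData t e τ) (hτ : Function.Bijective τ)
    (hQ : Subgroup.closure (Set.range e) = ⊤) (hc : Nat.card Q = 2 ^ (Fintype.card ι + 1)) :
    IsExtraspecial 2 Q := by
  have h1 : Nat.card (Subgroup.center Q) = 2 := by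
    have := (h.card_eq hτ hQ).1
    rw [hc, pow_succ] at this
    exact (Nat.eq_of_mul_eq_mul_left (by positivity) this).symm
  obtain ⟨φ, h2, h3, h4⟩ := h.exists_hom hτ hQ
  have h5 : Subgroup.zpowers t = Subgroup.center Q := by
    apply Subgroup.eq_of_le_of_card_ge (Subgroup.zpowers_le.2 (h.mem_center hQ))
    rw [h1, Nat.card_zpowers, orderOf_eq_prime (p := 2) (by rw [sq, h.tt]) h.ne]
  have hp : IsPGroup 2 Q := IsPGroup.of_card hc
  have h6 : commutator Q = Subgroup.center Q := by
    apply le_antisymm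
    · rw [← h3]
      exact Abelianization.commutator_subset_ker φ
    · obtain ⟨i⟩ := ‹Nonempty ι›
      rw [← h5, Subgroup.zpowers_le]
      have : t = ⁅e i, e (τ i)⁆ := by rw [commutatorElement_def, h.rel']; group
      rw [this]
      exact Subgroup.commutator_mem_commutator (Subgroup.mem_top _) (Subgroup.mem_top _)
  refine ⟨⟨hp, le_antisymm ?_ ?_, h6⟩, h1⟩
  · rw [← h3]
    intro g hg
    rw [MonoidHom.mem_ker]
    funext j
    by_contra hj
    let ψ : Q →* Multiplicative (ZMod 2) := (Pi.evalMonoidHom _ j).comp φ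
    have h7 : ψ.ker.index = 2 := by
      rw [Subgroup.index_ker, MonoidHom.range_eq_top.2 ((Function.surjective_eval j).comp h2)]
      simp
    have h8 : IsCoatom ψ.ker := by
      refine ⟨fun h9 => by simp [h9] at h7, fun K hK => ?_⟩
      have h9 := Subgroup.index_dvd_of_le hK.le
      rw [h7, Nat.dvd_prime Nat.prime_two] at h9
      rcases h9 with h9 | h9
      · exact Subgroup.index_eq_one.1 h9
      · refine absurd (Subgroup.eq_of_le_of_card_ge hK.le ?_) hK.ne
        have a := ψ.ker.card_mul_index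
        have b := K.card_mul_index
        rw [h7] at a
        rw [h9] at b
        omega
    exact hj (frattini_le_coatom h8 hg)
  · rw [← h6]
    have := hp.isNilpotent
    refine le_iInf₂ fun K hK => ?_
    have hN : K.Normal := Subgroup.NormalizerCondition.normal_of_coatom K
      Group.normalizerCondition_of_isNilpotent hK
    by_contra h9
    have h10 : K ⊔ commutator Q = ⊤ := hK.2 _ (left_lt_sup.2 h9)
    rw [h6] at h10
    apply h9
    rw [commutator, ← h10, Subgroup.commutator_le]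
    intro a ha b hb
    obtain ⟨a1, ha1, a2, ha2, rfl⟩ := Subgroup.mem_sup_of_normal_right.1 ha
    obtain ⟨b1, hb1, b2, hb2, rfl⟩ := Subgroup.mem_sup_of_normal_right.1 hb
    have c1 := Subgroup.mem_center_iff.1 ha2
    have c2 := Subgroup.mem_center_iff.1 hb2
    have : ⁅a1 * a2, b1 * b2⁆ = ⁅a1, b1⁆ := by
      simp only [commutatorElement_def, mul_inv_rev]
      calc a1 * a2 * (b1 * b2) * (a2⁻¹ * a1⁻¹) * (b2⁻¹ * b1⁻¹)
          = a1 * (a2 * (b1 * b2)) * a2⁻¹ * (a1⁻¹ * b2⁻¹) * b1⁻¹ := by group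
        _ = a1 * b1 * (b2 * a1⁻¹) * b2⁻¹ * b1⁻¹ := by rw [← c1]; group
        _ = _ := by rw [← c2]; group
    rw [this]
    exact mul_mem (mul_mem (mul_mem ha1 hb1) (inv_mem ha1)) (inv_mem hb1)

end

section
variable {X ι : Type*} [Group X] [Finite X] [Fintype ι] [DecidableEq ι] {t : X} {e : ι → X} {τ : ι → ι}

omit [Finite X] [Fintype ι] [DecidableEq ι] in
theorem ESData.sub [Nonempty ι] (h : ESData t e τ) : ∃ (t' : Subgroup.closure (Set.range e))
    (e' : ι → Subgroup.closure (Set.range e)), ESData t' e' τ ∧ Subgroup.closure (Set.range e') = ⊤ := by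
  have he : ∀ i, e i ∈ Subgroup.closure (Set.range e) := fun i => Subgroup.subset_closure ⟨i, rfl⟩
  obtain ⟨i⟩ := ‹Nonempty ι›
  have ht : t ∈ Subgroup.closure (Set.range e) := by
    rw [show t = e i * e (τ i) * (e (τ i) * e i)⁻¹ by rw [h.rel']; group]
    exact mul_mem (mul_mem (he _) (he _)) (inv_mem (mul_mem (he _) (he _)))
  refine ⟨⟨t, ht⟩, fun i => ⟨e i, he i⟩, ESData.of_map (Subgroup.subtype _) Subtype.val_injective h, ?_⟩
  apply Subgroup.map_injective (Subgroup.closure (Set.range e)).subtype_injective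
  rw [MonoidHom.map_closure, ← MonoidHom.range_eq_map, Subgroup.range_subtype, ← Set.range_comp]
  rfl

theorem ESData.le_card [Nonempty ι] (h : ESData t e τ) (hτ : Function.Bijective τ) :
    2 ^ (Fintype.card ι + 1) ≤ Nat.card (Subgroup.closure (Set.range e)) := by
  obtain ⟨t', e', h1, h2⟩ := h.sub
  obtain ⟨h3, h4⟩ := h1.card_eq hτ h2
  rw [h3, pow_succ]
  exact Nat.mul_le_mul_left _ h4

theorem ESData.isExtraspecial' [Nonempty ι] (h : ESData t e τ) (hτ : Function.Bijective τ)
    (hc : Nat.card (Subgroup.closure (Set.range e)) = 2 ^ (Fintype.card ι + 1)) :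
    IsExtraspecial 2 (Subgroup.closure (Set.range e)) := by
  obtain ⟨t', e', h1, h2⟩ := h.sub
  exact h1.isExtraspecial hτ h2 hc

end

/-- A transitive group of degree prime to `p` has no nontrivial normal `p`-subgroup. -/
theorem normal_pgroup_eq_bot {n p : ℕ} [Fact p.Prime] {P : Subgroup (Equiv.Perm (Fin n))}
    (htr : ∀ i j, ∃ g ∈ P, g i = j) (hn : ¬ p ∣ n) {N : Subgroup P} [hN : N.Normal] (hp : IsPGroup p N) :
    N = ⊥ := by
  obtain ⟨i, hi⟩ := hp.nonempty_fixed_point_of_prime_not_dvd_card (Fin n) (by simpa using hn)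
  rw [eq_bot_iff]
  intro x hx
  rw [Subgroup.mem_bot]
  ext j
  obtain ⟨g, hg, rfl⟩ := htr i j
  have h1 : ((⟨g, hg⟩ : P)⁻¹ * x * (⟨g, hg⟩ : P)⁻¹⁻¹) • i = i := hi ⟨_, hN.conj_mem x hx _⟩
  rw [inv_inv, mul_smul, mul_smul, inv_smul_eq_iff] at h1
  exact congrArg Fin.val h1

/-- The check of the relations of an extraspecial group on words. -/
noncomputable def chkES (app : ℕ → ℕ → ℕ) (B : List ℕ) (t : ℕ) (Ws : List (List ℕ)) (c : ℕ) (τ : ℕ → ℕ) :
    Bool :=
  allLt (fun i => band (eqW app B (t :: nth Ws [] i) (app2 (nth Ws [] i) [t])) (allLt (fun j =>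
    Bool.rec (motive := fun _ => Bool)
      (eqW app B (app2 (nth Ws [] i) (nth Ws [] j)) (app2 (nth Ws [] j) (nth Ws [] i)))
      (eqW app B (app2 (nth Ws [] i) (nth Ws [] j)) (t :: app2 (nth Ws [] j) (nth Ws [] i)))
      (Nat.beq j (τ i))) c)) c

theorem esData_of_chk {G X : Type*} [Group G] [MulAction G X] {A : Act G X} {B : List ℕ}
    (hB : A.IsBase B) {t c : ℕ} {Ws : List (List ℕ)} {τ : ℕ → ℕ} {τ' : Fin c → Fin c}
    (hτ : ∀ i, (τ' i : ℕ) = τ i) (ht : orderOf (A.gen t) = 2) (h : chkES A.app B t Ws c τ = true) :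
    ESData (A.gen t) (fun i : Fin c => ev A.gen (nth Ws [] i)) τ' := by
  rw [chkES, allLt_iff] at h
  simp only [band_eq, allLt_iff] at h
  refine ⟨fun h1 => by simp [h1] at ht, by rw [← sq, ← ht, pow_orderOf_eq_one], fun i => ?_,
    fun i j hj => ?_, fun i => ?_⟩
  · simpa [app2_eq] using hB.ev_eq (h i i.2).1
  · have h1 := (h i i.2).2 j j.2
    rw [(beq_false_iff _ _).2 fun e => hj (Fin.ext (e.trans (hτ i).symm))] at h1
    simpa [app2_eq] using hB.ev_eq h1
  · have h1 := (h i i.2).2 _ (τ' i).2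
    rw [(beq_iff _ _).2 (hτ i)] at h1
    simpa [app2_eq] using hB.ev_eq h1

theorem pCore_eq_ker {X P : Type*} [Group X] [Group P] {p : ℕ} (f : X →* P)
    (hf : Function.Surjective f) (hk : IsPGroup p f.ker)
    (hP : ∀ N : Subgroup P, N.Normal → IsPGroup p N → N = ⊥) : pCore p X = f.ker := by
  apply le_antisymm
  · refine sSup_le fun N hN => ?_
    rw [← Subgroup.map_eq_bot_iff]
    exact hP _ (hN.1.map f hf) (hN.2.map f)
  · exact le_sSup ⟨inferInstance, hk⟩

theorem ESData.pCore {X P ι : Type*} [Group X] [Finite X] [Group P] [Fintype ι] [DecidableEq ι]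
    [Nonempty ι] {t : X} {e : ι → X} {τ : ι → ι} (h : ESData t e τ) (hτ : Function.Bijective τ)
    (f : X →* P) (hf : Function.Surjective f) (hk : ∀ i, f (e i) = 1)
    (hc : Nat.card X ≤ 2 ^ (Fintype.card ι + 1) * Nat.card P) :
    f.ker = Subgroup.closure (Set.range e) ∧ IsExtraspecial 2 f.ker ∧
      Nat.card f.ker = 2 ^ (Fintype.card ι + 1) := by
  have h1 : Subgroup.closure (Set.range e) ≤ f.ker := by
    rw [Subgroup.closure_le]
    rintro _ ⟨i, rfl⟩
    exact hk i
  have : Finite P := Finite.of_surjective f hf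
  have h2 : Nat.card f.ker ≤ 2 ^ (Fintype.card ι + 1) := by
    rw [Subgroup.card_eq_card_quotient_mul_card_subgroup f.ker, mul_comm,
      Nat.card_congr (QuotientGroup.quotientKerEquivOfSurjective f hf).toEquiv] at hc
    exact Nat.le_of_mul_le_mul_right hc Nat.card_pos
  have h3 := h.le_card hτ
  have h4 := Subgroup.eq_of_le_of_card_ge h1 (h2.trans h3)
  rw [← h4] at h2 ⊢
  exact ⟨rfl, h.isExtraspecial' hτ (le_antisymm h2 h3), le_antisymm h2 h3⟩

end Cfsg.Agent.Id
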