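import Cfsg.Agent.Lib.Id.Cent

/-! Isomorphisms onto subgroups of table groups from certified presentations. -/

set_option autoImplicit false

namespace Cfsg.Agent.Id

open Cfsg.Agent.CG

variable {G X : Type*} [Group G] [Finite G] [MulAction G X] {A : Act G X} {B : List ℕ}

theorem exists_equiv_of_bounds (hB : A.IsBase B) {H : Type*} [Group H] [Finite H] {gen : ℕ → H}
    {R : List (List ℕ)} {S : List ℕ} {N : ℕ} (hb : Bounds R S N) (hR : ∀ r ∈ R, ev gen r = 1)
    (hS : cl gen S = ⊤) (hN : Nat.card H = N) {I : List (List ℕ)}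
    (hrel : allL (fun r => eqW A.app B (substW (nth I []) r) []) R = true) {K : Subgroup G}
    (hK : ∀ s ∈ S, ev A.gen (nth I [] s) ∈ K) {L : List Lvl} (hL : ChainOK A L [])
    {V : List (ℕ × List ℕ)} (h1 : chainIn (V.map Prod.fst) L = true)
    (h2 : lettersIn S (V.map Prod.snd) = true)
    (h3 : allL (fun p : ℕ × List ℕ => eqW A.app B (substW (nth I []) p.2) [p.1]) V = true)
    (h4 : Nat.card K ≤ N) (h5 : N ≤ prodN L) :
    ∃ e : H ≃* K, ∀ s ∈ S, (e (gen s) : G) = ev A.gen (nth I [] s) := by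
  obtain ⟨f, hf⟩ := hb.lift hR hS hN.ge (fun a => ev A.gen (nth I [] a))
    (fun r hr => by rw [← ev_substW]; exact hB.ev_eq ((allL_iff _ _).1 hrel r hr))
  have h6 : f.range ≤ K := by
    rw [MonoidHom.range_eq_map, ← hS, map_cl]
    exact cl_le _ fun s hs => (hf s hs).symm ▸ hK s hs
  have h7 : prodN L ≤ Nat.card f.range := hL.prodN_le_card_of_mem fun l hl a ha => by
    obtain ⟨p, hp, rfl⟩ := List.mem_map.1 (chainIn_mem h1 l hl a ha)
    refine ⟨ev gen p.2, ?_⟩
    have := hB.ev_eq ((allL_iff _ _).1 h3 p hp)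
    rw [ev_singleton, ev_substW] at this
    rw [map_ev, ← this]
    exact ev_congr _ fun s hs => hf s (lettersIn_iff.1 h2 _ (List.mem_map_of_mem hp) s hs)
  have h8 := Subgroup.eq_of_le_of_card_ge h6 (h4.trans (h5.trans h7))
  have h9 : Function.Bijective f.rangeRestrict :=
    f.rangeRestrict_surjective.bijective_of_nat_card_le (hN.le.trans (h5.trans h7))
  exact ⟨(MulEquiv.ofBijective _ h9).trans (MulEquiv.subgroupCongr h8), hf⟩

omit [Finite G] in
theorem mem_cent_of_all (hB : A.IsBase B) {t : ℕ} {S : List ℕ} {I : List (List ℕ)}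
    (h : allL (fun s => eqW A.app B (app2 (nth I [] s) [t]) (t :: nth I [] s)) S = true) :
    ∀ s ∈ S, ev A.gen (nth I [] s) ∈ Subgroup.centralizer {A.gen t} :=
  fun s hs => ev_mem_cent hB ((allL_iff _ _).1 h s hs)

end Cfsg.Agent.Id
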