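import Cfsg.Agent.Lib.Id.Cent2
import Cfsg.Prelude.Def_SporadicB

/-! Quotients and complements in subgroups of table groups from certified presentations. -/

set_option autoImplicit false

namespace Cfsg.Agent.Id

open Cfsg.Agent.CG
open scoped Pointwise

theorem eq_alternatingGroup {n : ℕ} {P : Subgroup (Equiv.Perm (Fin n))} (h : 2 * Nat.card P = n.factorial) :
    P = alternatingGroup (Fin n) := by
  apply Equiv.Perm.eq_alternatingGroup_of_index_eq_two
  have := P.index_mul_card
  rw [Nat.card_perm, Nat.card_eq_fintype_card (α := Fin n), Fintype.card_fin, ← h] at this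
  exact Nat.eq_of_mul_eq_mul_right Nat.card_pos this

section
variable {G X : Type*} [Group G] [Finite G] [MulAction G X] {A : Act G X} {B : List ℕ}

omit [Finite G] in
theorem nth_mem_of_all {K : Subgroup G} {I : List (List ℕ)} (h : ∀ u ∈ I, ev A.gen u ∈ K) (a : ℕ) :
    ev A.gen (nth I [] a) ∈ K := by
  induction I generalizing a with
  | nil => exact one_mem K
  | cons u I ih =>
    cases a with
    | zero => exact h u (by simp)
    | succ a => exact ih (fun v hv => h v (by simp [hv])) a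

omit [Finite G] in
theorem nth_mem_cent (hB : A.IsBase B) {t : ℕ} {I : List (List ℕ)}
    (h : allL (fun u => eqW A.app B (app2 u [t]) (t :: u)) I = true) (a : ℕ) :
    ev A.gen (nth I [] a) ∈ Subgroup.centralizer {A.gen t} :=
  nth_mem_of_all (fun u hu => ev_mem_cent hB ((allL_iff _ _).1 h u hu)) a

theorem exists_equiv_quot_of_bounds (hB : A.IsBase B) {H : Type*} [Group H] [Finite H] {gen : ℕ → H}
    {R : List (List ℕ)} {S : List ℕ} {N : ℕ} (hb : Bounds R S N) (hR : ∀ r ∈ R, ev gen r = 1)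
    (hS : cl gen S = ⊤) (hN : Nat.card H = N) {K : Subgroup G} {Q : Subgroup K} [Q.Normal]
    {ZW : List (List ℕ)} (hZ : ∀ z ∈ ZW, ev A.gen z ∈ Q.map K.subtype) {I : List (List ℕ)}
    (hK : ∀ a, ev A.gen (nth I [] a) ∈ K)
    (hrel : allL (fun r => anyL (fun z => eqW A.app B (substW (nth I []) r) z) ZW) R = true)
    {L : List Lvl} (hL : ChainOK A L [])
    {V : List (ℕ × List ℕ)} (h1 : chainIn (V.map Prod.fst) L = true)
    (h2 : lettersIn S (V.map Prod.snd) = true)
    (h3 : allL (fun p : ℕ × List ℕ =>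
      anyL (fun z => eqW A.app B (app2 (substW (nth I []) p.2) z) [p.1]) ZW) V = true)
    (h4 : Nat.card K ≤ prodN L) (h5 : N * Nat.card Q ≤ Nat.card K) :
    ∃ e : H ≃* K ⧸ Q, ∀ s ∈ S, e (gen s) = QuotientGroup.mk ⟨_, hK s⟩ := by
  let y : ℕ → K := fun a => ⟨_, hK a⟩
  have hy : ∀ v, ((ev y v : K) : G) = ev A.gen (substW (nth I []) v) := fun v => by
    rw [ev_substW]; exact map_ev y K.subtype v
  obtain ⟨f, hf⟩ := hb.lift hR hS hN.ge (fun a => QuotientGroup.mk' Q (y a)) fun r hr => by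
    obtain ⟨z, hz, h⟩ := (anyL_iff _ _).1 ((allL_iff _ _).1 hrel r hr)
    obtain ⟨q, hq, e⟩ := hZ z hz
    rw [← map_ev, show ev y r = q from Subtype.ext ((hy r).trans ((hB.ev_eq h).trans e.symm))]
    exact (QuotientGroup.eq_one_iff q).2 hq
  have h7 : prodN L ≤ Nat.card ((f.range.comap (QuotientGroup.mk' Q)).map K.subtype) :=
    hL.prodN_le_card_of_mem fun l hl a ha => by
      obtain ⟨p, hp, rfl⟩ := List.mem_map.1 (chainIn_mem h1 l hl a ha)
      obtain ⟨z, hz, h⟩ := (anyL_iff _ _).1 ((allL_iff _ _).1 h3 p hp)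
      obtain ⟨q, hq, e⟩ := hZ z hz
      have := hB.ev_eq h
      rw [ev_singleton, app2_eq, ev_append, ← hy, ← e] at this
      refine ⟨ev y p.2 * q, ⟨ev gen p.2, ?_⟩, this⟩
      rw [map_mul, show QuotientGroup.mk' Q q = 1 from (QuotientGroup.eq_one_iff q).2 hq, mul_one, map_ev,
        map_ev]
      exact ev_congr _ fun s hs => hf s (lettersIn_iff.1 h2 _ (List.mem_map_of_mem hp) s hs)
  have h8 : f.range.comap (QuotientGroup.mk' Q) = ⊤ := by
    apply Subgroup.eq_top_of_le_card
    rw [Nat.card_congr (Subgroup.equivMapOfInjective _ _ K.subtype_injective).toEquiv]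
    exact h4.trans h7
  have h9 : Function.Surjective f := fun x => by
    obtain ⟨x, rfl⟩ := QuotientGroup.mk'_surjective Q x
    exact (h8 ▸ Subgroup.mem_top x : x ∈ f.range.comap (QuotientGroup.mk' Q))
  rw [Subgroup.card_eq_card_quotient_mul_card_subgroup Q] at h5
  exact ⟨MulEquiv.ofBijective f (h9.bijective_of_nat_card_le
    (hN.le.trans (Nat.le_of_mul_le_mul_right h5 Nat.card_pos))), hf⟩

omit [Finite G] in
/-- If the relators hold exactly, the extension splits. -/
theorem exists_complement_of_bounds (hB : A.IsBase B) {H : Type*} [Group H] {gen : ℕ → H}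
    {R : List (List ℕ)} {S : List ℕ} {N : ℕ} (hb : Bounds R S N) (hR : ∀ r ∈ R, ev gen r = 1)
    (hS : cl gen S = ⊤) (hN : Nat.card H = N) {K : Subgroup G} {Q : Subgroup K} [Q.Normal]
    {I : List (List ℕ)} {hK : ∀ a, ev A.gen (nth I [] a) ∈ K}
    (hrel : allL (fun r => eqW A.app B (substW (nth I []) r) []) R = true)
    {e : H ≃* K ⧸ Q} (he : ∀ s ∈ S, e (gen s) = QuotientGroup.mk ⟨_, hK s⟩) :
    ∃ M : Subgroup K, Q.IsComplement' M ∧ Nonempty (M ≃* H) := by
  let y : ℕ → K := fun a => ⟨_, hK a⟩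
  obtain ⟨f, hf⟩ := hb.lift hR hS hN.ge y fun r hr => Subtype.ext (by
    refine (map_ev y K.subtype r).trans ?_
    exact (ev_substW _ _ _).symm.trans (hB.ev_eq ((allL_iff _ _).1 hrel r hr)))
  have h1 : ∀ x, e x = QuotientGroup.mk (f x) := fun x => by
    have : cl gen S ≤ e.toMonoidHom.eqLocus ((QuotientGroup.mk' Q).comp f) :=
      cl_le _ fun s hs => (he s hs).trans (congrArg QuotientGroup.mk (hf s hs).symm)
    exact this (hS ▸ Subgroup.mem_top x)
  refine ⟨f.range, Subgroup.isComplement'_of_disjoint_and_mul_eq_univ ?_ ?_,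
    ⟨(MonoidHom.ofInjective fun a b h => e.injective (by rw [h1, h1, h])).symm⟩⟩
  · rw [Subgroup.disjoint_def]
    rintro _ hx ⟨x, rfl⟩
    rw [show x = 1 from e.injective (by rw [h1, map_one]; exact (QuotientGroup.eq_one_iff _).2 hx),
      map_one]
  · refine Set.eq_univ_of_forall fun k => ?_
    obtain ⟨x, hx⟩ := e.surjective (QuotientGroup.mk k)
    refine ⟨k * (f x)⁻¹, ?_, f x, ⟨x, rfl⟩, by simp⟩
    rw [h1] at hx
    exact (QuotientGroup.eq_one_iff _).1 (by rw [QuotientGroup.mk_mul, QuotientGroup.mk_inv, hx]; simp)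

/-- No elementary abelian subgroup of order eight, by inspection of all elements. -/
theorem card_le_four_of_chk (hB : A.IsBase B) {K : Subgroup G} {M : ℕ} {Ws : List (List ℕ × List ℕ)}
    (h1 : ∀ p ∈ Ws, ev A.gen p.1 ∈ K) (h2 : incrKeys A.app B M Ws 0 = true) (h3 : Nat.card K ≤ Ws.length)
    (h4 : allL (fun a : List ℕ × List ℕ => bor (bnot (eqW A.app B (app2 a.1 a.1) []))
      (bor (eqW A.app B a.1 []) (allL (fun b : List ℕ × List ℕ => bor (bnot (eqW A.app B (app2 b.1 b.1) []))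
      (bor (bnot (eqW A.app B (app2 a.1 b.1) (app2 b.1 a.1))) (bor (eqW A.app B b.1 [])
      (bor (eqW A.app B b.1 a.1) (allL (fun c : List ℕ × List ℕ =>
        bor (bnot (eqW A.app B (app2 c.1 c.1) [])) (bor (bnot (eqW A.app B (app2 a.1 c.1) (app2 c.1 a.1)))
        (bor (bnot (eqW A.app B (app2 b.1 c.1) (app2 c.1 b.1))) (bor (eqW A.app B c.1 [])
        (bor (eqW A.app B c.1 a.1) (bor (eqW A.app B c.1 b.1) (eqW A.app B c.1 (app2 a.1 b.1))))))))
      Ws))))) Ws))) Ws = true)
    {E : Subgroup G} (hE : E ≤ K) (hc : ∀ x ∈ E, ∀ y ∈ E, x * y = y * x) (hs : ∀ x ∈ E, x * x = 1) :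
    Nat.card E ≤ 4 := by
  classical
  by_contra hn
  have key : ∀ s : Finset G, s.card ≤ 4 → ∃ p ∈ Ws, ev A.gen p.1 ∈ E ∧ ev A.gen p.1 ∉ s := fun s h => by
    obtain ⟨x, hx, hx'⟩ := Set.exists_mem_notMem_of_ncard_lt_ncard (s := (s : Set G)) (t := E) (by
      rw [Set.ncard_coe_finset]
      exact h.trans_lt (not_le.1 hn))
    obtain ⟨p, hp, rfl⟩ := exists_word_of_card hB h1 h2 h3 (hE hx)
    exact ⟨p, hp, hx, hx'⟩
  have f1 : ∀ {u v : List ℕ}, bnot (eqW A.app B u v) = true → ev A.gen u ≠ ev A.gen v :=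
    fun h => A.ev_ne_of_eqW hB.1 ((bnot_eq _).1 h)
  obtain ⟨a, ha, a1, a2⟩ := key {1} (by simp)
  obtain ⟨b, hb, b1, b2⟩ := key {1, ev A.gen a.1} (Finset.card_le_two.trans (by norm_num))
  obtain ⟨c, hc', c1, c2⟩ := key {1, ev A.gen a.1, ev A.gen b.1, ev A.gen a.1 * ev A.gen b.1}
    Finset.card_le_four
  simp only [Finset.mem_insert, Finset.mem_singleton, not_or] at a2 b2 c2
  have := (allL_iff _ _).1 h4 a ha
  simp only [bor_eq, allL_iff] at this
  rcases this with h | h | h
  · exact f1 h (by simpa [app2_eq] using hs _ a1)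
  · exact a2 (hB.ev_eq h)
  rcases h b hb with h | h | h | h | h
  · exact f1 h (by simpa [app2_eq] using hs _ b1)
  · exact f1 h (by simpa [app2_eq] using hc _ a1 _ b1)
  · exact b2.1 (hB.ev_eq h)
  · exact b2.2 (hB.ev_eq h)
  rcases h c hc' with h | h | h | h | h | h | h
  · exact f1 h (by simpa [app2_eq] using hs _ c1)
  · exact f1 h (by simpa [app2_eq] using hc _ a1 _ c1)
  · exact f1 h (by simpa [app2_eq] using hc _ b1 _ c1)
  · exact c2.1 (hB.ev_eq h)
  · exact c2.2.1 (hB.ev_eq h)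
  · exact c2.2.2.1 (hB.ev_eq h)
  · exact c2.2.2.2 (by simpa [app2_eq] using hB.ev_eq h)

end

/-- A central involution that is a square, with centreless quotient. -/
theorem isNonsplitDoubleCover_of {C K : Type*} [Group C] [Group K] {t x : C} (ht : orderOf t = 2)
    (hc : t ∈ Subgroup.center C) (hx : x * x = t) [(Subgroup.zpowers t).Normal]
    (e : C ⧸ Subgroup.zpowers t ≃* K) (hK : Subgroup.center K = ⊥) : IsNonsplitDoubleCover C K := by
  have h1 : Subgroup.center C = Subgroup.zpowers t := by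
    refine le_antisymm (fun z hz => ?_) (Subgroup.zpowers_le_of_mem hc)
    rw [← QuotientGroup.eq_one_iff, ← e.map_eq_one_iff, ← Subgroup.mem_bot, ← hK, Subgroup.mem_center_iff]
    intro g
    obtain ⟨g, rfl⟩ := e.surjective g
    obtain ⟨g, rfl⟩ := QuotientGroup.mk_surjective g
    rw [← map_mul, ← map_mul, ← QuotientGroup.mk_mul, ← QuotientGroup.mk_mul,
      Subgroup.mem_center_iff.1 hz]
  have h2 : Nat.card (Subgroup.center C) = 2 := by rw [h1, Nat.card_zpowers, ht]
  refine ⟨h2, ⟨(QuotientGroup.quotientMulEquivOfEq h1).trans e⟩, fun L hL => ?_⟩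
  have h3 : t ∈ L := hx ▸ Subgroup.mul_self_mem_of_index_two (hL.index_eq_card.trans h2) x
  rw [Subgroup.disjoint_def.1 hL.disjoint hc h3, orderOf_one] at ht
  omega

/-- A complemented central involution gives a direct product. -/
theorem equiv_prod_of_complement {C : Type*} [Group C] {t : C} (ht : orderOf t = 2)
    (hc : t ∈ Subgroup.center C) {M : Subgroup C} (h : (Subgroup.zpowers t).IsComplement' M) :
    Nonempty (C ≃* Multiplicative (ZMod 2) × M) := by
  have h1 : Nat.card (Subgroup.zpowers t) = 2 := by rw [Nat.card_zpowers, ht]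
  let e := mulEquivOfPrimeCardEq (p := 2) h1 (G' := Multiplicative (ZMod 2)) (by simp)
  let f := (Subgroup.zpowers t).subtype.noncommCoprod M.subtype fun a b =>
    (Subgroup.mem_center_iff.1 (Subgroup.zpowers_le_of_mem hc a.2) b).symm
  exact ⟨(MulEquiv.ofBijective f h).symm.trans (e.prodCongr (MulEquiv.refl M))⟩

end Cfsg.Agent.Id
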