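import Cfsg.Agent.Lib.Id.Cent3

/-! Upper bounds and normality for extraspecial subgroups of table groups. -/

set_option autoImplicit false

namespace Cfsg.Agent.Id

open Cfsg.Agent.CG

theorem normal_zpowers_of_center {X : Type*} [Group X] {z : X} (h : z ∈ Subgroup.center X) :
    (Subgroup.zpowers z).Normal :=
  ⟨fun x hx g => by rwa [Subgroup.mem_center_iff.1 (Subgroup.zpowers_le_of_mem h hx), mul_inv_cancel_right]⟩

theorem card_le_of_comm {H ι : Type*} [Group H] [Fintype ι] {f : ι → H} {p : ℕ} (hp : 0 < p)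
    (hc : ∀ i j, f i * f j = f j * f i) (hs : ∀ i, f i ^ p = 1)
    (ht : Subgroup.closure (Set.range f) = ⊤) : Nat.card H ≤ p ^ Fintype.card ι := by
  have hcomm : Pairwise fun i j : ι => ∀ x y : H, x ∈ Subgroup.zpowers (f i) →
      y ∈ Subgroup.zpowers (f j) → Commute x y := by
    rintro i j - _ _ ⟨a, rfl⟩ ⟨b, rfl⟩
    exact Commute.zpow_zpow (hc i j) a b
  have h1 : Function.Surjective (Subgroup.noncommPiCoprod hcomm) := by
    rw [← MonoidHom.range_eq_top, Subgroup.noncommPiCoprod_range, eq_top_iff, ← ht, Subgroup.closure_le]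
    rintro _ ⟨i, rfl⟩
    exact Subgroup.mem_iSup_of_mem i (Subgroup.mem_zpowers _)
  have h2 : ∀ i, Finite (Subgroup.zpowers (f i)) := fun i =>
    (finite_zpowers.2 (isOfFinOrder_iff_pow_eq_one.2 ⟨p, hp, hs i⟩)).to_subtype
  refine (Nat.card_le_card_of_surjective _ h1).trans ?_
  rw [Nat.card_pi, ← Finset.card_univ, ← Finset.prod_const]
  exact Finset.prod_le_prod' fun i _ => by
    rw [Nat.card_zpowers]; exact orderOf_le_of_pow_eq_one hp (hs i)

theorem ESData.card_le {X ι : Type*} [Group X] [Finite X] [Fintype ι] [Nonempty ι] {t : X} {e : ι → X}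
    {τ : ι → ι} (h : ESData t e τ) (hs : ∀ i, e i * e i = 1 ∨ e i * e i = t) :
    Nat.card (Subgroup.closure (Set.range e)) ≤ 2 ^ (Fintype.card ι + 1) := by
  have he : ∀ i, e i ∈ Subgroup.closure (Set.range e) := fun i => Subgroup.subset_closure ⟨i, rfl⟩
  obtain ⟨i⟩ := ‹Nonempty ι›
  have ht : t ∈ Subgroup.closure (Set.range e) := by
    rw [show t = e i * e (τ i) * (e (τ i) * e i)⁻¹ by rw [h.rel']; group]
    exact mul_mem (mul_mem (he _) (he _)) (inv_mem (mul_mem (he _) (he _)))
  let t' : Subgroup.closure (Set.range e) := ⟨t, ht⟩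
  let e' : ι → Subgroup.closure (Set.range e) := fun i => ⟨e i, he i⟩
  have h1 : ESData t' e' τ := ESData.of_map (Subgroup.subtype _) Subtype.val_injective h
  have h2 : Subgroup.closure (Set.range e') = ⊤ := by
    apply Subgroup.map_injective (Subgroup.closure (Set.range e)).subtype_injective
    rw [MonoidHom.map_closure, ← MonoidHom.range_eq_map, Subgroup.range_subtype, ← Set.range_comp]
    rfl
  have := normal_zpowers_of_center (h1.mem_center h2)
  have h3 : (QuotientGroup.mk' (Subgroup.zpowers t')) t' = 1 :=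
    (QuotientGroup.eq_one_iff _).2 (Subgroup.mem_zpowers _)
  rw [Subgroup.card_eq_card_quotient_mul_card_subgroup (Subgroup.zpowers t'), pow_succ, Nat.card_zpowers]
  refine Nat.mul_le_mul (card_le_of_comm (f := fun i => QuotientGroup.mk' _ (e' i)) two_pos
    (fun i j => ?_) (fun i => ?_) ?_) (orderOf_le_of_pow_eq_one two_pos (by rw [sq, h1.tt]))
  · rw [← map_mul, ← map_mul]
    by_cases hj : j = τ i
    · rw [hj, h1.rel', map_mul, h3, one_mul]
    · rw [h1.rel i j hj]
  · rw [sq, ← map_mul]
    rcases hs i with h4 | h4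
    · rw [show e' i * e' i = 1 from Subtype.ext h4, map_one]
    · rw [show e' i * e' i = t' from Subtype.ext h4, h3]
  · rw [show (Set.range fun i => QuotientGroup.mk' (Subgroup.zpowers t') (e' i)) =
      QuotientGroup.mk' _ '' Set.range e' from Set.range_comp _ _, ← MonoidHom.map_closure, h2,
      ← MonoidHom.range_eq_map, QuotientGroup.range_mk']

section
variable {G X : Type*} [Group G] [Finite G] [MulAction G X] {A : Act G X} {B : List ℕ}

omit [Finite G] in
theorem closure_range_eq_cl (y : ℕ → G) (c : ℕ) :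
    Subgroup.closure (Set.range fun i : Fin c => y i) = cl y (List.range c) := by
  unfold cl
  congr 1
  ext g
  exact ⟨fun ⟨i, hi⟩ => ⟨i, List.mem_range.2 i.2, hi⟩, fun ⟨i, hi, h⟩ => ⟨⟨i, List.mem_range.1 hi⟩, h⟩⟩

omit [Finite G] in
theorem subst_mem_cl {Ws : List (List ℕ)} {S : List ℕ} {Us : List (List ℕ)} (h : lettersIn S Us = true) :
    ∀ z ∈ Us.map (substW (nth Ws [])), ev A.gen z ∈ cl (fun i => ev A.gen (nth Ws [] i)) S := by
  intro z hz
  obtain ⟨u, hu, rfl⟩ := List.mem_map.1 hz
  rw [ev_substW]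
  exact ev_mem _ fun a ha => gen_mem_cl _ (lettersIn_iff.1 h u hu a ha)

/-- The letters of a chain of `K` normalise the group generated by the words `Ws`. -/
theorem le_normalizer_of_chk (hB : A.IsBase B) {K : Subgroup G} {L : List Lvl} (hL : ChainOK A L [])
    (hK : Nat.card K ≤ prodN L) {T : List ℕ} (h1 : chainIn T L = true) (h2 : ∀ a ∈ T, A.gen a ∈ K)
    {Ws Us : List (List ℕ)} {S : List ℕ} (h3 : lettersIn S Us = true)
    (h4 : allL (fun a => allL (fun i => anyL (fun z => eqW A.app B (a :: nth Ws [] i) (app2 z [a]))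
      (Us.map (substW (nth Ws [])))) S) T = true) :
    K ≤ Subgroup.normalizer (cl (fun i => ev A.gen (nth Ws [] i)) S : Set G) := by
  rw [← inf_eq_left]
  refine Subgroup.eq_of_le_of_card_ge inf_le_left (hK.trans (hL.prodN_le_card_of_mem fun l hl a ha => ?_))
  have ha := chainIn_mem h1 l hl a ha
  refine ⟨h2 a ha, Subgroup.mem_normalizer_fintype fun n hn => ?_⟩
  have : cl (fun i => ev A.gen (nth Ws [] i)) S ≤
      (cl (fun i => ev A.gen (nth Ws [] i)) S).comap (MulAut.conj (A.gen a)).toMonoidHom :=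
    cl_le _ fun i hi => by
      obtain ⟨z, hz, h⟩ := (anyL_iff _ _).1 ((allL_iff _ _).1 ((allL_iff _ _).1 h4 a ha) i hi)
      have h5 := hB.ev_eq h
      rw [ev_cons, app2_eq, ev_append, ev_singleton, ← mul_inv_eq_iff_eq_mul] at h5
      exact (h5 ▸ subst_mem_cl h3 z hz :)
  exact this hn

end

theorem isComplement'_map {C C' : Type*} [Group C] [Group C'] [Finite C] (c : C ≃* C') {Q M : Subgroup C}
    (h : Q.IsComplement' M) : (Q.map c.toMonoidHom).IsComplement' (M.map c.toMonoidHom) := by
  have := Finite.of_equiv _ c.toEquiv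
  apply Subgroup.isComplement'_of_card_mul_and_disjoint
  · rw [Subgroup.card_map_of_injective c.injective, Subgroup.card_map_of_injective c.injective,
      h.card_mul_card, Nat.card_congr c.toEquiv]
  · rw [disjoint_iff, ← Subgroup.map_inf _ _ _ c.injective, h.disjoint.eq_bot, Subgroup.map_bot]

end Cfsg.Agent.Id
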