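import Cfsg.Agent.Lib.Id.Pres

/-! A group generated by elements that permute a finite family of points. -/

set_option autoImplicit false

namespace Cfsg.Agent.Id

open Cfsg.Agent.CG

theorem exists_hom_of_closed {X Ω : Type*} [Group X] [MulAction X Ω] {n : ℕ} {pt : Fin n → Ω}
    (hpt : Function.Injective pt) {P : Subgroup (Equiv.Perm (Fin n))} (hP : P ≤ realized X pt)
    (h : ∀ x : X, ∃ σ ∈ P, ∀ j, x • pt j = pt (σ j)) :
    ∃ f : X →* P, Function.Surjective f ∧ ∀ x j, x • pt j = pt ((f x).1 j) := by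
  choose s hs hs' using h
  refine ⟨MonoidHom.mk' (fun x => ⟨s x, hs x⟩) fun x y => Subtype.ext (Equiv.ext fun j => hpt ?_), ?_, hs'⟩
  · change pt (s (x * y) j) = pt (s x (s y j))
    rw [← hs', ← hs', ← hs', mul_smul]
  · intro σ
    obtain ⟨x, hx⟩ := hP σ.2
    exact ⟨x, Subtype.ext (Equiv.ext fun j => hpt ((hs' x j).symm.trans (hx j)))⟩

/-- The elements that act on the points as some element of `P`. -/
def inducing {X Ω : Type*} [Group X] [MulAction X Ω] {n : ℕ} (pt : Fin n → Ω)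
    (P : Subgroup (Equiv.Perm (Fin n))) : Subgroup X where
  carrier := {x | ∃ σ ∈ P, ∀ j, x • pt j = pt (σ j)}
  one_mem' := ⟨1, one_mem _, fun j => by simp⟩
  mul_mem' := by
    rintro x y ⟨σ, h1, hx⟩ ⟨τ, h2, hy⟩
    exact ⟨σ * τ, mul_mem h1 h2, fun j => by rw [mul_smul, hy, hx]; rfl⟩
  inv_mem' := by
    rintro x ⟨σ, h1, hx⟩
    exact ⟨σ⁻¹, inv_mem h1, fun j => by rw [inv_smul_eq_iff, hx]; simp⟩

end Cfsg.Agent.Id
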