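import Cfsg.Agent.Lib.Id.Co1.CA
import Cfsg.Agent.Lib.Id.Co1.CB
import Cfsg.Agent.Lib.Id.Co1.CC
import Cfsg.Agent.Lib.Grp.Co1.Main

/-! Identification of the group `Co1` with its table permutation group. -/

set_option autoImplicit false
set_option maxRecDepth 100000
set_option Elab.async false

namespace Cfsg.Agent.Id.Co1

open Cfsg.Agent.CG Cfsg.Spor
open scoped Pointwise

theorem letA : LetOK Co0 0 (tab2 TT) 98280 24 CG.Co1.app 0 := by
  obtain ⟨g, h1, h2⟩ := MatOK.exists ⟨orthA, wA, rA, fA⟩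
  exact ⟨_, _, _, _, colA, chkA, g, h1, h1, h2, map_zero (addHom h1)⟩

theorem letB : LetOK Co0 0 (tab2 TT) 98280 24 CG.Co1.app 1 := by
  obtain ⟨g, h1, h2⟩ := MatOK.exists ⟨orthB, wB, rB, fB⟩
  exact ⟨_, _, _, _, colB, chkB, g, h1, h1, h2, map_zero (addHom h1)⟩

theorem trans (i j : Fin 98280) : ∃ g ∈ CG.Co1.PG, g i = j :=
  transitive_of_chain CG.Co1.tabOK CG.Co1.chain rfl i j

theorem center_PG : Subgroup.center CG.Co1.PG = ⊥ :=
  center_eq_bot_of_fix CG.Co1.tabOK trans 11 ⟨65095, by decide⟩ (by decide +kernel) fix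

/-- The action of `Co0` on the pairs of opposite minimal vectors. -/
theorem exists_hom : ∃ f : Co0 →* CG.Co1.PG, Function.Surjective f ∧ f.ker = Subgroup.zpowers negOne ∧
    ∀ x (j : Fin 98280), x • pairOf 0 (tab2 TT j) = pairOf 0 (tab2 TT ((f x).1 j)) := by
  have := card_Co0_le.1
  obtain ⟨-, h1, h2⟩ := realized_of_letters' CG.Co1.tabOK trans (tab := tab2 TT) srt
    (by decide +kernel) 0 (good_of (by decide +kernel)) [0, 1]
    (List.forall_mem_cons.2 ⟨letA, List.forall_mem_cons.2 ⟨letB, by simp⟩⟩) (by decide +kernel)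
  refine exists_hom_of_realized h1 h2 _ (fun z hz j => ?_) ?_
  · exact (Subgroup.zpowers_le_of_mem (H := MulAction.stabilizer Co0 (pairOf 0 (tab2 TT j)))
      (negOne_smul_pairOf _)) hz
  · rw [Nat.card_zpowers, orderOf_negOne]
    exact card_Co0_le.2.trans (Nat.mul_le_mul_left 2 CG.Co1.le_card)

theorem center_Co0 : Subgroup.center Co0 = Subgroup.zpowers negOne := by
  obtain ⟨f, h1, h2, -⟩ := exists_hom
  refine le_antisymm (fun z hz => ?_) (Subgroup.zpowers_le_of_mem negOne_mem_center)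
  rw [← h2, MonoidHom.mem_ker, ← Subgroup.mem_bot, ← center_PG, Subgroup.mem_center_iff]
  intro g
  obtain ⟨g, rfl⟩ := h1 g
  rw [← map_mul, ← map_mul, Subgroup.mem_center_iff.1 hz]

theorem exists_iso : ∃ e : Spor.Co1 ≃* CG.Co1.PG, ∀ (x : Co0) (j : Fin 98280),
    x • pairOf 0 (tab2 TT j) = pairOf 0 (tab2 TT ((e (QuotientGroup.mk x)).1 j)) := by
  obtain ⟨f, h1, h2, h3⟩ := exists_hom
  exact ⟨(QuotientGroup.quotientMulEquivOfEq (center_Co0.trans h2.symm)).trans
    (QuotientGroup.quotientKerEquivOfSurjective f h1), h3⟩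

theorem iso : Nonempty (Spor.Co1 ≃* CG.Co1.PG) := exists_iso.nonempty

theorem card_Co0 : Nat.card Co0 = 2 * Nat.card CG.Co1.PG := by
  obtain ⟨e⟩ := iso
  rw [Subgroup.card_eq_card_quotient_mul_card_subgroup (Subgroup.center Co0), Nat.card_congr e.toEquiv,
    center_Co0, Nat.card_zpowers, orderOf_negOne, mul_comm]

/-- The upper bound for the order of the table group. -/
instance factCard : Fact (Nat.card CG.Co1.PG ≤ 4157776806543360000) :=
  ⟨by have := card_Co0_le.2; rw [card_Co0] at this; omega⟩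

end Cfsg.Agent.Id.Co1
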