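import Cfsg.Agent.Lib.Id.ConwayElt
import Cfsg.Agent.Lib.CG.Big2

/-! Variants of the identification lemmas that do not need the order of the table group. -/

set_option autoImplicit false
set_option maxRecDepth 100000

namespace Cfsg.Agent.Id

open Cfsg.Agent.CG Cfsg.Spor Finset
open scoped Pointwise

section
variable {n w : ℕ} [NeZero n] {app : ℕ → ℕ → ℕ} {r k : ℕ} {partner : ℕ → ℕ}
  {slp : ℕ → Bool × List ℕ}

theorem permOf_partner (h : TabOK n w app r k partner slp) {a : ℕ} (ha : a < r) :
    permOf n w app (partner a) = (permOf n w app a)⁻¹ := by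
  refine eq_inv_of_mul_eq_one_left (Equiv.ext fun j => Fin.ext ?_)
  have h1 := (allLt_iff _ _).1 ((allRange_iff _ _ _).1 h.base a (Nat.zero_le _) (by omega)) j j.2
  rw [chkBase, force_eq, band_eq, band_eq, beq_iff, blt_iff, beq_iff] at h1
  obtain ⟨c, hc⟩ := Nat.dvd_of_mod_eq_zero h1.1
  have hc : app a (w * j) = w * c := hc
  have h2 : app (partner a) (app a (w * j)) = w * j := h1.2.2
  rw [Equiv.Perm.mul_apply, permOf_val h, permOf_val h, hc, Nat.mul_div_cancel_left _ h.w_pos, ← hc, h2,
    Nat.mul_div_cancel_left _ h.w_pos]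
  rfl

theorem tabGroup_le' (h : TabOK n w app r k partner slp) (L : List ℕ)
    (hall : allLt (fun a => bor (memL a L) (memL (partner a) L)) r = true)
    {R : Subgroup (Equiv.Perm (Fin n))} (hL : ∀ a ∈ L, permOf n w app a ∈ R) :
    tabGroup n w app r ≤ R := by
  apply cl_le
  intro a ha
  have := (allLt_iff _ _).1 hall a (List.mem_range.1 ha)
  rw [bor_eq, memL_iff, memL_iff] at this
  rcases this with h1 | h1
  · exact hL a h1
  · have := inv_mem (hL _ h1)
    rwa [permOf_partner h (List.mem_range.1 ha), inv_inv] at this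

/-- The letter `a` moves the point `j` unless it is `y`. -/
noncomputable def chkFix1 (w : ℕ) (app : ℕ → ℕ → ℕ) (a y j : ℕ) : Bool :=
  bor (bnot (Nat.beq (app a (Nat.mul w j)) (Nat.mul w j))) (Nat.beq j y)

/-- A transitive group with an element with exactly one fixed point has trivial centre. -/
theorem center_eq_bot_of_fix (h : TabOK n w app r k partner slp)
    (htr : ∀ i j, ∃ g ∈ tabGroup n w app r, g i = j) (a : ℕ) (y : Fin n)
    (h1 : Nat.beq (app a (w * y)) (w * y) = true) (h2 : allLt (chkFix1 w app a y) n = true) :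
    Subgroup.center (tabGroup n w app r) = ⊥ := by
  rw [eq_bot_iff]
  intro z hz
  have hc : ∀ g : tabGroup n w app r, ∀ j, g.1 (z.1 j) = z.1 (g.1 j) := fun g j =>
    congrArg (fun x : tabGroup n w app r => x.1 j) (Subgroup.mem_center_iff.1 hz g)
  have h3 : permOf n w app a y = y := Fin.ext (by
    rw [permOf_val h, (beq_iff _ _).1 h1, Nat.mul_div_cancel_left _ h.w_pos])
  have h4 : z.1 y = y := by
    have h5 : permOf n w app a (z.1 y) = z.1 y := (hc (h.act.gen a) y).trans (congrArg z.1 h3)
    have h6 := (allLt_iff _ _).1 h2 _ (z.1 y).2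
    rw [chkFix1, bor_eq, bnot_eq, beq_false_iff, beq_iff] at h6
    refine Fin.ext (h6.resolve_left (not_not.2 ?_))
    obtain ⟨⟨i, hi, e⟩, -⟩ := (h.good a).1 (w * z.1 y) (okc_mul _)
    have h7 := congrArg Fin.val h5
    rw [permOf_val h, e, Nat.mul_div_cancel_left _ h.w_pos] at h7
    exact e.trans (congrArg _ h7)
  refine Subtype.ext (Equiv.ext fun j => ?_)
  obtain ⟨g, hg, rfl⟩ := htr y j
  exact (hc ⟨g, hg⟩ y).symm.trans (congrArg g h4)

theorem realized_of_letters' (h : TabOK n w app r k partner slp)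
    (htr : ∀ i j, ∃ g ∈ tabGroup n w app r, g i = j)
    {X : Subgroup (Equiv.Perm leechLattice)} {c : leechLattice} {tab : ℕ → ℕ}
    (hs : allLt (fun j => blt (tab j) (tab (Nat.succ j))) (n - 1) = true)
    (hl : tab (n - 1) < 16 ^ 24 ∧ 2 * ((tab (n - 1) : ℤ) - 0x888888888888888888888888) < evv c.1)
    (j0 : Fin n) (h0 : Good c (tab j0)) (L : List ℕ) (hL : ∀ a ∈ L, LetOK X c tab n w app a)
    (hall : allLt (fun a => bor (memL a L) (memL (partner a) L)) r = true) :
    (∀ j : Fin n, Good c (tab j)) ∧ (Function.Injective fun j : Fin n => pairOf c (tab j)) ∧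
      tabGroup n w app r ≤ realized X fun j : Fin n => pairOf c (tab j) := by
  have hm : ∀ i j, i < j → j < n → tab i < tab j := fun i j hij hj => by
    induction hij with
    | refl => exact (blt_iff _ _).1 ((allLt_iff _ _).1 hs i (by omega))
    | step _ ih =>
      exact (ih (by omega)).trans ((blt_iff _ _).1 ((allLt_iff _ _).1 hs _ (by omega)))
  have hle : ∀ j : Fin n, tab j ≤ tab (n - 1) := fun j => by
    rcases Nat.lt_or_ge j (n - 1) with h1 | h1
    · exact (hm _ _ h1 (by omega)).le
    · rw [show (j : ℕ) = n - 1 by omega]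
  have hstep : ∀ a ∈ L, ∃ g : X, ∀ j : Fin n, Good c (tab j) → Good c (tab (permOf n w app a j)) ∧
      g • pairOf c (tab j) = pairOf c (tab (permOf n w app a j)) := fun a ha => by
    obtain ⟨T, l, K1, K2, h1, h2, g, h3, h4, h5, h6⟩ := hL a ha
    refine ⟨⟨g, h3⟩, fun j hj => good_step h1 h4 h5 h6 ((hle _).trans_lt hl.1) ?_ hj⟩
    rw [permOf_val h]
    exact (allLt_iff _ _).1 h2 j j.2
  have hG : ∀ j : Fin n, Good c (tab j) := fun j => by
    have h1 : tabGroup n w app r ≤ MulAction.stabilizer _ {j : Fin n | Good c (tab j)} :=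
      tabGroup_le' h L hall fun a ha => by
        rw [MulAction.mem_stabilizer_set_iff_smul_set_subset (Set.toFinite _)]
        rintro _ ⟨i, hi, rfl⟩
        exact ((hstep a ha).choose_spec i hi).1
    obtain ⟨g, hg, rfl⟩ := htr j0 j
    exact (MulAction.mem_stabilizer_set.1 (h1 hg) j0).2 h0
  refine ⟨hG, fun i j e => ?_, tabGroup_le' h L hall fun a ha => ?_⟩
  · obtain ⟨x, hx, -⟩ := hG i
    have h1 : x ∈ pairOf c (tab j) := (Set.ext_iff.1 e x).1 (Or.inl hx)
    have h2 := evv_dec ((hle i).trans_lt hl.1)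
    have h3 := evv_dec ((hle j).trans_lt hl.1)
    have h4 := hle i
    have h5 := hle j
    rw [← hx] at h2
    rcases h1 with h1 | h1
    · rw [← h1] at h3
      by_contra hne
      rcases lt_or_gt_of_ne hne with h6 | h6
      · have := hm _ _ h6 j.2; omega
      · have := hm _ _ h6 i.2; omega
    · rw [← h1, AddSubgroup.coe_sub, evv_sub] at h3
      omega
  · obtain ⟨g, hg⟩ := hstep a ha
    exact ⟨g, fun j => (hg j (hG j)).2⟩

end

/-- The central involution of `Co0`. -/
def negOne : Co0 := ⟨Equiv.neg _, fun v w => by simp [add_comm], fun v => by simp [sqNorm]⟩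

theorem negOne_mem_center : negOne ∈ Subgroup.center Co0 :=
  Subgroup.mem_center_iff.2 fun g => Subtype.ext (Equiv.ext fun v => co_neg g.2 v)

theorem orderOf_negOne : orderOf negOne = 2 :=
  orderOf_eq_prime (Subtype.ext (Equiv.ext fun v => neg_neg v)) fun h => by
    have : (-leechU).1 none = leechU.1 none :=
      congrArg (fun g : Co0 => (g.1 leechU).1 none) h
    revert this; decide +kernel

theorem negOne_smul_pairOf (t : ℕ) : negOne • pairOf 0 t = pairOf 0 t := by
  ext x
  rw [Set.mem_smul_set_iff_inv_smul_mem]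
  change ((-x).1 = _ ∨ (0 - -x).1 = _) ↔ (_ ∨ (0 - x).1 = _)
  rw [zero_sub, zero_sub, neg_neg, or_comm]

/-- Lookup in a table of codes stored in blocks of `128` entries. -/
noncomputable def tab2 (TT : Tr ℕ) (j : ℕ) : ℕ :=
  force (Nat.shiftRight j 7) fun m =>
    Nat.land (Nat.shiftRight (TT.get m) (Nat.mul 96 (Nat.land j 127))) 0xffffffffffffffffffffffff

end Cfsg.Agent.Id
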