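import Cfsg.Agent.Lib.Id.LeechCount

/-! Upper bounds for the orders of the Conway groups, `McL` and `HS`. -/

set_option autoImplicit false
set_option maxRecDepth 100000

namespace Cfsg.Agent.Id

open Cfsg.Agent.CG Cfsg.Spor

theorem ncard1 : {x : leechLattice | sqNorm x.1 = 32}.Finite ∧
    {x : leechLattice | sqNorm x.1 = 32}.ncard ≤ 196560 :=
  ncard_le_tot _ tot1 fun _ hx => ⟨hx, fun _ _ _ _ _ _ => rfl⟩

theorem ncard2 : {x : leechLattice | sqNorm x.1 = 32 ∧ dotInt x.1 vecU = -8}.Finite ∧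
    {x : leechLattice | sqNorm x.1 = 32 ∧ dotInt x.1 vecU = -8}.ncard ≤ 47104 :=
  ncard_le_tot _ tot2 fun x hx => ⟨hx.1, fun u v s hu hv hs => by
    have := hx.2
    rw [dot_U] at this
    rw [beq_iff, Nat.add_eq]; omega⟩

theorem ncard3 : {x : leechLattice | sqNorm x.1 = 32 ∧ dotInt x.1 vecV = -24}.Finite ∧
    {x : leechLattice | sqNorm x.1 = 32 ∧ dotInt x.1 vecV = -24}.ncard ≤ 552 :=
  ncard_le_tot _ tot3 fun x hx => ⟨hx.1, fun u v s hu hv hs => by
    have := hx.2
    rw [dot_V] at this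
    rw [beq_iff, Nat.add_eq, Nat.mul_eq]; omega⟩

theorem ncard4 :
    {x : leechLattice | sqNorm x.1 = 32 ∧ dotInt x.1 vecU = 0 ∧ dotInt x.1 vecV = -16}.Finite ∧
    {x : leechLattice | sqNorm x.1 = 32 ∧ dotInt x.1 vecU = 0 ∧ dotInt x.1 vecV = -16}.ncard ≤ 2025 :=
  ncard_le_tot _ tot4 fun x hx => ⟨hx.1, fun u v s hu hv hs => by
    have h1 := hx.2.1
    have h2 := hx.2.2
    rw [dot_U] at h1
    rw [dot_V] at h2
    rw [band_eq, beq_iff, beq_iff, Nat.add_eq, Nat.add_eq, Nat.mul_eq]; omega⟩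

theorem ncard5 :
    {x : leechLattice | sqNorm x.1 = 32 ∧ dotInt x.1 vecU' = 0 ∧ dotInt x.1 vecV = -24}.Finite ∧
    {x : leechLattice | sqNorm x.1 = 32 ∧ dotInt x.1 vecU' = 0 ∧ dotInt x.1 vecV = -24}.ncard ≤ 100 :=
  ncard_le_tot _ tot5 fun x hx => ⟨hx.1, fun u v s hu hv hs => by
    have h1 := hx.2.1
    have h2 := hx.2.2
    rw [dot_U'] at h1
    rw [dot_V] at h2
    rw [band_eq, beq_iff, beq_iff, Nat.add_eq, Nat.mul_eq]; omega⟩

theorem ncard6 : {x : leechLattice | sqNorm x.1 = 32 ∧ x.1 none = 4 ∧ ∑ p, x.1 p = 8}.Finite ∧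
    {x : leechLattice | sqNorm x.1 = 32 ∧ x.1 none = 4 ∧ ∑ p, x.1 p = 8}.ncard ≤ 23 :=
  ncard_le_tot _ tot6 fun x hx => ⟨hx.1, fun u v s hu hv hs => by
    have h1 := hx.2.1
    have h2 := hx.2.2
    rw [band_eq, beq_iff, beq_iff]; omega⟩

/-- The vector `4 e_∞ + 4 e_p` of the lattice. -/
def leechF (p : GolayPt) : leechLattice := ⟨vecF p, vecF_mem p⟩

theorem leechF_injective : Function.Injective leechF := fun p q h =>
  (show ∀ p q, vecF p = vecF q → p = q by decide +kernel) p q (congrArg Subtype.val h)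

theorem exists_eq_leechF {x : leechLattice} (h1 : sqNorm x.1 = 32) (h2 : x.1 none = 4)
    (h3 : ∑ p, x.1 p = 8) : ∃ t : ZMod 23, leechF (some t) = x := by
  have hi : Function.Injective fun t : ZMod 23 => leechF (some t) :=
    leechF_injective.comp (Option.some_injective _)
  have := Set.eq_of_subset_of_ncard_le (s := Set.range fun t : ZMod 23 => leechF (some t))
    (t := {x : leechLattice | sqNorm x.1 = 32 ∧ x.1 none = 4 ∧ ∑ p, x.1 p = 8}) (by
      rintro _ ⟨t, rfl⟩
      change sqNorm (vecF (some t)) = 32 ∧ vecF (some t) none = 4 ∧ ∑ p, vecF (some t) p = 8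
      revert t; decide +kernel)
    (by rw [Set.ncard_range_of_injective hi, Nat.card_zmod]; exact ncard6.2) ncard6.1
  exact (Set.ext_iff.1 this x).2 ⟨h1, h2, h3⟩

theorem exists_M22 {g : Equiv.Perm leechLattice} (hg : g ∈ Co0) (hV : g leechV = leechV)
    (hU : g leechU = leechU) (hU' : g leechU' = leechU') :
    ∃ σ : M22, ∀ x p, (g x).1 (σ.1 p) = x.1 p := by
  have h0 : ∀ x, (g x).1 none = x.1 none := fun x => by
    have h1 : dotInt _ vecU = dotInt _ vecU := co_dot_fix hg hU x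
    have h2 : dotInt _ vecU' = dotInt _ vecU' := co_dot_fix hg hU' x
    rw [dot_U, dot_U] at h1
    rw [dot_U', dot_U'] at h2
    omega
  have h1 : ∀ p, ∃ q, g (leechF p) = leechF q := by
    rintro (_ | t)
    · have : leechF none = leechU + leechU' := Subtype.ext (by decide +kernel)
      exact ⟨none, by rw [this, hg.1, hU, hU']⟩
    · have h3 : sqNorm (vecF (some t)) = 32 ∧ vecF (some t) none = 4 ∧ ∑ p, vecF (some t) p = 8 := by
        revert t; decide +kernel
      have h2 : dotInt _ vecV = dotInt _ vecV := co_dot_fix hg hV (leechF (some t))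
      rw [dot_V, dot_V, h0] at h2
      obtain ⟨s, hs⟩ := exists_eq_leechF (x := g (leechF (some t))) ((hg.2 _).trans h3.1)
        ((h0 _).trans h3.2.1) ((sub_right_inj.1 h2).trans h3.2.2)
      exact ⟨_, hs.symm⟩
  choose σ hσ using h1
  have hi : Function.Injective σ := fun p q h =>
    leechF_injective (g.injective (by rw [hσ, hσ, h]))
  have h2 : ∀ x p, (g x).1 (σ p) = x.1 p := fun x p => by
    have h3 : dotInt _ _ = dotInt _ (vecF p) := co_dot hg x (leechF p)
    rw [hσ, leechF, dot_F, dot_F, h0] at h3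
    omega
  have h3 : σ none = none := leechF_injective (by
    have : leechF none = leechU + leechU' := Subtype.ext (by decide +kernel)
    rw [← hσ, this, hg.1, hU, hU'])
  have h4 : σ (some 0) = some 0 := leechF_injective (by
    have : leechF (some 0) = leechU := Subtype.ext (by decide +kernel)
    rw [← hσ, this, hU])
  refine ⟨⟨Equiv.ofBijective σ (Finite.injective_iff_bijective.1 hi), ⟨mem_M24_iff.2 fun w hw => ?_,
    h3⟩, h4⟩, h2⟩
  obtain ⟨m, hm, w', hw', h5, -⟩ := exists_of_mem_leech (g⁻¹ ⟨_, lift2_mem hw⟩).2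
  convert hw' using 1
  funext p
  have h6 := h5 p
  rw [← h2, Equiv.Perm.coe_inv, Equiv.apply_symm_apply, Int.ModEq] at h6
  change lift2 w (σ p) % 4 = _ at h6
  change w (σ p) = w' p
  rcases lift2_cases w (σ p) with ⟨h7, h8⟩ | ⟨h7, h8⟩ <;>
    rcases lift2_cases w' p with ⟨h9, h10⟩ | ⟨h9, h10⟩ <;>
    first | exact h7.trans h9.symm | (exfalso; omega)

theorem card_le_M22 {K : Subgroup (Equiv.Perm leechLattice)} (h : ∀ g ∈ K, g ∈ Co0 ∧
    g leechV = leechV ∧ g leechU = leechU ∧ g leechU' = leechU') :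
    Finite K ∧ Nat.card K ≤ 443520 := by
  choose f hf using fun g : K => exists_M22 (h g g.2).1 (h g g.2).2.1 (h g g.2).2.2.1 (h g g.2).2.2.2
  have hi : Function.Injective f := fun g g' e => by
    ext x q
    obtain ⟨p, rfl⟩ := (f g).1.surjective q
    rw [hf, e, hf]
  exact ⟨Finite.of_injective f hi, (Nat.card_le_card_of_injective f hi).trans card_M22_le⟩

theorem card_HS_le : Finite HS ∧ Nat.card HS ≤ 44352000 :=
  card_le_of_orbit' HS leechU ncard5 (fun g hg => ⟨(hg.1.1.2 _).trans (by decide +kernel),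
      (co_dot_fix hg.1.1 hg.2 _).trans (by decide +kernel),
      (co_dot_fix hg.1.1 hg.1.2 _).trans (by decide +kernel)⟩)
    (card_le_M22 fun _ hg => ⟨hg.1.1.1, hg.1.1.2, hg.2, hg.1.2⟩)

theorem card_McL_le : Finite McL ∧ Nat.card McL ≤ 898128000 :=
  card_le_of_orbit' McL leechU' ncard4 (fun g hg => ⟨(hg.1.1.2 _).trans (by decide +kernel),
      (co_dot_fix hg.1.1 hg.2 _).trans (by decide +kernel),
      (co_dot_fix hg.1.1 hg.1.2 _).trans (by decide +kernel)⟩)
    (card_le_M22 fun _ hg => ⟨hg.1.1.1, hg.1.1.2, hg.1.2, hg.2⟩)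

theorem card_Co3_le : Finite Co3 ∧ Nat.card Co3 ≤ 495766656000 :=
  card_le_of_orbit' Co3 leechU ncard3 (fun g hg => ⟨(hg.1.2 _).trans (by decide +kernel),
      (co_dot_fix hg.1 hg.2 _).trans (by decide +kernel)⟩) card_McL_le

theorem card_Co2_le : Finite Co2 ∧ Nat.card Co2 ≤ 42305421312000 := by
  refine card_le_of_orbit' (N := 898128000) Co2 (-(leechU + leechV)) ncard2
    (fun g hg => ⟨(hg.1.2 _).trans (by decide +kernel),
      (co_dot_fix hg.1 hg.2 _).trans (by decide +kernel)⟩) ?_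
  have h : Co2 ⊓ MulAction.stabilizer _ (-(leechU + leechV)) ≤ McL := fun g hg => by
    refine ⟨⟨hg.1.1, ?_⟩, hg.1.2⟩
    have h1 : g (-(leechU + leechV)) = -(leechU + leechV) := hg.2
    have h2 : g leechU = leechU := hg.1.2
    rwa [co_neg hg.1.1, hg.1.1.1, h2, neg_inj, add_right_inj] at h1
  have := card_McL_le.1
  exact ⟨Finite.of_injective _ (Subgroup.inclusion_injective h),
    (Subgroup.card_le_of_le h).trans card_McL_le.2⟩

theorem card_Co0_le : Finite Co0 ∧ Nat.card Co0 ≤ 8315553613086720000 :=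
  card_le_of_orbit' Co0 leechU ncard1 (fun g hg => (hg.2 _).trans (by decide +kernel)) card_Co2_le

end Cfsg.Agent.Id
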