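import Cfsg.Agent.Lib.Id.ConwayBound

/-! Automorphisms of the Leech lattice given by matrices, and their action on coded vectors. -/

set_option autoImplicit false
set_option maxRecDepth 100000

namespace Cfsg.Agent.Id

open Cfsg.Agent.CG Cfsg.Spor Finset
open scoped Pointwise

/-- The matrix with the given table of five-bit entries. -/
def mat (T : ℕ) (p q : GolayPt) : ℤ :=
  (Nat.land (Nat.shiftRight T (Nat.mul 5 (Nat.add (Nat.mul 24 (idx q)) (idx p)))) 31 : ℕ) - 8

/-- The matrix applied to a vector. -/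
def mvec (T : ℕ) (x : GolayPt → ℤ) (p : GolayPt) : ℤ := ∑ q, mat T p q * x q

/-- The parity of an eighth of `y`. -/
def mOf (y : GolayPt → ℤ) : ℤ := y none / 8 % 2

/-- The information bits of the code word of an eighth of `y`. -/
noncomputable def aOf (y : GolayPt → ℤ) : ℕ :=
  sumLt (fun i => Nat.shiftLeft ((y (ofIdx i) / 8 - mOf y) % 4 / 2).toNat i) 12

/-- The check that `y` is eight times a lattice vector. -/
def Ok8 (y : GolayPt → ℤ) : Prop :=
  (∀ p, y p ≡ 8 * (mOf y + lift2 (wd (enc (aOf y))) p) [ZMOD 32]) ∧ ∑ p, y p ≡ 32 * mOf y [ZMOD 64]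

noncomputable instance decOk8 (y : GolayPt → ℤ) : Decidable (Ok8 y) := by unfold Ok8; infer_instance

theorem Ok8.exists {y : GolayPt → ℤ} (h : Ok8 y) : ∃ z ∈ leechLattice, ∀ p, y p = 8 * z p := by
  have h1 : ∀ p, y p = 8 * (y p / 8) := fun p => by
    have := h.1 p
    rw [Int.ModEq] at this
    omega
  refine ⟨fun p => y p / 8, mem_leech (m := mOf y) (wd_enc_mem (aOf y)) (fun p => ?_) ?_, h1⟩
  · have := h.1 p
    rw [Int.ModEq] at *
    omega
  · have := h.2
    rw [sum_congr rfl fun p _ => h1 p, ← mul_sum] at this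
    rw [Int.ModEq] at *
    omega

theorem finite_sqNorm (N : ℤ) : {x : leechLattice | sqNorm x.1 = N}.Finite := by
  refine Set.Finite.of_injOn (f := Subtype.val) (t := Set.pi Set.univ fun _ => Set.Icc (-N) N)
    (fun x hx p _ => ?_) Subtype.val_injective.injOn (Set.Finite.pi fun _ => Set.finite_Icc _ _)
  have := sq_le_sqNorm x.1 p
  rw [show sqNorm x.1 = N from hx] at this
  constructor <;> nlinarith [sq_nonneg (x.1 p - 1), sq_nonneg (x.1 p + 1), sq_nonneg (x.1 p)]

/-- The checks on a matrix. -/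
structure MatOK (T : ℕ) : Prop where
  orth : ∀ q r, ∑ p, mat T p q * mat T p r = if q = r then 64 else 0
  w : Ok8 (mvec T vecW)
  r : ∀ r ∈ rows, Ok8 (mvec T (lift2 (wd r)))
  f : ∀ p, Ok8 (mvec T (vecF p))

theorem MatOK.exists {T : ℕ} (h : MatOK T) : ∃ g ∈ Co0, ∀ x p, mvec T x.1 p = 8 * (g x).1 p := by
  have hadd : ∀ x y p, mvec T (x + y) p = mvec T x p + mvec T y p := fun x y p => by
    simp only [mvec, Pi.add_apply, mul_add, sum_add_distrib]
  let S : AddSubgroup (GolayPt → ℤ) :=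
    { carrier := {x | ∃ z ∈ leechLattice, ∀ p, mvec T x p = 8 * z p}
      zero_mem' := ⟨0, zero_mem _, fun p => by simp [mvec]⟩
      add_mem' := by
        rintro x y ⟨z, hz, h1⟩ ⟨w, hw, h2⟩
        exact ⟨z + w, add_mem hz hw, fun p => by rw [hadd, h1, h2, Pi.add_apply, mul_add]⟩
      neg_mem' := by
        rintro x ⟨z, hz, h1⟩
        refine ⟨-z, neg_mem hz, fun p => ?_⟩
        rw [Pi.neg_apply, mul_neg, ← h1]
        simp [mvec] }
  have hS : leechLattice ≤ S := leech_le h.w.exists (fun r hr => (h.r r hr).exists)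
    fun p => (h.f p).exists
  choose f hf1 hf2 using fun x : leechLattice => hS x.2
  let F : leechLattice → leechLattice := fun x => ⟨f x, hf1 x⟩
  have h1 : ∀ v w, F (v + w) = F v + F w := fun v w => Subtype.ext (funext fun p => by
    have := hadd v.1 w.1 p
    rw [← AddSubgroup.coe_add, hf2, hf2, hf2] at this
    change f _ p = f _ p + f _ p
    omega)
  have h2 : ∀ v, sqNorm (F v).1 = sqNorm v.1 := fun v => by
    have : ∑ p, mvec T v.1 p ^ 2 = 64 * sqNorm v.1 := by
      simp only [mvec, sq, sum_mul_sum]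
      rw [sum_comm, sqNorm, mul_sum]
      refine sum_congr rfl fun q _ => ?_
      rw [sum_comm, sum_congr rfl (g := fun r => (if q = r then 64 else 0) * (v.1 q * v.1 r))
        fun r _ => by rw [← h.orth, sum_mul]; exact sum_congr rfl fun p _ => by ring]
      simp [sq]
    simp only [hf2, mul_pow, ← mul_sum] at this
    change _ * sqNorm (F v).1 = _ at this
    omega
  have h3 : Function.Injective F := by
    refine (injective_iff_map_eq_zero (AddMonoidHom.mk' F h1)).2 fun x hx => ?_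
    have h4 := h2 x
    rw [show F x = 0 from hx] at h4
    refine Subtype.ext (funext fun p => ?_)
    have := sq_le_sqNorm x.1 p
    rw [← h4, show sqNorm (0 : leechLattice).1 = 0 by simp [sqNorm]] at this
    exact pow_eq_zero_iff (two_ne_zero) |>.1 (le_antisymm this (sq_nonneg _))
  have h4 : Function.Surjective F := fun y => by
    obtain ⟨x, -, hx⟩ := (((finite_sqNorm (sqNorm y.1)).injOn_iff_bijOn_of_mapsTo
      (f := F) fun x hx => (h2 x).trans hx).1 h3.injOn).surjOn (show y ∈ _ from rfl)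
    exact ⟨x, hx⟩
  exact ⟨Equiv.ofBijective F ⟨h3, h4⟩, ⟨h1, h2⟩, hf2⟩

theorem fix_of_mvec {T : ℕ} {g : Equiv.Perm leechLattice} (hg : ∀ x p, mvec T x.1 p = 8 * (g x).1 p)
    {v : leechLattice} (h : ∀ p, mvec T v.1 p = 8 * v.1 p) : g v = v :=
  Subtype.ext (funext fun p => by have := hg v p; have := h p; omega)

/-- The value of a vector in base sixteen. -/
def evv (z : GolayPt → ℤ) : ℤ := ∑ p, z p * 16 ^ idx p

/-- The vector with a given code. -/
def dec (t : ℕ) (p : GolayPt) : ℤ := (t / 16 ^ idx p % 16 : ℕ) - 8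

theorem evv_sub (x y : GolayPt → ℤ) : evv (x - y) = evv x - evv y := by
  simp only [evv, Pi.sub_apply, sub_mul, sum_sub_distrib]

theorem evv_dec {t : ℕ} (h : t < 16 ^ 24) : evv (dec t) = t - 0x888888888888888888888888 := by
  have : ∀ n, ∑ i ∈ range n, t / 16 ^ i % 16 * 16 ^ i = t % 16 ^ n := fun n => by
    induction n with
    | zero => simp [Nat.mod_one]
    | succ n ih => rw [sum_range_succ, ih, Nat.mod_pow_succ, mul_comm]
  have e : ∑ p, (8 : ℤ) * 16 ^ idx p = 0x888888888888888888888888 := by decide +kernel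
  have e2 := this 24
  rw [Nat.mod_eq_of_lt h] at e2
  simp only [evv, dec, sub_mul, sum_sub_distrib]
  rw [e, sub_left_inj, sum_eq_sum_range]
  conv_rhs => rw [← e2, Nat.cast_sum]
  exact sum_congr rfl fun i hi => by rw [idx_ofIdx i (mem_range.1 hi), Nat.cast_mul, Nat.cast_pow]; rfl

theorem eq_of_evv {x y : GolayPt → ℤ} (h1 : ∀ p, |x p - y p| < 16) (h2 : 16 ^ 24 ∣ evv x - evv y) :
    x = y := by
  have : ∀ (n : ℕ) (f : ℕ → ℤ), (∀ i, |f i| < 16) → 16 ^ n ∣ ∑ i ∈ range n, f i * 16 ^ i →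
      ∀ i < n, f i = 0 := fun n f hf => by
    induction n with
    | zero => simp
    | succ n ih =>
      intro h i hi
      rw [sum_range_succ] at h
      have h3 := ih ((dvd_add_left (dvd_mul_left _ _)).1 ((pow_dvd_pow _ n.le_succ).trans h))
      rw [sum_eq_zero fun j hj => by rw [h3 j (mem_range.1 hj), zero_mul], zero_add, pow_succ',
        mul_dvd_mul_iff_right (by positivity)] at h
      rcases Nat.lt_succ_iff_lt_or_eq.1 hi with h4 | rfl
      · exact h3 i h4
      · exact Int.eq_zero_of_abs_lt_dvd h (hf i)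
  rw [← evv_sub, evv, sum_eq_sum_range, sum_congr rfl (g := fun i => (x - y) (ofIdx i) * 16 ^ i)
    fun i hi => by rw [idx_ofIdx i (mem_range.1 hi)]] at h2
  funext p
  have h3 := this 24 _ (fun i => h1 _) h2 _ (idx_lt p)
  rwa [ofIdx_idx, sub_eq_zero] at h3

/-- The combination of the numbers `l` with the digits of `t`. -/
noncomputable def mvp (l : List ℕ) (t : ℕ) : ℕ :=
  List.rec (motive := fun _ => ℕ → ℕ) (fun _ => 0)
    (fun c _ ih t => Nat.add (Nat.mul c (Nat.land t 15)) (ih (Nat.shiftRight t 4))) l t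

theorem mvp_eq (l : List ℕ) (t : ℕ) :
    mvp l t = ∑ i ∈ range l.length, nth l 0 i * (t / 16 ^ i % 16) := by
  induction l generalizing t with
  | nil => rfl
  | cons c l ih =>
    have : mvp (c :: l) t = c * (t &&& (2 ^ 4 - 1)) + mvp l (t >>> 4) := rfl
    rw [this, ih, List.length_cons, sum_range_succ', add_comm, Nat.and_two_pow_sub_one_eq_mod,
      Nat.shiftRight_eq_div_pow]
    simp only [Nat.div_div_eq_div_mul, pow_succ', pow_zero, Nat.div_one]
    rfl

/-- The checks on the coded columns. -/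
structure ColOK (T : ℕ) (l : List ℕ) (c : GolayPt → ℤ) (K1 K2 : ℕ) : Prop where
  len : l.length = 24
  col : ∀ q, ((nth l 0 (idx q) : ℕ) : ℤ) ≡ evv fun p => mat T p q [ZMOD 2 ^ 99]
  k1 : K1 + 8 * ∑ q, ((nth l 0 (idx q) : ℕ) : ℤ) ≡ 8 * 0x888888888888888888888888 [ZMOD 2 ^ 99]
  k2 : K2 ≡ 8 * (∑ q, ((nth l 0 (idx q) : ℕ) : ℤ) + 0x888888888888888888888888 + evv c) [ZMOD 2 ^ 99]

/-- The check that the vector coded by `t` is mapped to the pair coded by `t'`. -/
noncomputable def chkPt (l : List ℕ) (K1 K2 t t' : ℕ) : Bool :=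
  force (mvp l t) fun y => force (Nat.mul 8 t') fun t8 =>
    bor (Nat.beq (Nat.mod (Nat.add y K1) 0x8000000000000000000000000) t8)
      (Nat.beq (Nat.mod (Nat.add y t8) 0x8000000000000000000000000) K2)

/-- The code `t` names a minimal vector `x` for which `c - x` is minimal too. -/
def Good (c : leechLattice) (t : ℕ) : Prop :=
  ∃ x : leechLattice, x.1 = dec t ∧ sqNorm x.1 = 32 ∧ 2 * dotInt x.1 c.1 = sqNorm c.1

theorem good_of {c : leechLattice} {t : ℕ} (h : Ok8 (fun p => 8 * dec t p) ∧ sqNorm (dec t) = 32 ∧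
    2 * dotInt (dec t) c.1 = sqNorm c.1) : Good c t := by
  obtain ⟨z, hz, h1⟩ := h.1.exists
  obtain rfl : z = dec t := funext fun p => by have := h1 p; omega
  exact ⟨⟨_, hz⟩, rfl, h.2⟩

/-- The pair of vectors named by a code. -/
def pairOf (c : leechLattice) (t : ℕ) : Set leechLattice := {x | x.1 = dec t ∨ (c - x).1 = dec t}

theorem pairOf_eq {c x : leechLattice} {t : ℕ} (h : x.1 = dec t) : pairOf c t = {x, c - x} := by
  ext y
  rw [pairOf, Set.mem_ofPred_eq, ← h, Subtype.val_inj, Subtype.val_inj, Set.mem_insert_iff,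
    Set.mem_singleton_iff, sub_eq_iff_eq_add, eq_sub_iff_add_eq, add_comm, eq_comm (a := c)]

theorem good_step {T : ℕ} {l : List ℕ} {c : leechLattice} {K1 K2 : ℕ} (hl : ColOK T l c.1 K1 K2)
    {g : Equiv.Perm leechLattice} (h0 : g ∈ Co0) (hg : ∀ x p, mvec T x.1 p = 8 * (g x).1 p)
    (hc : g c = c) {t t' : ℕ} (ht : t' < 16 ^ 24) (h : chkPt l K1 K2 t t' = true) (hG : Good c t) :
    Good c t' ∧ g • pairOf c t = pairOf c t' := by
  obtain ⟨x, hx, h1, h2⟩ := hG
  have h3 : g • pairOf c t = {g x, c - g x} := by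
    rw [pairOf_eq hx, Set.smul_set_insert, Set.smul_set_singleton, Equiv.Perm.smul_def,
      Equiv.Perm.smul_def, co_sub h0, hc]
  have h4 : sqNorm (g x).1 = 32 := (h0.2 x).trans h1
  have h5 : 2 * dotInt (g x).1 c.1 = sqNorm c.1 := by rw [co_dot_fix h0 hc, h2]
  have h6 : 8 * evv (g x).1 + 8 * ∑ q, ((nth l 0 (idx q) : ℕ) : ℤ) ≡ mvp l t [ZMOD 2 ^ 99] := by
    have e1 : 8 * evv (g x).1 = ∑ q, (evv fun p => mat T p q) * dec t q := by
      simp only [evv, mul_sum, ← mul_assoc, ← hg, mvec, sum_mul, hx]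
      rw [sum_comm]
      exact sum_congr rfl fun q _ => sum_congr rfl fun p _ => by ring
    have e2 : (mvp l t : ℤ) = ∑ q, (((nth l 0 (idx q) : ℕ) : ℤ) * dec t q + 8 * (nth l 0 (idx q) : ℕ)) := by
      rw [mvp_eq, hl.len, sum_eq_sum_range]
      push_cast
      refine sum_congr rfl fun i hi => ?_
      rw [dec, idx_ofIdx i (mem_range.1 hi)]
      push_cast
      ring
    rw [e1, e2, sum_add_distrib, ← mul_sum]
    exact Int.ModEq.add_right _ (Int.ModEq.sum fun q _ => ((hl.col q).symm.mul_right _))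
  have key : ∀ y : leechLattice, sqNorm y.1 = 32 → 8 * evv y.1 ≡ 8 * evv (dec t') [ZMOD 2 ^ 99] →
      y.1 = dec t' := fun y hy e => eq_of_evv (fun p => by
    have := abs_le_five hy p
    rw [dec, abs_lt]
    omega) (by
    have := e.symm.dvd
    omega)
  rw [chkPt, force_eq, force_eq, bor_eq, beq_iff, beq_iff, natMod_eq, natMod_eq, Nat.add_eq,
    Nat.add_eq, Nat.mul_eq] at h
  have k1 := hl.k1
  have k2 := hl.k2
  rw [h3]
  rcases h with h | h
  · have := key _ h4 (by
      rw [evv_dec ht]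
      rw [Int.ModEq] at *
      omega)
    exact ⟨⟨_, this, h4, h5⟩, (pairOf_eq this).symm⟩
  · have h7 : sqNorm (c - g x).1 = 32 := by
      rw [AddSubgroup.coe_sub, sqNorm_sub, h4, ← h5]
      simp only [dotInt, mul_comm]
      ring
    have := key _ h7 (by
      rw [evv_dec ht, AddSubgroup.coe_sub, evv_sub]
      rw [Int.ModEq] at *
      omega)
    refine ⟨⟨_, this, h7, ?_⟩, ?_⟩
    · have e : dotInt (c - g x).1 c.1 = sqNorm c.1 - dotInt (g x).1 c.1 := by
        simp only [AddSubgroup.coe_sub, sqNorm_eq_dot, dotInt, Pi.sub_apply, sub_mul, sum_sub_distrib]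
      omega
    · rw [pairOf_eq this, sub_sub_cancel, Set.pair_comm]

section
variable {n w : ℕ} [NeZero n] {app : ℕ → ℕ → ℕ} {r k : ℕ} {partner : ℕ → ℕ}
  {slp : ℕ → Bool × List ℕ}

/-- The check of one letter at one point. -/
noncomputable def chkLet (tab : ℕ → ℕ) (w : ℕ) (app : ℕ → ℕ → ℕ) (a : ℕ) (l : List ℕ) (K1 K2 j : ℕ) :
    Bool := chkPt l K1 K2 (tab j) (tab (Nat.div (app a (Nat.mul w j)) w))

/-- The letter `a` is realised by an element of `X`. -/
def LetOK (X : Subgroup (Equiv.Perm leechLattice)) (c : leechLattice) (tab : ℕ → ℕ) (n w : ℕ)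
    (app : ℕ → ℕ → ℕ) (a : ℕ) : Prop :=
  ∃ (T : ℕ) (l : List ℕ) (K1 K2 : ℕ), ColOK T l c.1 K1 K2 ∧
    allLt (chkLet tab w app a l K1 K2) n = true ∧
    ∃ g ∈ X, g ∈ Co0 ∧ (∀ x p, mvec T x.1 p = 8 * (g x).1 p) ∧ g c = c

theorem realized_of_letters (h : TabOK n w app r k partner slp) {inv : ℕ → ℕ}
    (hinv : ∀ a, h.act.gen (inv a) = (h.act.gen a)⁻¹)
    (htr : ∀ i j, ∃ g ∈ tabGroup n w app r, g i = j)
    {X : Subgroup (Equiv.Perm leechLattice)} {c : leechLattice} {tab : ℕ → ℕ}
    (hs : allLt (fun j => blt (tab j) (tab (Nat.succ j))) (n - 1) = true)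
    (hl : tab (n - 1) < 16 ^ 24 ∧ 2 * ((tab (n - 1) : ℤ) - 0x888888888888888888888888) < evv c.1)
    (j0 : Fin n) (h0 : Good c (tab j0)) (L : List ℕ) (hL : ∀ a ∈ L, LetOK X c tab n w app a)
    (hall : allLt (fun a => bor (memL a L) (memL (inv a) L)) r = true) :
    (Function.Injective fun j : Fin n => pairOf c (tab j)) ∧
      tabGroup n w app r ≤ realized X fun j : Fin n => pairOf c (tab j) := by
  have hm : ∀ i j, i < j → j < n → tab i < tab j := fun i j hij hj => by
    induction hij with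
    | refl => exact (blt_iff _ _).1 ((allLt_iff _ _).1 hs i (by omega))
    | step _ ih =>
      exact (ih (by omega)).trans ((blt_iff _ _).1 ((allLt_iff _ _).1 hs _ (by omega)))
  have hle : ∀ j : Fin n, tab j ≤ tab (n - 1) := fun j => by
    rcases Nat.lt_or_ge j (n - 1) with h1 | h1
    · exact (hm _ _ h1 (by omega)).le
    · rw [show (j : ℕ) = n - 1 by omega]
  have hstep : ∀ a ∈ L, ∃ g : X, ∀ j : Fin n, Good c (tab j) → Good c (tab (permOf n w app a j)) ∧
      g • pairOf c (tab j) = pairOf c (tab (permOf n w app a j)) := fun a ha => by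
    obtain ⟨T, l, K1, K2, h1, h2, g, h3, h4, h5, h6⟩ := hL a ha
    refine ⟨⟨g, h3⟩, fun j hj => good_step h1 h4 h5 h6 ((hle _).trans_lt hl.1) ?_ hj⟩
    rw [permOf_val h]
    exact (allLt_iff _ _).1 h2 j j.2
  have hG : ∀ j : Fin n, Good c (tab j) := fun j => by
    have h1 : tabGroup n w app r ≤ MulAction.stabilizer _ {j : Fin n | Good c (tab j)} :=
      tabGroup_le h hinv L (fun a ha => by
        rw [MulAction.mem_stabilizer_set_iff_smul_set_subset (Set.toFinite _)]
        rintro _ ⟨i, hi, rfl⟩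
        exact ((hstep a ha).choose_spec i hi).1) hall
    obtain ⟨g, hg, rfl⟩ := htr j0 j
    exact (MulAction.mem_stabilizer_set.1 (h1 hg) j0).2 h0
  refine ⟨fun i j e => ?_, tabGroup_le h hinv L (fun a ha => ?_) hall⟩
  · obtain ⟨x, hx, -⟩ := hG i
    have h1 : x ∈ pairOf c (tab j) := (Set.ext_iff.1 e x).1 (Or.inl hx)
    have h2 := evv_dec ((hle i).trans_lt hl.1)
    have h3 := evv_dec ((hle j).trans_lt hl.1)
    have h4 := hle i
    have h5 := hle j
    rw [← hx] at h2
    rcases h1 with h1 | h1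
    · rw [← h1] at h3
      by_contra hne
      rcases lt_or_gt_of_ne hne with h6 | h6
      · have := hm _ _ h6 j.2; omega
      · have := hm _ _ h6 i.2; omega
    · rw [← h1, AddSubgroup.coe_sub, evv_sub] at h3
      omega
  · obtain ⟨g, hg⟩ := hstep a ha
    exact ⟨g, fun j => (hg j (hG j)).2⟩

end

end Cfsg.Agent.Id
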