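import Cfsg.Agent.Lib.Id.Lin

/-! The field with four elements in code. -/

set_option autoImplicit false

namespace Cfsg.Agent.Id

open Cfsg.Agent.CG

variable {F : Type*} [Field F]

theorem charP_two_of_card [Fintype F] {k : ℕ} (h : Fintype.card F = 2 ^ k) : CharP F 2 := by
  obtain ⟨p, hp, n, hp', hn⟩ := FiniteField.card' F
  have : p ∣ 2 ^ k := by rw [← h, hn]; exact dvd_pow_self p n.ne_zero
  have := (Nat.prime_dvd_prime_iff_eq hp' Nat.prime_two).1 (hp'.dvd_of_dvd_pow this)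
  exact this ▸ hp

theorem fel4_0 (ω : F) : fel ω 2 0 = 0 := fel_zero _ _
theorem fel4_1 (ω : F) : fel ω 2 1 = 1 := by simp [fel, Finset.sum_range_succ, Nat.testBit]
theorem fel4_2 (ω : F) : fel ω 2 2 = ω := by simp [fel, Finset.sum_range_succ, Nat.testBit]
theorem fel4_3' (ω : F) : fel ω 2 3 = 1 + ω := by simp [fel, Finset.sum_range_succ, Nat.testBit]

theorem fel4_3 [CharP F 2] {ω : F} (hω : ω ^ 2 + ω + 1 = 0) : fel ω 2 3 = ω ^ 2 := by
  rw [fel4_3']
  have : (2 : F) = 0 := CharTwo.two_eq_zero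
  linear_combination -hω + (1 + ω) * this

theorem fel4_inj [CharP F 2] {ω : F} (hω : ω ^ 2 + ω + 1 = 0) : ∀ c < 2 ^ 2, fel ω 2 c = 0 → c = 0 := by
  have h0 : ω ≠ 0 := by rintro rfl; simp at hω
  intro c hc h
  interval_cases c
  · rfl
  · rw [fel4_1] at h; exact absurd h one_ne_zero
  · rw [fel4_2] at h; exact absurd h h0
  · rw [fel4_3 hω] at h; exact absurd h (pow_ne_zero _ h0)

theorem fel4_mul [CharP F 2] {ω : F} (hω : ω ^ 2 + ω + 1 = 0) (c : ℕ) :
    ω * fel ω 2 c = fel ω 2 (nth [0, 2, 3, 1] 0 (c % 4)) := by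
  rw [← fel_mod ω 2 c, show 2 ^ 2 = 4 from rfl]
  have : c % 4 < 4 := Nat.mod_lt _ (by norm_num)
  generalize c % 4 = e at this
  have h2 : (2 : F) = 0 := CharTwo.two_eq_zero
  interval_cases e
  · change ω * fel ω 2 0 = fel ω 2 0
    rw [fel4_0, mul_zero]
  · change ω * fel ω 2 1 = fel ω 2 2
    rw [fel4_1, fel4_2, mul_one]
  · change ω * fel ω 2 2 = fel ω 2 3
    rw [fel4_2, fel4_3 hω, sq]
  · change ω * fel ω 2 3 = fel ω 2 1
    rw [fel4_1, fel4_3']
    linear_combination hω - h2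

/-- The check of the table of the multiplication by `ω`. -/
noncomputable def theta4 (d : ℕ) (Θ : List ℕ) : Bool :=
  band (Nat.beq Θ.length (2 * d)) (allLt (fun i => allLt (fun j =>
    Nat.beq ((nth Θ 0 i >>> (2 * j)) % 4) (nth [0, 2, 3, 1] 0 ((2 ^ i >>> (2 * j)) % 4))) d) (2 * d))

theorem theta4_sound [CharP F 2] {ω : F} (hω : ω ^ 2 + ω + 1 = 0) {ι : Type*} {d : ℕ} {idx : ι → ℕ}
    (hlt : ∀ j, idx j < d) {Θ : List ℕ} (h : theta4 d Θ = true) :
    ∀ x < 2 ^ (2 * d), ω • dec2 ω 2 idx x = dec2 ω 2 idx (lin2 Θ x) := by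
  unfold theta4 at h
  rw [band_eq, beq_iff, allLt_iff] at h
  intro x hx
  have := lin2_dec (dec2_zero ω 2 idx) (dec2_xor ω 2 idx) (dec2_zero ω 2 idx) (dec2_xor ω 2 idx)
    (DistribSMul.toAddMonoidHom (ι → F) ω) Θ 0 ?_ x (h.1 ▸ hx)
  · simpa using this
  intro i hi
  funext r
  have h2 := (beq_iff _ _).1 ((allLt_iff _ _).1 (h.2 i (h.1 ▸ hi)) _ (hlt r))
  rw [nth_eq Θ, List.getD_eq_getElem _ _ hi] at h2
  simp only [zero_add, DistribSMul.toAddMonoidHom_apply, Pi.smul_apply, smul_eq_mul, dec2]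
  rw [fel4_mul hω, ← h2]
  exact fel_mod ω 2 _

theorem exists_omega [Fintype F] (h : Fintype.card F = 4) : ∃ ω : F, ω ^ 2 + ω + 1 = 0 := by
  classical
  have : ∃ ω : F, ω ∉ ({0, 1} : Finset F) := by
    by_contra hc
    push Not at hc
    have := Finset.card_le_card (show Finset.univ ⊆ ({0, 1} : Finset F) from fun x _ => hc x)
    have h2 := Finset.card_le_two (a := (0 : F)) (b := 1)
    rw [Finset.card_univ] at this
    omega
  obtain ⟨ω, hω⟩ := this
  simp only [Finset.mem_insert, Finset.mem_singleton, not_or] at hω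
  have h1 := FiniteField.pow_card_sub_one_eq_one ω hω.1
  rw [h] at h1
  refine ⟨ω, (mul_eq_zero.1 (?_ : (ω - 1) * (ω ^ 2 + ω + 1) = 0)).resolve_left (sub_ne_zero.2 hω.2)⟩
  linear_combination h1

end Cfsg.Agent.Id
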