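import Cfsg.Agent.Lib.Id.Basic
import Cfsg.Prelude.Def_Sporadic_a

/-! The binary Golay code in bit masks; criteria for membership in `M24`. -/

set_option autoImplicit false
set_option maxRecDepth 100000

namespace Cfsg.Agent.Id

open Cfsg.Agent.CG
open scoped Pointwise

/-- The number of a point. -/
def idx : GolayPt → ℕ
  | none => 23
  | some x => x.val

/-- The point with a given number. -/
def ofIdx (i : ℕ) : GolayPt := if i = 23 then none else some (i : ZMod 23)

theorem ofIdx_idx : ∀ p, ofIdx (idx p) = p := by decide +kernel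
theorem idx_lt : ∀ p, idx p < 24 := by decide +kernel
theorem idx_ofIdx : ∀ i < 24, idx (ofIdx i) = i := by decide +kernel
theorem idx_injective : Function.Injective idx := Function.LeftInverse.injective ofIdx_idx

theorem sum_eq_sum_range {M : Type*} [AddCommMonoid M] (f : GolayPt → M) :
    ∑ p, f p = ∑ i ∈ Finset.range 24, f (ofIdx i) :=
  Finset.sum_nbij' idx ofIdx (fun p _ => Finset.mem_range.2 (idx_lt p)) (fun _ _ => Finset.mem_univ _)
    (fun p _ => ofIdx_idx p) (fun i hi => idx_ofIdx i (Finset.mem_range.1 hi))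
    (fun p _ => by rw [ofIdx_idx])

/-- The binary word of a mask. -/
def wd (m : ℕ) : GolayPt → ZMod 2 := fun p => if m.testBit (idx p) then 1 else 0

/-- The set of points of a mask. -/
def st (m : ℕ) : Finset GolayPt := Finset.univ.filter fun p => m.testBit (idx p)

@[simp] theorem mem_st {m : ℕ} {p : GolayPt} : p ∈ st m ↔ m.testBit (idx p) := by simp [st]

theorem wd_xor (a b : ℕ) : wd (a ^^^ b) = wd a + wd b := by
  funext p
  simp only [wd, Nat.testBit_xor, Pi.add_apply]
  cases a.testBit (idx p) <;> cases b.testBit (idx p) <;> decide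

theorem wd_zero : wd 0 = 0 := by funext p; simp [wd]

theorem support_wd (m : ℕ) : support₂ (wd m) = st m := by
  ext p; simp [support₂, wd]

theorem mem_support {w : GolayPt → ZMod 2} {p : GolayPt} : p ∈ support₂ w ↔ w p = 1 := by
  simp only [support₂, Finset.mem_filter, Finset.mem_univ, true_and]
  generalize w p = c
  revert c; decide

theorem support_injective : Function.Injective (support₂ : (GolayPt → ZMod 2) → _) := by
  intro v w h
  funext p
  have := Finset.ext_iff.1 h p
  rw [mem_support, mem_support] at this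
  revert this
  generalize v p = a
  generalize w p = b
  revert a b; decide

/-- The number of bits among the lowest 24. -/
noncomputable def pop (m : ℕ) : ℕ :=
  Nat.rec (motive := fun _ => ℕ) 0 (fun i ih => Nat.add ih (Nat.land (Nat.shiftRight m i) 1)) 24

theorem land_shift_one (m i : ℕ) :
    Nat.land (Nat.shiftRight m i) 1 = if m.testBit i then 1 else 0 := by
  have := bit_eq_testBit m i
  have h : Nat.land (Nat.shiftRight m i) 1 = (m >>> i) % 2 := Nat.and_one_is_mod _
  unfold bit at this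
  rw [← this, h]
  rcases Nat.mod_two_eq_zero_or_one (m >>> i) with e | e <;> rw [e] <;> rfl

theorem card_st (m : ℕ) : (st m).card = pop m := by
  rw [st, Finset.card_filter, sum_eq_sum_range, Finset.sum_congr rfl
    (g := fun i => if m.testBit i then 1 else 0)
    (fun i hi => by rw [idx_ofIdx i (Finset.mem_range.1 hi)]), pop]
  generalize 24 = n
  induction n with
  | zero => rfl
  | succ n ih => rw [Finset.sum_range_succ, ih, ← land_shift_one]; rfl

/-- The sum of the members of `l` selected by the bits of `a`. -/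
noncomputable def sel (l : List ℕ) (a : ℕ) : ℕ :=
  List.rec (motive := fun _ => ℕ → ℕ) (fun _ => 0)
    (fun r _ ih a => Nat.xor (Nat.mul r (Nat.land a 1)) (ih (Nat.shiftRight a 1))) l a

theorem sel_cons (r : ℕ) (l : List ℕ) (a : ℕ) :
    sel (r :: l) a = (r * (a % 2)) ^^^ sel l (a >>> 1) := by
  rw [← Nat.and_one_is_mod]; rfl

theorem sel_xor (l : List ℕ) (a b : ℕ) : sel l (a ^^^ b) = sel l a ^^^ sel l b := by
  induction l generalizing a b with
  | nil => exact (Nat.xor_self 0).symm
  | cons r l ih =>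
    rw [sel_cons, sel_cons, sel_cons, Nat.shiftRight_xor_distrib, ih, Nat.xor_mod_two_eq]
    have e : r * ((a + b) % 2) = r * (a % 2) ^^^ r * (b % 2) := by
      rw [Nat.add_mod]
      rcases Nat.mod_two_eq_zero_or_one a with h | h <;>
        rcases Nat.mod_two_eq_zero_or_one b with h' | h' <;> simp [h, h']
    rw [e, Nat.xor_assoc, Nat.xor_assoc, Nat.xor_left_comm (r * (b % 2))]

theorem wd_sel_mem {S : Submodule (ZMod 2) (GolayPt → ZMod 2)} {l : List ℕ}
    (h : ∀ r ∈ l, wd r ∈ S) (a : ℕ) : wd (sel l a) ∈ S := by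
  induction l generalizing a with
  | nil => exact wd_zero ▸ S.zero_mem
  | cons r l ih =>
    rw [sel_cons, wd_xor]
    refine S.add_mem ?_ (ih (fun s hs => h s (by simp [hs])) _)
    rcases Nat.mod_two_eq_zero_or_one a with e | e <;> rw [e]
    · exact wd_zero ▸ S.zero_mem
    · rw [mul_one]; exact h r (by simp)

/-- A systematic basis of the code. -/
def rows : List ℕ := [0xc75001, 0x49f002, 0xd4b004, 0x6e3008, 0x9b3010, 0xb66020, 0xecc040, 0x1ed080,
  0x3da100, 0x7b4200, 0xb1d400, 0xe3a800]

/-- The masks of the given generators of the code. -/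
def gensL : List ℕ := [0x5335f, 0xa66be, 0x14cd7c, 0x299af8, 0x5335f0, 0x266be1, 0x4cd7c2, 0x19af85,
  0x335f0a, 0x66be14, 0x4d7c29, 0x1af853, 0x35f0a6, 0x6be14c, 0x57c299, 0x2f8533, 0x5f0a66, 0x3e14cd,
  0x7c299a, 0x785335, 0x70a66b, 0x614cd7, 0x4299af, 0xffffff]

/-- The code word with information bits `a`. -/
noncomputable def enc (a : ℕ) : ℕ := sel rows a

theorem qrWord_eq (t : ZMod 23) : qrWord t = wd (nth gensL 0 t.val) := by
  funext p; revert t p; decide +kernel

theorem wd_ones : wd 0xffffff = 1 := by funext p; revert p; decide +kernel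

theorem wd_gens_mem : ∀ r ∈ gensL, wd r ∈ golayCode := by
  have : ∀ r ∈ gensL, r = 0xffffff ∨ ∃ t : ZMod 23, r = nth gensL 0 t.val := by decide +kernel
  intro r hr
  rcases this r hr with rfl | ⟨t, rfl⟩
  · exact Submodule.subset_span (Or.inr wd_ones)
  · exact Submodule.subset_span (Or.inl ⟨t, qrWord_eq t⟩)

theorem wd_rows_mem : ∀ r ∈ rows, wd r ∈ golayCode := by
  have : ∀ r ∈ rows, ∃ c ∈ [8390313, 280, 8389785, 1400, 8390330, 8390551, 8390093, 2000, 1347, 101,
    8390243, 8390181], r = sel gensL c := by decide +kernel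
  intro r hr
  obtain ⟨c, -, rfl⟩ := this r hr
  exact wd_sel_mem wd_gens_mem c

theorem wd_enc_mem (a : ℕ) : wd (enc a) ∈ golayCode := wd_sel_mem wd_rows_mem a

theorem exists_enc {w : GolayPt → ZMod 2} (hw : w ∈ golayCode) : ∃ a < 4096, w = wd (enc a) := by
  induction hw using Submodule.span_induction with
  | mem w hw =>
    rcases hw with ⟨t, rfl⟩ | rfl
    · refine ⟨nth gensL 0 t.val % 4096, Nat.mod_lt _ (by norm_num), ?_⟩
      rw [qrWord_eq]; congr 1; revert t; decide +kernel
    · exact ⟨4095, by norm_num, by rw [← wd_ones]; exact congrArg wd (by decide +kernel)⟩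
  | zero => exact ⟨0, by norm_num, by rw [← wd_zero]; congr 1⟩
  | add v w _ _ hv hw =>
    obtain ⟨a, ha, rfl⟩ := hv
    obtain ⟨b, hb, rfl⟩ := hw
    exact ⟨a ^^^ b, Nat.xor_lt_two_pow (n := 12) ha hb, by rw [enc, enc, enc, sel_xor, wd_xor]⟩
  | smul c w _ hw =>
    have : c = 0 ∨ c = 1 := by revert c; decide
    rcases this with rfl | rfl
    · exact ⟨0, by norm_num, by rw [zero_smul, ← wd_zero]; congr 1⟩
    · rwa [one_smul]

theorem enc_weight : allLt (fun a => bor (Nat.beq a 0) (Nat.ble 8 (pop (enc a)))) 4096 = true := by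
  decide +kernel

theorem eq_zero_of_weight {w : GolayPt → ZMod 2} (hw : w ∈ golayCode) (h : (support₂ w).card < 8) :
    w = 0 := by
  obtain ⟨a, ha, rfl⟩ := exists_enc hw
  have := (allLt_iff _ _).1 enc_weight a ha
  rw [bor_eq, beq_iff, ble_iff] at this
  rw [support_wd, card_st] at h
  rcases this with rfl | h1
  · rw [← wd_zero]; congr 1
  · omega

theorem smul_support (g : Equiv.Perm GolayPt) (w : GolayPt → ZMod 2) :
    g⁻¹ • support₂ w = support₂ (w ∘ g) := by
  ext p
  rw [Finset.mem_inv_smul_finset_iff, mem_support, mem_support]; rfl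

theorem mem_M24_iff {g : Equiv.Perm GolayPt} : g ∈ M24 ↔ ∀ w ∈ golayCode, w ∘ g ∈ golayCode := by
  constructor
  · intro hg w hw
    have h1 : g⁻¹ • support₂ w ∈ g⁻¹ • supports (golayCode : Set (GolayPt → ZMod 2)) :=
      Set.smul_mem_smul_set ⟨w, hw, rfl⟩
    rw [inv_mem hg, smul_support] at h1
    obtain ⟨v, hv, e⟩ := h1
    exact support_injective e ▸ hv
  · intro h
    rw [← inv_mem_iff, MulAction.mem_stabilizer_set_iff_smul_set_subset (Set.toFinite _)]
    rintro _ ⟨_, ⟨w, hw, rfl⟩, rfl⟩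
    exact ⟨_, h w hw, (smul_support g w).symm⟩

/-- The map of the points given by a table of five-bit entries. -/
def pf (T : ℕ) (p : GolayPt) : GolayPt := ofIdx (Nat.land (Nat.shiftRight T (Nat.mul 5 (idx p))) 31)

/-- The permutation given by a table. -/
noncomputable def mkP (T : ℕ) (h : Function.Injective (pf T)) : Equiv.Perm GolayPt :=
  Equiv.ofBijective _ (Finite.injective_iff_bijective.1 h)

@[simp] theorem mkP_apply (T : ℕ) (h : Function.Injective (pf T)) (p : GolayPt) :
    mkP T h p = pf T p := rfl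

/-- The preimage of a mask under a table. -/
noncomputable def pull (T r : ℕ) : ℕ :=
  Nat.rec (motive := fun _ => ℕ) 0 (fun i ih => Nat.add ih (Nat.shiftLeft
    (Nat.land (Nat.shiftRight r (Nat.land (Nat.shiftRight T (Nat.mul 5 i)) 31)) 1) i)) 24

theorem mkP_mem {T : ℕ} (h : Function.Injective (pf T))
    (hc : ∀ r ∈ rows, ∀ p, r.testBit (idx (pf T p)) = (enc (pull T r % 4096)).testBit (idx p)) :
    mkP T h ∈ M24 := by
  rw [mem_M24_iff]
  intro w hw
  obtain ⟨a, -, rfl⟩ := exists_enc hw
  refine wd_sel_mem (S := golayCode.comap (LinearMap.funLeft (ZMod 2) (ZMod 2) (pf T)))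
    (fun r hr => ?_) a
  have : LinearMap.funLeft (ZMod 2) (ZMod 2) (pf T) (wd r) = wd (enc (pull T r % 4096)) := by
    funext p
    simp only [LinearMap.funLeft_apply, wd, hc r hr p]
  rw [Submodule.mem_comap, this]
  exact wd_enc_mem _

/-- `g` fixes the points of the mask `F`. -/
def Fix (g : Equiv.Perm GolayPt) (F : ℕ) : Prop := ∀ p, F.testBit (idx p) → g p = p

theorem Fix.not_mem {g : Equiv.Perm GolayPt} {F : ℕ} (h : Fix g F) {p : GolayPt}
    (hp : ¬ F.testBit (idx p)) : ¬ F.testBit (idx (g p)) := fun h1 =>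
  hp (g.injective (h _ h1) ▸ h1)

/-- The mask `o` is an octad with at least five points in `F`. -/
noncomputable def chkOct (F o : ℕ) : Bool :=
  band (Nat.beq (enc (Nat.mod o 4096)) o) (band (Nat.beq (pop o) 8) (Nat.ble 5 (pop (Nat.land o F))))

theorem Fix.octad {g : Equiv.Perm GolayPt} (hg : g ∈ M24) {F o : ℕ} (hF : Fix g F)
    (h : chkOct F o = true) (p : GolayPt) : o.testBit (idx (g p)) = o.testBit (idx p) := by
  unfold chkOct at h
  rw [band_eq, band_eq, beq_iff, beq_iff, ble_iff, ← card_st, ← card_st] at h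
  obtain ⟨h1, h2, h3⟩ := h
  have hw : wd o ∈ golayCode := h1 ▸ wd_enc_mem _
  have hw' := mem_M24_iff.1 hg _ hw
  have h4 : (support₂ (wd o ∘ g)).card = 8 := by
    rw [← smul_support, Finset.card_smul_finset, support_wd, h2]
  have hs1 : st (Nat.land o F) ⊆ st o := fun p hp => by
    rw [mem_st, Nat.land_eq, Nat.testBit_and, Bool.and_eq_true] at hp
    exact mem_st.2 hp.1
  have hs2 : st (Nat.land o F) ⊆ support₂ (wd o ∘ g) := fun p hp => by
    rw [mem_st, Nat.land_eq, Nat.testBit_and, Bool.and_eq_true] at hp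
    rw [mem_support, Function.comp_apply, hF p hp.2, wd, if_pos hp.1]
  have hs : support₂ (wd o + wd o ∘ g) ⊆
      (st o \ st (Nat.land o F)) ∪ (support₂ (wd o ∘ g) \ st (Nat.land o F)) := fun p hp => by
    rw [← Finset.union_sdiff_distrib, Finset.mem_sdiff, Finset.mem_union, ← support_wd o]
    have e1 : p ∈ st (Nat.land o F) → wd o p = 1 := fun h =>
      mem_support.1 (by rw [support_wd]; exact hs1 h)
    have e2 : p ∈ st (Nat.land o F) → (wd o ∘ g) p = 1 := fun h => mem_support.1 (hs2 h)
    rw [mem_support, Pi.add_apply] at hp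
    rw [mem_support, mem_support]
    refine ⟨?_, fun h => ?_⟩
    · revert hp
      generalize wd o p = a
      generalize (wd o ∘ g) p = b
      revert a b; decide
    · rw [e1 h, e2 h] at hp
      exact absurd hp (by decide)
  have h5 := (Finset.card_le_card hs).trans (Finset.card_union_le _ _)
  rw [Finset.card_sdiff_of_subset hs1, Finset.card_sdiff_of_subset hs2, h2, h4] at h5
  have h6 : (if o.testBit (idx p) then 1 else 0) + (if o.testBit (idx (g p)) then 1 else 0) =
      (0 : ZMod 2) := congrFun (eq_zero_of_weight (golayCode.add_mem hw hw') (by omega)) p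
  revert h6
  cases o.testBit (idx (g p)) <;> cases o.testBit (idx p) <;> decide

theorem Fix.insert {g : Equiv.Perm GolayPt} {F j : ℕ} (hF : Fix g F) (h : g (ofIdx j) = ofIdx j) :
    Fix g (F ||| 2 ^ j) := fun p hp => by
  rw [Nat.testBit_or, Bool.or_eq_true, Nat.testBit_two_pow, decide_eq_true_iff] at hp
  rcases hp with hp | rfl
  · exact hF p hp
  · rwa [ofIdx_idx] at h

/-- The check of a chain of deductions of fixed points. -/
noncomputable def chkSteps (L : List (ℕ × ℕ × ℕ)) (F : ℕ) : Bool :=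
  List.rec (motive := fun _ => ℕ → Bool) (fun F => Nat.beq F 0xffffff)
    (fun s _ ih F => band (chkOct F s.1) (band (chkOct F s.2.1)
      (band (blt s.2.2 24) (band (bit (Nat.land s.1 s.2.1) s.2.2)
      (band (Nat.beq (Nat.lor (Nat.land s.1 s.2.1) F) (Nat.lor F (Nat.pow 2 s.2.2)))
        (force (Nat.lor F (Nat.pow 2 s.2.2)) ih)))))) L F

theorem Fix.eq_one {g : Equiv.Perm GolayPt} (hg : g ∈ M24) :
    ∀ (L : List (ℕ × ℕ × ℕ)) {F : ℕ}, Fix g F → chkSteps L F = true → g = 1
  | [], F, hF, h => by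
    obtain rfl := (beq_iff _ _).1 h
    ext p
    rw [hF p (by revert p; decide +kernel)]; rfl
  | (o, o', j) :: L, F, hF, h => by
    have e : chkSteps ((o, o', j) :: L) F = band (chkOct F o) (band (chkOct F o')
      (band (blt j 24) (band (bit (Nat.land o o') j)
      (band (Nat.beq (Nat.lor (Nat.land o o') F) (Nat.lor F (Nat.pow 2 j)))
        (force (Nat.lor F (Nat.pow 2 j)) (chkSteps L)))))) := rfl
    rw [e, band_eq, band_eq, band_eq, band_eq, band_eq, force_eq, blt_iff, bit_eq_testBit,
      beq_iff] at h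
    obtain ⟨h1, h2, h3, h4, h5, h6⟩ := h
    refine Fix.eq_one hg L (hF.insert ?_) h6
    have h7 : (Nat.lor (Nat.land o o') F).testBit (idx (g (ofIdx j))) = true := by
      rw [Nat.land_eq, Nat.testBit_and] at h4
      rw [Nat.lor_eq, Nat.land_eq, Nat.testBit_or, Nat.testBit_and, hF.octad hg h1, hF.octad hg h2,
        idx_ofIdx j h3, h4, Bool.true_or]
    rw [h5, Nat.lor_eq, Nat.testBit_or, Bool.or_eq_true, Nat.pow_eq, Nat.testBit_two_pow,
      decide_eq_true_iff] at h7
    rcases h7 with h7 | h7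
    · exact g.injective (hF _ h7)
    · rw [← ofIdx_idx (g _), ← h7]

/-- The pointwise stabiliser of a mask in `H`. -/
def fx (H : Subgroup (Equiv.Perm GolayPt)) (F : ℕ) : Subgroup (Equiv.Perm GolayPt) where
  carrier := {g | g ∈ H ∧ Fix g F}
  one_mem' := ⟨one_mem _, fun _ _ => rfl⟩
  mul_mem' := fun {g h} hg hh => ⟨mul_mem hg.1 hh.1, fun p hp => by
    rw [Equiv.Perm.mul_apply, hh.2 p hp, hg.2 p hp]⟩
  inv_mem' := fun {g} hg => ⟨inv_mem hg.1, fun p hp => by
    rw [Equiv.Perm.inv_eq_iff_eq, hg.2 p hp]⟩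

theorem card_le_fx {K H : Subgroup (Equiv.Perm GolayPt)} {F N : ℕ} (h : ∀ g ∈ K, g ∈ H ∧ Fix g F)
    (hN : Nat.card (fx H F) ≤ N) : Nat.card K ≤ N := (Subgroup.card_le_of_le h).trans hN

theorem card_fx_le {H : Subgroup (Equiv.Perm GolayPt)} {F N : ℕ} (j m : ℕ)
    (h : ∀ g ∈ H, Fix g F → m.testBit (idx (g (ofIdx j))))
    (hN : Nat.card (fx H (F ||| 2 ^ j)) ≤ N) : Nat.card (fx H F) ≤ pop m * N := by
  refine (card_le_of_orbit' (fx H F) (ofIdx j) (S := st m) ⟨Set.toFinite _, ?_⟩
    (fun g hg => mem_st.2 (h g hg.1 hg.2)) ⟨inferInstance, card_le_fx (fun g hg => ?_) hN⟩).2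
  · rw [Set.ncard_coe_finset, card_st]
  · exact ⟨hg.1.1, hg.1.2.insert hg.2⟩

end Cfsg.Agent.Id
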