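import Cfsg.Agent.Lib.TCX.He.Main
import Cfsg.Agent.Lib.Grp.He.Main
import Cfsg.Prelude.Def_Spor_He

/-! Identification of the presented group `He` with its table permutation group. -/

set_option autoImplicit false
set_option maxRecDepth 100000

namespace Cfsg.Agent.Id.He

open Cfsg.Agent.CG Cfsg.Agent.TCX

/-- The letter of a generator. -/
def code : Spor.He.Gen → ℕ
  | .a => 0
  | .b => 1
  | .c => 2
  | .d => 3
  | .e => 4
  | .f => 5
  | .g => 6

/-- The table of letters. -/
def tab : List (Spor.He.Gen × Bool) := [(.a, true), (.b, true), (.c, true), (.d, true), (.e, true), (.f, true), (.g, true)]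

/-- The values of the letters in the presented group. -/
def y : ℕ → Spor.He := letter Spor.He.edges Spor.He.extra tab

theorem y_inv : ∀ a, y (invOf TCX.He.invL a) = (y a)⁻¹ :=
  letter_inv (I := Spor.coxNodes Spor.He.edges) (by decide +kernel) (fun _ h => node_sq _ _ h) (invOf_ge rfl)

theorem y_code : ∀ γ, y (code γ) = PresentedGroup.of γ := by
  intro γ; cases γ <;> rfl

theorem y_rels : ∀ r ∈ TCX.He.R, ev y r = 1 :=
  ders_sound (hs := TCX.He.hints) y_inv (letter_rels y_inv y_code) (by decide +kernel)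

theorem exists_iso : ∃ e : Spor.He ≃* CG.He.PG, ∀ γ, e (PresentedGroup.of γ) = CG.He.act.gen (code γ) :=
  iso_of_bound y_code (by intro γ; cases γ <;> decide) (TCX.He.bounds _ y y_rels) CG.He.hinv
    (CG.He.base.rels (by decide +kernel)) CG.He.tabOK.cl_eq_top
    (by
      intro a ha
      rw [List.mem_range] at ha
      interval_cases a
      · exact ⟨.a, Or.inl rfl⟩
      · exact ⟨.b, Or.inl rfl⟩
      · exact ⟨.c, Or.inl rfl⟩
      · exact ⟨.d, Or.inl rfl⟩
      · exact ⟨.e, Or.inl rfl⟩
      · exact ⟨.f, Or.inl rfl⟩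
      · exact ⟨.g, Or.inl rfl⟩)
    CG.He.card.ge

theorem iso : Nonempty (Spor.He ≃* CG.He.PG) := exists_iso.nonempty

theorem card : Nat.card Spor.He = 4030387200 := by
  obtain ⟨e⟩ := iso
  rw [Nat.card_congr e.toEquiv, CG.He.card]

end Cfsg.Agent.Id.He
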