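import Cfsg.Agent.Lib.Id.Basic
import Cfsg.Prelude.Def_Spor_J2

/-! The icosian ring in integer coordinates. -/

set_option autoImplicit false

namespace Cfsg.Agent.Id.J2

open Cfsg.Agent.CG Cfsg.Spor Quaternion

/-- Quaternions over `ℤ[τ]`. -/
@[ext] structure Z8 where
  a0 : ℤ
  a1 : ℤ
  b0 : ℤ
  b1 : ℤ
  c0 : ℤ
  c1 : ℤ
  d0 : ℤ
  d1 : ℤ
  deriving DecidableEq

namespace Z8

/-- First coordinate of a product in `ℤ[τ]`. -/
def m0 (p q r s : ℤ) : ℤ := Int.add (Int.mul p r) (Int.mul q s)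
/-- Second coordinate of a product in `ℤ[τ]`. -/
def m1 (p q r s : ℤ) : ℤ := Int.add (Int.mul p s) (Int.mul q (Int.add r s))

/-- Product. -/
def mul (x y : Z8) : Z8 :=
  ⟨Int.sub (m0 x.a0 x.a1 y.a0 y.a1) (Int.add (m0 x.b0 x.b1 y.b0 y.b1) (Int.add (m0 x.c0 x.c1 y.c0 y.c1) (m0 x.d0 x.d1 y.d0 y.d1))),
   Int.sub (m1 x.a0 x.a1 y.a0 y.a1) (Int.add (m1 x.b0 x.b1 y.b0 y.b1) (Int.add (m1 x.c0 x.c1 y.c0 y.c1) (m1 x.d0 x.d1 y.d0 y.d1))),
   Int.sub (Int.add (m0 x.a0 x.a1 y.b0 y.b1) (Int.add (m0 x.b0 x.b1 y.a0 y.a1) (m0 x.c0 x.c1 y.d0 y.d1))) (m0 x.d0 x.d1 y.c0 y.c1),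
   Int.sub (Int.add (m1 x.a0 x.a1 y.b0 y.b1) (Int.add (m1 x.b0 x.b1 y.a0 y.a1) (m1 x.c0 x.c1 y.d0 y.d1))) (m1 x.d0 x.d1 y.c0 y.c1),
   Int.sub (Int.add (m0 x.a0 x.a1 y.c0 y.c1) (Int.add (m0 x.c0 x.c1 y.a0 y.a1) (m0 x.d0 x.d1 y.b0 y.b1))) (m0 x.b0 x.b1 y.d0 y.d1),
   Int.sub (Int.add (m1 x.a0 x.a1 y.c0 y.c1) (Int.add (m1 x.c0 x.c1 y.a0 y.a1) (m1 x.d0 x.d1 y.b0 y.b1))) (m1 x.b0 x.b1 y.d0 y.d1),
   Int.sub (Int.add (m0 x.a0 x.a1 y.d0 y.d1) (Int.add (m0 x.b0 x.b1 y.c0 y.c1) (m0 x.d0 x.d1 y.a0 y.a1))) (m0 x.c0 x.c1 y.b0 y.b1),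
   Int.sub (Int.add (m1 x.a0 x.a1 y.d0 y.d1) (Int.add (m1 x.b0 x.b1 y.c0 y.c1) (m1 x.d0 x.d1 y.a0 y.a1))) (m1 x.c0 x.c1 y.b0 y.b1)⟩

/-- Sum. -/
def add (x y : Z8) : Z8 :=
  ⟨Int.add x.a0 y.a0, Int.add x.a1 y.a1, Int.add x.b0 y.b0, Int.add x.b1 y.b1, Int.add x.c0 y.c0, Int.add x.c1 y.c1,
    Int.add x.d0 y.d0, Int.add x.d1 y.d1⟩

/-- Integer multiple. -/
def sm (k : ℤ) (x : Z8) : Z8 :=
  ⟨Int.mul k x.a0, Int.mul k x.a1, Int.mul k x.b0, Int.mul k x.b1, Int.mul k x.c0, Int.mul k x.c1, Int.mul k x.d0,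
    Int.mul k x.d1⟩

/-- Conjugate. -/
def st (x : Z8) : Z8 := ⟨x.a0, x.a1, Int.neg x.b0, Int.neg x.b1, Int.neg x.c0, Int.neg x.c1, Int.neg x.d0, Int.neg x.d1⟩

/-- Quotient by four. -/
def div4 (x : Z8) : Z8 := ⟨x.a0 / 4, x.a1 / 4, x.b0 / 4, x.b1 / 4, x.c0 / 4, x.c1 / 4, x.d0 / 4, x.d1 / 4⟩

/-- The rational part of four times the norm. -/
def nA (x : Z8) : ℤ := x.a0 * x.a0 + x.a1 * x.a1 + x.b0 * x.b0 + x.b1 * x.b1 + x.c0 * x.c0 + x.c1 * x.c1 +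
  x.d0 * x.d0 + x.d1 * x.d1

/-- The `τ`-part of four times the norm. -/
def nB (x : Z8) : ℤ := (2 * x.a0 + x.a1) * x.a1 + (2 * x.b0 + x.b1) * x.b1 + (2 * x.c0 + x.c1) * x.c1 +
  (2 * x.d0 + x.d1) * x.d1

end Z8

open Z8

theorem tau_sq : tau ^ 2 = tau + 1 := by
  have := Real.sq_sqrt (show (0 : ℝ) ≤ 5 by norm_num)
  unfold tau; nlinarith

theorem sqrt5_eq : Real.sqrt 5 = 2 * tau - 1 := by unfold tau; ring

theorem tau_irr {m n : ℤ} (h : (m : ℝ) + n * tau = 0) : m = 0 ∧ n = 0 := by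
  by_cases hn : n = 0
  · subst hn; simpa using h
  · exfalso
    have h5 : Irrational (Real.sqrt 5) := by
      simpa using Nat.Prime.irrational_sqrt (p := 5) (by norm_num)
    apply h5
    refine ⟨(-2 * m - n) / n, ?_⟩
    have : (n : ℝ) ≠ 0 := by exact_mod_cast hn
    rw [sqrt5_eq]; push_cast; field_simp; linarith

/-- The quaternion with doubled coordinates `x`. -/
noncomputable def ph (x : Z8) : ℍ[ℝ] :=
  ⟨(x.a0 + x.a1 * tau) / 2, (x.b0 + x.b1 * tau) / 2, (x.c0 + x.c1 * tau) / 2, (x.d0 + x.d1 * tau) / 2⟩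

theorem tau_inj {m n m' n' : ℤ} (h : ((m : ℝ) + n * tau) / 2 = (m' + n' * tau) / 2) : m = m' ∧ n = n' := by
  have := tau_irr (m := m - m') (n := n - n') (by push_cast; linarith)
  omega

theorem ph_inj : Function.Injective ph := by
  intro x y h
  have h1 := tau_inj (congrArg QuaternionAlgebra.re h)
  have h2 := tau_inj (congrArg QuaternionAlgebra.imI h)
  have h3 := tau_inj (congrArg QuaternionAlgebra.imJ h)
  have h4 := tau_inj (congrArg QuaternionAlgebra.imK h)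
  ext <;> simp [h1, h2, h3, h4]

theorem ph_re (x : Z8) : (ph x).re = (x.a0 + x.a1 * tau) / 2 := rfl
theorem ph_imI (x : Z8) : (ph x).imI = (x.b0 + x.b1 * tau) / 2 := rfl
theorem ph_imJ (x : Z8) : (ph x).imJ = (x.c0 + x.c1 * tau) / 2 := rfl
theorem ph_imK (x : Z8) : (ph x).imK = (x.d0 + x.d1 * tau) / 2 := rfl

theorem ph_add (x y : Z8) : ph (add x y) = ph x + ph y := by
  ext <;> simp [ph_re, ph_imI, ph_imJ, ph_imK, add] <;> ring

theorem ph_sm (k : ℤ) (x : Z8) : ph (sm k x) = (k : ℝ) • ph x := by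
  ext <;> simp [ph_re, ph_imI, ph_imJ, ph_imK, sm] <;> ring

theorem ph_st (x : Z8) : ph (st x) = star (ph x) := by
  have e : ∀ a : ℤ, Int.neg a = -a := fun _ => rfl
  ext <;> simp [ph_re, ph_imI, ph_imJ, ph_imK, st, e] <;> ring

theorem ph_mul (x y : Z8) : ph (mul x y) = (2 : ℝ) • (ph x * ph y) := by
  have h := tau_sq
  have e : ∀ a b : ℤ, Int.sub a b = a - b := fun _ _ => rfl
  ext <;> simp [ph_re, ph_imI, ph_imJ, ph_imK, mul, m0, m1, e]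
  · linear_combination (-(x.a1 * y.a1) + x.b1 * y.b1 + x.c1 * y.c1 + x.d1 * y.d1 : ℝ) / 2 * h
  · linear_combination (-(x.a1 * y.b1) - x.b1 * y.a1 - x.c1 * y.d1 + x.d1 * y.c1 : ℝ) / 2 * h
  · linear_combination (-(x.a1 * y.c1) + x.b1 * y.d1 - x.c1 * y.a1 - x.d1 * y.b1 : ℝ) / 2 * h
  · linear_combination (-(x.a1 * y.d1) - x.b1 * y.c1 + x.c1 * y.b1 - x.d1 * y.a1 : ℝ) / 2 * h

theorem normSq_ph (x : Z8) : normSq (ph x) = (nA x + nB x * tau) / 4 := by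
  have h := tau_sq
  simp only [normSq_def', ph_re, ph_imI, ph_imJ, ph_imK, nA, nB]
  push_cast
  linear_combination (x.a1 ^ 2 + x.b1 ^ 2 + x.c1 ^ 2 + x.d1 ^ 2 : ℝ) / 4 * h

theorem ph_mul_of {x y z : Z8} (h : mul x y = sm 2 z) : ph x * ph y = ph z := by
  have := ph_mul x y
  rw [h, ph_sm] at this
  exact (smul_right_injective _ (two_ne_zero (α := ℝ)) (by simpa using this)).symm

/-- The parity conditions that cut out the icosians. -/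
def InI (x : Z8) : Prop := (x.c0 + x.a1 + x.b0 + x.b1) % 2 = 0 ∧ (x.c1 + x.a0 + x.a1 + x.b0) % 2 = 0 ∧
  (x.d0 + x.a0 + x.a1 + x.b1) % 2 = 0 ∧ (x.d1 + x.a0 + x.b0 + x.b1) % 2 = 0

instance (x : Z8) : Decidable (InI x) := by unfold InI; infer_instance

theorem ph_I : ph ⟨0, 0, 2, 0, 0, 0, 0, 0⟩ = qI := by
  ext <;> simp [ph_re, ph_imI, ph_imJ, ph_imK, qI]

theorem ph_G : ph ⟨1, 0, 1, -1, 0, 0, 0, 1⟩ = (⟨1 / 2, sig / 2, 0, tau / 2⟩ : ℍ[ℝ]) := by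
  ext <;> simp [ph_re, ph_imI, ph_imJ, ph_imK, sig, sqrt5_eq]
  ring

/-- The coordinates of `h`. -/
def cH : Z8 := ⟨1, -2, 1, 0, 1, 0, 1, 0⟩
/-- The coordinates of `1`. -/
def cOne : Z8 := ⟨2, 0, 0, 0, 0, 0, 0, 0⟩
/-- The coordinates of `0`. -/
def cZero : Z8 := ⟨0, 0, 0, 0, 0, 0, 0, 0⟩

theorem ph_H : ph cH = icoH := by
  ext <;> simp [ph_re, ph_imI, ph_imJ, ph_imK, cH, icoH, sqrt5_eq]
  ring

theorem ph_one : ph cOne = 1 := by ext <;> simp [ph_re, ph_imI, ph_imJ, ph_imK, cOne]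
theorem ph_zero : ph cZero = 0 := by ext <;> simp [ph_re, ph_imI, ph_imJ, ph_imK, cZero]

theorem memI : ph ⟨0, 0, 2, 0, 0, 0, 0, 0⟩ ∈ icosians := ph_I ▸ Subring.subset_closure (by simp)
theorem memG : ph ⟨1, 0, 1, -1, 0, 0, 0, 1⟩ ∈ icosians := ph_G ▸ Subring.subset_closure (Or.inr rfl)

theorem mem_mul {x y z : Z8} (hx : ph x ∈ icosians) (hy : ph y ∈ icosians) (h : mul x y = sm 2 z) :
    ph z ∈ icosians := ph_mul_of h ▸ mul_mem hx hy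

theorem mem_add {x y z : Z8} (hx : ph x ∈ icosians) (hy : ph y ∈ icosians) (h : add x y = z) :
    ph z ∈ icosians := by rw [← h, ph_add]; exact add_mem hx hy

theorem mem_sm {x : Z8} (hx : ph x ∈ icosians) (k : ℤ) : ph (sm k x) ∈ icosians := by
  rw [ph_sm, Int.cast_smul_eq_zsmul]; exact zsmul_mem hx k

theorem u0 : ph ⟨-1, 0, 1, -1, 0, 0, 0, 1⟩ ∈ icosians := mem_mul memG memG (by decide)
theorem u1 : ph ⟨-1, 1, 1, 0, 0, -1, 0, 0⟩ ∈ icosians := mem_mul memI memG (by decide)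
theorem u2 : ph ⟨0, 0, -1, 1, 0, 1, 1, 0⟩ ∈ icosians := mem_mul u0 u1 (by decide)
theorem u3 : ph ⟨1, 0, 0, 0, 0, 1, 1, 1⟩ ∈ icosians := mem_add memG u2 (by decide)
theorem u4 : ph ⟨-1, 1, 1, 0, 0, 1, 0, 0⟩ ∈ icosians := mem_mul memG memI (by decide)
theorem u5 : ph ⟨-2, 0, 0, 0, 0, 0, 0, 0⟩ ∈ icosians := mem_mul memI memI (by decide)
theorem u6 : ph ⟨-1, 1, 0, 1, 0, 0, 1, 0⟩ ∈ icosians := mem_mul memG u1 (by decide)
theorem u7 : ph ⟨1, -1, 0, -1, 0, 0, -1, 0⟩ ∈ icosians := mem_mul u5 u6 (by decide)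
theorem u8 : ph ⟨-1, 1, 0, 0, -1, 0, 0, -1⟩ ∈ icosians := mem_mul u7 u4 (by decide)
theorem u9 : ph ⟨1, 0, -1, 0, 1, 0, 1, 0⟩ ∈ icosians := mem_mul u8 u0 (by decide)
theorem u10 : ph ⟨0, 1, 0, 0, 1, 1, 1, 0⟩ ∈ icosians := mem_add u4 u9 (by decide)
theorem u11 : ph ⟨1, -1, 0, 0, 1, 0, 0, 1⟩ ∈ icosians := mem_mul u6 u4 (by decide)
theorem u12 : ph ⟨0, 0, 1, 0, 1, 1, 0, 1⟩ ∈ icosians := mem_add u4 u11 (by decide)
theorem u13 : ph ⟨0, 0, 0, 1, 1, 0, 1, 1⟩ ∈ icosians := mem_add u6 u11 (by decide)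
theorem u14 : ph ⟨1, 0, -1, 1, 0, 0, 0, 1⟩ ∈ icosians := mem_mul u1 u4 (by decide)
theorem u15 : ph ⟨0, 0, 1, -1, 0, 1, 1, 0⟩ ∈ icosians := mem_mul u14 u4 (by decide)
theorem u16 : ph ⟨-1, 0, 0, 1, 1, -1, 0, 0⟩ ∈ icosians := mem_mul u15 u0 (by decide)
theorem u17 : ph ⟨0, -1, 0, 0, -1, 1, -1, 0⟩ ∈ icosians := mem_mul u6 u16 (by decide)
theorem u18 : ph ⟨-1, 1, -1, 0, 0, -1, 0, 0⟩ ∈ icosians := mem_mul u1 memG (by decide)
theorem u19 : ph ⟨0, 0, 0, 0, 2, 0, 0, 0⟩ ∈ icosians := mem_mul u17 u18 (by decide)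
theorem u20 : ph ⟨1, -1, -1, 0, 0, 1, 0, 0⟩ ∈ icosians := mem_mul u5 u1 (by decide)
theorem u21 : ph ⟨0, 0, 0, 0, 0, 2, 0, 0⟩ ∈ icosians := mem_add u4 u20 (by decide)
theorem u22 : ph ⟨1, -1, 0, 1, 0, 0, -1, 0⟩ ∈ icosians := mem_mul u6 u1 (by decide)
theorem u23 : ph ⟨-1, 0, 1, 0, -1, 0, 1, 0⟩ ∈ icosians := mem_mul u22 u4 (by decide)
theorem u24 : ph ⟨-1, 0, -1, 1, 0, 0, 0, -1⟩ ∈ icosians := mem_mul memG u5 (by decide)
theorem u25 : ph ⟨1, 0, 0, 0, 0, 1, -1, 1⟩ ∈ icosians := mem_mul u23 u24 (by decide)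
theorem u26 : ph ⟨0, 0, 0, 0, 0, 0, 2, 0⟩ ∈ icosians := mem_mul u6 u25 (by decide)
theorem u27 : ph ⟨-1, 0, -1, 1, 0, 0, 0, 1⟩ ∈ icosians := mem_mul u1 memI (by decide)
theorem u28 : ph ⟨0, 0, 0, 0, 0, 0, 0, 2⟩ ∈ icosians := mem_add memG u27 (by decide)

theorem InI.param {x : Z8} (h : InI x) : ∃ a0 a1 b0 b1 n4 n5 n6 n7 : ℤ, x = ⟨a0, a1, b0, b1,
    2 * n4 + a1 + b0 + b1, 2 * n5 + a0 + a1 + b0, 2 * n6 + a0 + a1 + b1, 2 * n7 + a0 + b0 + b1⟩ := by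
  obtain ⟨h1, h2, h3, h4⟩ := h
  refine ⟨x.a0, x.a1, x.b0, x.b1, (x.c0 - x.a1 - x.b0 - x.b1) / 2, (x.c1 - x.a0 - x.a1 - x.b0) / 2,
    (x.d0 - x.a0 - x.a1 - x.b1) / 2, (x.d1 - x.a0 - x.b0 - x.b1) / 2, ?_⟩
  ext <;> simp only <;> omega

theorem InI.mem {x : Z8} (h : InI x) : ph x ∈ icosians := by
  obtain ⟨a0, a1, b0, b1, n4, n5, n6, n7, rfl⟩ := h.param
  refine mem_add (mem_add (mem_add (mem_add (mem_sm u3 a0) (mem_sm u10 a1) rfl) (mem_add (mem_sm u12 b0)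
    (mem_sm u13 b1) rfl) rfl) (mem_add (mem_sm u19 n4) (mem_sm u21 n5) rfl) rfl)
    (mem_add (mem_sm u26 n6) (mem_sm u28 n7) rfl) ?_
  ext <;> simp [add, sm] <;> ring

theorem InI.add {x y : Z8} (hx : InI x) (hy : InI y) : InI (add x y) := by
  unfold InI at *
  simp only [Z8.add, Int.add_def]
  omega

theorem InI.sm {x : Z8} (hx : InI x) : InI (sm (-1) x) := by
  unfold InI at *
  simp only [Z8.sm, Int.mul_def]
  omega

theorem InI.mulI {x : Z8} (hx : InI x) : ∃ y, InI y ∧ mul ⟨0, 0, 2, 0, 0, 0, 0, 0⟩ x = Z8.sm 2 y := by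
  have e : ∀ a b : ℤ, Int.sub a b = a - b := fun _ _ => rfl
  refine ⟨⟨-x.b0, -x.b1, x.a0, x.a1, -x.d0, -x.d1, x.c0, x.c1⟩, ?_, ?_⟩
  · unfold InI at *; simp only; omega
  · ext <;> simp [mul, m0, m1, Z8.sm, e]

theorem InI.mulG {x : Z8} (hx : InI x) : ∃ y, InI y ∧ mul ⟨1, 0, 1, -1, 0, 0, 0, 1⟩ x = Z8.sm 2 y := by
  have e : ∀ a b : ℤ, Int.sub a b = a - b := fun _ _ => rfl
  obtain ⟨a0, a1, b0, b1, n4, n5, n6, n7, rfl⟩ := hx.param
  refine ⟨⟨-b0 - n7, -a0 - b1 - n6 - n7, -a1 - n5, -a0 - a1 - b0 - n4 - n5, b0 + b1 + n4 - n6 + n7,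
    a0 + a1 + b0 + b1 + n5 + n6, a1 + b1 + n4 - n5 + n6, a0 - n4 + n7⟩, ?_, ?_⟩
  · unfold InI; simp only; omega
  · ext <;> simp [mul, m0, m1, Z8.sm, e] <;> ring

theorem mem_ico {q : ℍ[ℝ]} (h : q ∈ icosians) : ∃ c, InI c ∧ q = ph c := by
  have key : ∀ c, InI c → ∃ c', InI c' ∧ q * ph c = ph c' := by
    induction h using Subring.closure_induction with
    | mem x hx =>
      intro c hc
      rcases hx with rfl | rfl
      · obtain ⟨y, h1, h2⟩ := hc.mulI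
        exact ⟨y, h1, ph_I ▸ ph_mul_of h2⟩
      · obtain ⟨y, h1, h2⟩ := hc.mulG
        exact ⟨y, h1, ph_G ▸ ph_mul_of h2⟩
    | zero => exact fun c _ => ⟨cZero, by decide, by rw [zero_mul, ph_zero]⟩
    | one => exact fun c hc => ⟨c, hc, one_mul _⟩
    | add x y _ _ hx hy =>
      intro c hc
      obtain ⟨a, h1, h2⟩ := hx c hc
      obtain ⟨b, h3, h4⟩ := hy c hc
      exact ⟨_, h1.add h3, by rw [add_mul, h2, h4, ph_add]⟩
    | neg x _ hx =>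
      intro c hc
      obtain ⟨a, h1, h2⟩ := hx c hc
      exact ⟨_, h1.sm, by rw [neg_mul, h2, ph_sm]; simp⟩
    | mul x y _ _ hx hy =>
      intro c hc
      obtain ⟨b, h3, h4⟩ := hy c hc
      obtain ⟨a, h1, h2⟩ := hx b h3
      exact ⟨a, h1, by rw [mul_assoc, h4, h2]⟩
  obtain ⟨c, h1, h2⟩ := key cOne (by decide)
  exact ⟨c, h1, by rw [← h2, ph_one, mul_one]⟩

theorem inI_of_mem {c : Z8} (h : ph c ∈ icosians) : InI c := by
  obtain ⟨c', h1, h2⟩ := mem_ico h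
  exact ph_inj h2 ▸ h1

theorem star_mem_ico {q : ℍ[ℝ]} (h : q ∈ icosians) : star q ∈ icosians := by
  obtain ⟨c, h1, rfl⟩ := mem_ico h
  rw [← ph_st]
  apply InI.mem
  have e : ∀ a : ℤ, Int.neg a = -a := fun _ => rfl
  unfold InI at *
  simp only [st, e]
  omega

theorem div4_sm (a : Z8) : div4 (sm 4 a) = a := by
  ext <;> simp [div4, sm]

/-- Membership in the left ideal generated by an element `K` of norm two. -/
def InId (c K : Z8) : Prop := mul c (st K) = sm 4 (div4 (mul c (st K))) ∧ InI (div4 (mul c (st K)))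

instance (c K : Z8) : Decidable (InId c K) := by unfold InId; infer_instance

theorem inId_iff {c K : Z8} (hK : normSq (ph K) = 2) : ph c ∈ leftIdeal (ph K) ↔ InId c K := by
  have h1 : ph K * star (ph K) = 2 := by rw [self_mul_star, hK]; rfl
  have h2 : star (ph K) * ph K = 2 := by rw [star_mul_self, hK]; rfl
  constructor
  · rintro ⟨a, ha, e⟩
    obtain ⟨a', h3, rfl⟩ := mem_ico ha
    have : mul c (st K) = sm 4 a' := by
      apply ph_inj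
      rw [ph_mul, ph_st, e, mul_assoc, h1, ph_sm, mul_two, smul_add, ← add_smul]
      norm_num
    unfold InId
    rw [this, div4_sm]
    exact ⟨rfl, h3⟩
  · rintro ⟨h3, h4⟩
    refine ⟨_, h4.mem, ?_⟩
    have := congrArg (fun x => ph x * ph K) h3
    simp only [ph_mul, ph_st, ph_sm, smul_mul_assoc, mul_assoc, h2] at this
    rw [mul_two, smul_add, ← add_smul] at this
    exact smul_right_injective _ (show (2 : ℝ) + 2 ≠ 0 by norm_num) (this.trans (by norm_num))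

theorem normSq_H : normSq (ph cH) = 2 := by
  rw [normSq_ph, show nA cH = 8 by decide, show nB cH = 0 by decide]; norm_num

theorem normSq_H' : normSq (ph (st cH)) = 2 := by rw [ph_st, normSq_star, normSq_H]

theorem four_dvd {c : Z8} (h : InI c) : nA c % 4 = 0 ∧ nB c % 4 = 0 := by
  obtain ⟨c', h1, h2⟩ := mem_ico (mul_mem h.mem (star_mem_ico h.mem))
  rw [self_mul_star, normSq_ph] at h2
  have e0 := congrArg QuaternionAlgebra.re h2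
  have e1 := congrArg QuaternionAlgebra.imI h2
  have e2 := congrArg QuaternionAlgebra.imJ h2
  have e3 := congrArg QuaternionAlgebra.imK h2
  simp only [re_coe, imI_coe, imJ_coe, imK_coe, ph_re, ph_imI, ph_imJ, ph_imK] at e0 e1 e2 e3
  have f0 := tau_irr (m := nA c - 2 * c'.a0) (n := nB c - 2 * c'.a1) (by push_cast; linarith)
  have f1 := tau_irr (m := c'.b0) (n := c'.b1) (by linarith)
  have f2 := tau_irr (m := c'.c0) (n := c'.c1) (by linarith)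
  have f3 := tau_irr (m := c'.d0) (n := c'.d1) (by linarith)
  unfold InI at h1
  omega

theorem nA_nonneg (c : Z8) : 0 ≤ nA c := by
  unfold nA
  nlinarith [mul_self_nonneg c.a0, mul_self_nonneg c.a1, mul_self_nonneg c.b0, mul_self_nonneg c.b1,
    mul_self_nonneg c.c0, mul_self_nonneg c.c1, mul_self_nonneg c.d0, mul_self_nonneg c.d1]

theorem eq_zero_of_nA {c : Z8} (h : nA c ≤ 0) : c = cZero := by
  unfold nA at h
  have := mul_self_nonneg c.a0; have := mul_self_nonneg c.a1; have := mul_self_nonneg c.b0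
  have := mul_self_nonneg c.b1; have := mul_self_nonneg c.c0; have := mul_self_nonneg c.c1
  have := mul_self_nonneg c.d0; have := mul_self_nonneg c.d1
  ext <;> exact mul_self_eq_zero.1 (by linarith)

theorem nAB_eq (c : Z8) : nA c + nB c =
    nA ⟨c.a0 + c.a1, c.a1, c.b0 + c.b1, c.b1, c.c0 + c.c1, c.c1, c.d0 + c.d1, c.d1⟩ := by
  simp only [nA, nB]; ring

theorem nAB_nonneg (c : Z8) : 0 ≤ nA c + nB c := nAB_eq c ▸ nA_nonneg _

theorem eq_zero_of_nAB {c : Z8} (h : nA c + nB c ≤ 0) : c = cZero := by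
  rw [nAB_eq] at h
  have := eq_zero_of_nA h
  simp only [cZero, Z8.mk.injEq] at this
  ext <;> simp only [cZero] <;> omega

end Cfsg.Agent.Id.J2
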