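import Cfsg.Agent.Lib.Id.Ico

/-! The icosian Leech lattice and its reflections. -/

set_option autoImplicit false

namespace Cfsg.Agent.Id.J2

open Cfsg.Agent.CG Cfsg.Spor Quaternion Z8

/-- Vectors of `ℍ³`. -/
abbrev V3 := Fin 3 → ℍ[ℝ]

theorem qip_add_left (x y r : V3) : qip (x + y) r = qip x r + qip y r := by
  simp [qip, add_mul, Finset.sum_add_distrib]

theorem qip_sub_left (x y r : V3) : qip (x - y) r = qip x r - qip y r := by
  simp [qip, sub_mul, Finset.sum_sub_distrib]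

theorem qip_smul_left (a : ℍ[ℝ]) (x r : V3) : qip (a • x) r = a * qip x r := by
  simp [qip, Finset.mul_sum, mul_assoc]

theorem star_qip (x r : V3) : star (qip x r) = qip r x := by
  simp [qip, star_sum]

theorem qip_sub_right (x r s : V3) : qip x (r - s) = qip x r - qip x s := by
  rw [← star_qip, qip_sub_left, star_sub, star_qip, star_qip]

theorem qip_smul_right (a : ℍ[ℝ]) (x r : V3) : qip x (a • r) = qip x r * star a := by
  rw [← star_qip, qip_smul_left, star_mul, star_qip]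

theorem qrefl_eq (r x : V3) : qrefl r x = x - ((1 / 2 : ℝ) • qip x r) • r := rfl

theorem half_four (q : ℍ[ℝ]) : ((1 / 2 : ℝ) • q) * 4 = q + q := by
  rw [show (4 : ℍ[ℝ]) = 2 * 2 by norm_num, ← mul_assoc, mul_two ((1 / 2 : ℝ) • q), ← add_smul]
  norm_num [mul_two]

theorem qip_qrefl {r : V3} (hr : qip r r = 4) (x : V3) : qip (qrefl r x) r = -qip x r := by
  rw [qrefl_eq, qip_sub_left, qip_smul_left, hr, half_four]; abel

theorem qrefl_qrefl {r : V3} (hr : qip r r = 4) (x : V3) : qrefl r (qrefl r x) = x := by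
  rw [qrefl_eq r (qrefl r x), qip_qrefl hr, qrefl_eq]
  simp

theorem qip_qrefl_left (r x y : V3) : qip (qrefl r x) y = qip x (qrefl r y) := by
  rw [qrefl_eq, qrefl_eq, qip_sub_left, qip_sub_right, qip_smul_left, qip_smul_right, Quaternion.star_smul,
    star_qip]
  simp

theorem qip_qrefl_qrefl {r : V3} (hr : qip r r = 4) (x y : V3) : qip (qrefl r x) (qrefl r y) = qip x y := by
  rw [qip_qrefl_left, qrefl_qrefl hr]

theorem qrefl_sub_smul (r x y : V3) (a : ℍ[ℝ]) : qrefl r (x - a • y) = qrefl r x - a • qrefl r y := by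
  simp only [qrefl_eq, qip_sub_left, qip_smul_left, smul_sub, sub_smul, smul_smul, mul_smul_comm]
  abel

theorem qrefl_conj {r : V3} (hr : qip r r = 4) (s x : V3) :
    qrefl r (qrefl s (qrefl r x)) = qrefl (qrefl r s) x := by
  rw [qrefl_eq s, qrefl_sub_smul, qrefl_qrefl hr, qip_qrefl_left, ← qrefl_eq]

theorem qrefl_congr {r s : V3} (h : ∀ a b, star (r a) * r b = star (s a) * s b) (x : V3) :
    qrefl r x = qrefl s x := by
  funext t
  simp only [qrefl, qip, smul_mul_assoc, Finset.sum_mul, mul_assoc, h]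

theorem qrefl_unit {u : ℍ[ℝ]} (hu : normSq u = 1) (r x : V3) : qrefl (u • r) x = qrefl r x := by
  refine qrefl_congr (fun a b => ?_) x
  simp only [Pi.smul_apply, smul_eq_mul, star_mul]
  rw [mul_assoc, ← mul_assoc (star u), star_mul_self, hu]
  simp

theorem qip_unit {u : ℍ[ℝ]} (hu : normSq u = 1) {r : V3} (hr : qip r r = 4) : qip (u • r) (u • r) = 4 := by
  rw [qip_smul_left, qip_smul_right, hr, show (4 : ℍ[ℝ]) * star u = star u * 4 from (Nat.cast_comm 4 _),
    ← mul_assoc, self_mul_star, hu]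
  simp

theorem ideal_mul {q x a : ℍ[ℝ]} (ha : a ∈ icosians) (hx : x ∈ leftIdeal q) : a * x ∈ leftIdeal q := by
  obtain ⟨b, hb, rfl⟩ := hx
  exact ⟨a * b, mul_mem ha hb, (mul_assoc _ _ _).symm⟩

theorem ideal_add {q x y : ℍ[ℝ]} (hx : x ∈ leftIdeal q) (hy : y ∈ leftIdeal q) : x + y ∈ leftIdeal q := by
  obtain ⟨a, ha, rfl⟩ := hx
  obtain ⟨b, hb, rfl⟩ := hy
  exact ⟨a + b, add_mem ha hb, (add_mul _ _ _).symm⟩

theorem ideal_sub {q x y : ℍ[ℝ]} (hx : x ∈ leftIdeal q) (hy : y ∈ leftIdeal q) : x - y ∈ leftIdeal q := by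
  obtain ⟨a, ha, rfl⟩ := hx
  obtain ⟨b, hb, rfl⟩ := hy
  exact ⟨a - b, sub_mem ha hb, (sub_mul _ _ _).symm⟩

theorem ideal_neg {q x : ℍ[ℝ]} (hx : x ∈ leftIdeal q) : -x ∈ leftIdeal q := by
  obtain ⟨a, ha, rfl⟩ := hx
  exact ⟨-a, neg_mem ha, (neg_mul _ _).symm⟩

theorem leech_smul {a : ℍ[ℝ]} (ha : a ∈ icosians) {v : V3} (hv : v ∈ icoLeech) : a • v ∈ icoLeech := by
  obtain ⟨h0, h1, h2, h3⟩ := hv
  refine ⟨fun t => mul_mem ha (h0 t), ?_, ?_, ?_⟩ <;> simp only [Pi.smul_apply, smul_eq_mul]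
  · rw [← mul_sub]; exact ideal_mul ha h1
  · rw [← mul_sub]; exact ideal_mul ha h2
  · rw [← mul_add, ← mul_add]; exact ideal_mul ha h3

theorem leech_sub {v w : V3} (hv : v ∈ icoLeech) (hw : w ∈ icoLeech) : v - w ∈ icoLeech := by
  obtain ⟨h0, h1, h2, h3⟩ := hv
  obtain ⟨g0, g1, g2, g3⟩ := hw
  refine ⟨fun t => sub_mem (h0 t) (g0 t), ?_, ?_, ?_⟩ <;> simp only [Pi.sub_apply]
  · convert ideal_sub h1 g1 using 1; abel
  · convert ideal_sub h2 g2 using 1; abel
  · convert ideal_sub h3 g3 using 1; abel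

/-- Triples of coordinates. -/
structure T3 where
  x : Z8
  y : Z8
  z : Z8
  deriving DecidableEq

/-- The vector with the given coordinates. -/
noncomputable def phv (c : T3) : V3 := ![ph c.x, ph c.y, ph c.z]

/-- Twice the coordinates of the Hermitian product. -/
def ip3 (c d : T3) : Z8 := add (mul c.x (st d.x)) (add (mul c.y (st d.y)) (mul c.z (st d.z)))

theorem ph_ip3 (c d : T3) : ph (ip3 c d) = (2 : ℝ) • qip (phv c) (phv d) := by
  simp [ip3, ph_add, ph_mul, ph_st, qip, Fin.sum_univ_three, phv, add_assoc]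

/-- The Hermitian product is twice an icosian. -/
def Ev (v r : V3) : Prop := (1 / 2 : ℝ) • qip v r ∈ icosians

theorem ev_of {c d : T3} (h : ip3 c d = sm 4 (div4 (ip3 c d)) ∧ InI (div4 (ip3 c d))) : Ev (phv c) (phv d) := by
  have := ph_ip3 c d
  rw [h.1, ph_sm] at this
  unfold Ev
  have e : qip (phv c) (phv d) = (2 : ℝ) • ph (div4 (ip3 c d)) :=
    smul_right_injective _ (two_ne_zero (α := ℝ)) (by
      simp only; rw [← this, smul_smul]; norm_num)
  rw [e, smul_smul]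
  simpa using h.2.mem

theorem Ev.symm {v r : V3} (h : Ev v r) : Ev r v := by
  have := star_mem_ico h
  rwa [Quaternion.star_smul, star_qip] at this

/-- Generators of the lattice as a left module. -/
def e1 : T3 := ⟨st cH, st cH, st cH⟩
/-- Generators of the lattice as a left module. -/
def e2 : T3 := ⟨sm 2 cH, cH, cH⟩
/-- Generators of the lattice as a left module. -/
def e3 : T3 := ⟨cH, cH, cZero⟩
/-- Generators of the lattice as a left module. -/
def e4 : T3 := ⟨sm 2 cOne, sm 2 cOne, sm 2 cOne⟩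

theorem ev_of_gens {v r : V3} (hv : v ∈ icoLeech) (h1 : Ev (phv e1) r) (h2 : Ev (phv e2) r)
    (h3 : Ev (phv e3) r) (h4 : Ev (phv e4) r) : Ev v r := by
  obtain ⟨h0, ⟨a, ha, ea⟩, ⟨b, hb, eb⟩, ⟨c, hc, ec⟩⟩ := hv
  have e : v = c • phv e1 + a • phv e2 + b • phv e3 - v 0 • phv e4 := by
    have f1 : v 1 = v 0 - a * icoH := by rw [← ea]; abel
    have f2 : v 2 = v 0 - a * icoH - b * icoH := by rw [← ea, ← eb]; abel
    have f3 : c * star icoH = v 0 + (v 0 - a * icoH) + (v 0 - a * icoH - b * icoH) := by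
      rw [← f2, ← f1, ec]
    funext t
    fin_cases t <;>
      simp [phv, e1, e2, e3, e4, ph_st, ph_sm, ph_H, ph_one, ph_zero, f1, f2, f3, two_smul, mul_add]
    all_goals abel
  unfold Ev at *
  rw [e, qip_sub_left, qip_add_left, qip_add_left]
  simp only [qip_smul_left, smul_add, smul_sub, ← mul_smul_comm]
  exact sub_mem (add_mem (add_mem (mul_mem hc h1) (mul_mem ha h2)) (mul_mem hb h3)) (mul_mem (h0 0) h4)

theorem ev_leech {v r : V3} (hv : v ∈ icoLeech) (hr : r ∈ icoLeech) : Ev v r := by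
  apply ev_of_gens hv <;> apply Ev.symm <;> apply ev_of_gens hr <;> exact ev_of (by decide)

theorem qrefl_mem {v r : V3} (hv : v ∈ icoLeech) (hr : r ∈ icoLeech) : qrefl r v ∈ icoLeech :=
  leech_sub hv (leech_smul (ev_leech hv hr) hr)

/-- The minimal vectors. -/
def IsMin (r : V3) : Prop := r ∈ icoLeech ∧ qip r r = 4

open Classical in
/-- The reflection in `r` as a permutation of the lattice. -/
noncomputable def RR (r : V3) : Equiv.Perm icoLeech :=
  if h : IsMin r then Function.Involutive.toPerm (fun x => ⟨qrefl r x, qrefl_mem x.2 h.1⟩)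
    (fun x => Subtype.ext (qrefl_qrefl h.2 x)) else 1

theorem RR_apply {r : V3} (h : IsMin r) (x : icoLeech) : (RR r x : V3) = qrefl r x := by
  rw [RR, dif_pos h]; rfl

theorem RR_mem {r : V3} (h : IsMin r) : RR r ∈ twoJ2 :=
  Subgroup.subset_closure ⟨⟨r, h.1⟩, h.2, RR_apply h⟩

theorem RR_congr {r s : V3} (hr : IsMin r) (hs : IsMin s) (h : ∀ x, qrefl r x = qrefl s x) : RR r = RR s :=
  Equiv.ext fun x => Subtype.ext (by rw [RR_apply hr, RR_apply hs, h])

theorem IsMin.qrefl {r s : V3} (hr : IsMin r) (hs : IsMin s) : IsMin (qrefl r s) :=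
  ⟨qrefl_mem hs.1 hr.1, by rw [qip_qrefl_qrefl hr.2, hs.2]⟩

theorem RR_conj {r s : V3} (hr : IsMin r) (hs : IsMin s) : RR r * RR s * (RR r)⁻¹ = RR (qrefl r s) := by
  rw [mul_inv_eq_iff_eq_mul]
  refine Equiv.ext fun x => Subtype.ext ?_
  simp only [Equiv.Perm.mul_apply, RR_apply hr, RR_apply hs, RR_apply (hr.qrefl hs)]
  rw [← qrefl_conj hr.2, qrefl_qrefl hr.2]

theorem IsMin.unit {r : V3} (hr : IsMin r) {u : ℍ[ℝ]} (hu : u ∈ icosians) (h1 : normSq u = 1) :
    IsMin (u • r) := ⟨leech_smul hu hr.1, qip_unit h1 hr.2⟩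

theorem RR_unit {r : V3} (hr : IsMin r) {u : ℍ[ℝ]} (hu : u ∈ icosians) (h1 : normSq u = 1) :
    RR (u • r) = RR r := RR_congr (hr.unit hu h1) hr (qrefl_unit h1 r)

theorem twoJ2_le {Y : Subgroup (Equiv.Perm icoLeech)} (h : ∀ r, IsMin r → RR r ∈ Y) : twoJ2 ≤ Y := by
  rw [twoJ2, Subgroup.closure_le]
  rintro f ⟨r, h1, h2⟩
  have : f = RR r := Equiv.ext fun x => Subtype.ext (by rw [h2, RR_apply ⟨r.2, h1⟩])
  exact this ▸ h r ⟨r.2, h1⟩

theorem exists_T3 {v : V3} (hv : v ∈ icoLeech) : ∃ c : T3, InI c.x ∧ InI c.y ∧ InI c.z ∧ v = phv c := by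
  obtain ⟨x, h1, e1⟩ := mem_ico (hv.1 0)
  obtain ⟨y, h2, e2⟩ := mem_ico (hv.1 1)
  obtain ⟨z, h3, e3⟩ := mem_ico (hv.1 2)
  refine ⟨⟨x, y, z⟩, h1, h2, h3, funext fun t => ?_⟩
  fin_cases t
  exacts [e1, e2, e3]

theorem norm_T3 (c : T3) : qip (phv c) (phv c) = 4 ↔
    nA c.x + nA c.y + nA c.z = 16 ∧ nB c.x + nB c.y + nB c.z = 0 := by
  have : qip (phv c) (phv c) =
      ((((nA c.x + nA c.y + nA c.z : ℤ) + (nB c.x + nB c.y + nB c.z : ℤ) * tau) / 4 : ℝ) : ℍ[ℝ]) := by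
    simp only [qip, Fin.sum_univ_three, phv, Matrix.cons_val, self_mul_star, normSq_ph, ← coe_add]
    congr 1; push_cast; ring
  rw [this, show (4 : ℍ[ℝ]) = ((4 : ℝ) : ℍ[ℝ]) from rfl, coe_inj]
  constructor
  · intro h
    have := tau_irr (m := nA c.x + nA c.y + nA c.z - 16) (n := nB c.x + nB c.y + nB c.z)
      (by push_cast at h ⊢; linarith)
    omega
  · rintro ⟨h1, h2⟩
    rw [h1, h2]; norm_num

end Cfsg.Agent.Id.J2
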