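import Cfsg.Agent.Lib.Id.Lin

/-! Coded actions of matrix groups over small finite fields of any characteristic. -/

set_option autoImplicit false

namespace Cfsg.Agent.Id

open Cfsg.Agent.CG Matrix Finset

/-- The `i`-th digit in base `B`. -/
def dig (B x i : ℕ) : ℕ := x / B ^ i % B

/-- The number with the given `D` digits. -/
def pk (B D : ℕ) (f : ℕ → ℕ) : ℕ := ∑ i ∈ range D, f i * B ^ i

theorem dig_zero (B x : ℕ) : dig B x 0 = x % B := by simp [dig]

theorem dig_succ (B x i : ℕ) : dig B x (i + 1) = dig B (x / B) i := by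
  simp [dig, pow_succ', Nat.div_div_eq_div_mul]

theorem pk_succ (B D : ℕ) (f : ℕ → ℕ) : pk B (D + 1) f = f 0 + B * pk B D (fun i => f (i + 1)) := by
  unfold pk
  rw [sum_range_succ', mul_sum, add_comm]
  simp only [pow_zero, mul_one, pow_succ]
  congr 1
  exact sum_congr rfl fun i _ => by ring

theorem pk_congr {B D : ℕ} {f g : ℕ → ℕ} (h : ∀ i < D, f i = g i) : pk B D f = pk B D g :=
  sum_congr rfl fun i hi => by rw [h i (mem_range.1 hi)]

theorem dig_pk {B D : ℕ} {f : ℕ → ℕ} (h : ∀ i < D, f i < B) {i : ℕ} (hi : i < D) :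
    dig B (pk B D f) i = f i := by
  induction D generalizing f i with
  | zero => omega
  | succ D ih =>
    have h0 := h 0 (by omega)
    rw [pk_succ]
    cases i with
    | zero => rw [dig_zero, Nat.add_mul_mod_self_left, Nat.mod_eq_of_lt h0]
    | succ i =>
      rw [dig_succ, Nat.add_mul_div_left _ _ (by omega), Nat.div_eq_of_lt h0, zero_add]
      exact ih (fun j hj => h (j + 1) (by omega)) (by omega)

theorem dig_pow {B : ℕ} (hB : 1 < B) (i j : ℕ) : dig B (B ^ i) j = if j = i then 1 else 0 := by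
  unfold dig
  rcases lt_trichotomy j i with h | rfl | h
  · obtain ⟨c, rfl⟩ := Nat.exists_eq_add_of_lt h
    rw [if_neg h.ne, add_assoc, pow_add, Nat.mul_div_cancel_left _ (by positivity), pow_succ,
      Nat.mul_mod_left]
  · rw [if_pos rfl, Nat.div_self (by positivity), Nat.mod_eq_of_lt hB]
  · rw [if_neg h.ne', Nat.div_eq_of_lt (Nat.pow_lt_pow_right hB h), Nat.zero_mod]

/-- The combination of the columns with the digits of `x` as coefficients. -/
noncomputable def linp (B : ℕ) (cols : List ℕ) (x : ℕ) : ℕ :=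
  List.rec (motive := fun _ => ℕ → ℕ) (fun _ => 0)
    (fun c _ ih x => force x fun x => Nat.add (Nat.mul (Nat.mod x B) c) (ih (Nat.div x B))) cols x

theorem linp_eq (B : ℕ) (l : List ℕ) (x : ℕ) :
    linp B l x = ∑ i ∈ range l.length, dig B x i * l.getD i 0 := by
  induction l generalizing x with
  | nil => rfl
  | cons c l ih =>
    have : linp B (c :: l) x = force x fun x => x % B * c + linp B l (x / B) := rfl
    rw [this, force_eq, ih, List.length_cons, sum_range_succ', add_comm, dig_zero]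
    simp [dig_succ]

/-- Reduction of `D` digits modulo `p`. -/
noncomputable def red (B p D y : ℕ) : ℕ :=
  Nat.rec (motive := fun _ => ℕ → ℕ) (fun _ => 0)
    (fun _ ih y => force y fun y => Nat.add (Nat.mod (Nat.mod y B) p) (Nat.mul B (ih (Nat.div y B)))) D y

theorem red_eq (B p D y : ℕ) : red B p D y = pk B D fun i => dig B y i % p := by
  induction D generalizing y with
  | zero => rfl
  | succ D ih =>
    have : red B p (D + 1) y = force y fun y => y % B % p + B * red B p D (y / B) := rfl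
    rw [this, force_eq, ih, pk_succ, dig_zero]
    simp [dig_succ]

theorem dig_red {B p D : ℕ} (hp : 0 < p) (hB : p ≤ B) (y : ℕ) {i : ℕ} (hi : i < D) :
    dig B (red B p D y) i = dig B y i % p := by
  rw [red_eq, dig_pk (fun j _ => (Nat.mod_lt _ hp).trans_le hB) hi]

theorem red_red {B p D : ℕ} (hp : 0 < p) (hB : p ≤ B) (y : ℕ) : red B p D (red B p D y) = red B p D y := by
  rw [red_eq B p D (red B p D y), red_eq B p D y]
  exact pk_congr fun i hi => by rw [← red_eq, dig_red hp hB y hi, Nat.mod_mod]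

theorem dig_lt_of_red {B p D : ℕ} (hp : 0 < p) (hB : p ≤ B) {x : ℕ} (hx : red B p D x = x) {i : ℕ}
    (hi : i < D) : dig B x i < p := by
  rw [← hx, dig_red hp hB x hi]; exact Nat.mod_lt _ hp

theorem eq_pk_of_red {B p D : ℕ} (hp : 0 < p) (hB : p ≤ B) {x : ℕ} (hx : red B p D x = x) :
    x = pk B D (dig B x) := by
  conv_lhs => rw [← hx, red_eq]
  exact pk_congr fun i hi => Nat.mod_eq_of_lt (dig_lt_of_red hp hB hx hi)

theorem dig_linp {B p D : ℕ} (hp : 0 < p) (hB : D * (p - 1) ^ 2 < B) (hpB : p ≤ B) {l : List ℕ}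
    (hl : l.length = D) (hc : ∀ c ∈ l, red B p D c = c) {x : ℕ} (hx : red B p D x = x) {r : ℕ} (hr : r < D) :
    dig B (linp B l x) r = ∑ i ∈ range D, dig B x i * dig B (l.getD i 0) r := by
  have hc' : ∀ i < D, red B p D (l.getD i 0) = l.getD i 0 := fun i hi => by
    rw [List.getD_eq_getElem _ _ (by omega)]; exact hc _ (List.getElem_mem _)
  have : linp B l x = pk B D fun r => ∑ i ∈ range D, dig B x i * dig B (l.getD i 0) r := by
    rw [linp_eq, hl]
    unfold pk
    simp only [sum_mul]
    rw [sum_comm]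
    refine sum_congr rfl fun i hi => ?_
    conv_lhs => rw [eq_pk_of_red hp hpB (hc' i (mem_range.1 hi))]
    unfold pk
    rw [mul_sum]
    exact sum_congr rfl fun r _ => by ring
  rw [this, dig_pk _ hr]
  intro r hr
  refine lt_of_le_of_lt ?_ hB
  calc _ ≤ ∑ _i ∈ range D, (p - 1) ^ 2 := sum_le_sum fun i hi => by
        rw [sq]
        exact Nat.mul_le_mul (Nat.le_sub_one_of_lt (dig_lt_of_red hp hpB hx (mem_range.1 hi)))
          (Nat.le_sub_one_of_lt (dig_lt_of_red hp hpB (hc' i (mem_range.1 hi)) hr))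
    _ = _ := by simp

section
variable {ι F : Type*} [Fintype ι] [DecidableEq ι] [Field F]

/-- The vector with coordinates given by digits in the basis `θ ^ s • e j`. -/
def vecp (θ : F) (k : ℕ) (idx : ι → ℕ) (f : ℕ → ℕ) : ι → F :=
  fun r => ∑ s ∈ range k, (f (k * idx r + s) : F) * θ ^ s

/-- The vector with code `x`. -/
def decp (θ : F) (B k : ℕ) (idx : ι → ℕ) (x : ℕ) : ι → F := vecp θ k idx (dig B x)

theorem idx_lt {k d i s : ℕ} (hi : i < d) (hs : s < k) : k * i + s < k * d := by
  have := Nat.mul_le_mul_left k (Nat.succ_le_of_lt hi)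
  rw [Nat.mul_succ] at this
  omega

omit [Fintype ι] in
theorem decp_pow (θ : F) {B k : ℕ} (hB : 1 < B) {idx : ι → ℕ} (hi : Function.Injective idx) (j : ι) {s : ℕ}
    (hs : s < k) : decp θ B k idx (B ^ (k * idx j + s)) = Pi.single j (θ ^ s) := by
  funext r
  simp only [decp, vecp, dig_pow hB]
  by_cases h : r = j
  · subst h
    simp [hs]
  · rw [Pi.single_eq_of_ne h]
    refine sum_eq_zero fun t ht => ?_
    rw [if_neg, Nat.cast_zero, zero_mul]
    refine fun e => h (hi ?_)
    have ht := mem_range.1 ht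
    have := congrArg (· / k) e
    simp only [Nat.mul_add_div (by omega : 0 < k), Nat.div_eq_of_lt hs, Nat.div_eq_of_lt ht] at this
    omega

omit [Fintype ι] [DecidableEq ι] in
theorem decp_app {θ : F} {B p k d : ℕ} [CharP F p] (hp : 0 < p) (hB : k * d * (p - 1) ^ 2 < B) (hpB : p ≤ B)
    {idx : ι → ℕ} (hlt : ∀ j, idx j < d) {l : List ℕ} (hl : l.length = k * d)
    (hc : ∀ c ∈ l, red B p (k * d) c = c) {x : ℕ} (hx : red B p (k * d) x = x) :
    decp θ B k idx (red B p (k * d) (linp B l x)) =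
      ∑ i ∈ range (k * d), dig B x i • decp θ B k idx (l.getD i 0) := by
  funext r
  simp only [decp, vecp, Finset.sum_apply, Pi.smul_apply, smul_sum]
  rw [sum_comm]
  refine sum_congr rfl fun s hs => ?_
  have h := idx_lt (hlt r) (mem_range.1 hs)
  rw [dig_red hp hpB _ h, CharP.cast_eq_mod F p _ |>.symm, dig_linp hp hB hpB hl hc hx h]
  push_cast
  rw [sum_mul]
  exact sum_congr rfl fun i _ => by simp [mul_assoc]

omit [Fintype ι] [DecidableEq ι] in
theorem decp_eq_sum (θ : F) {B k d : ℕ} (hB : 1 < B) {idx : ι → ℕ} (hlt : ∀ j, idx j < d) (x : ℕ) :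
    decp θ B k idx x = ∑ i ∈ range (k * d), dig B x i • decp θ B k idx (B ^ i) := by
  funext r
  simp only [decp, vecp, Finset.sum_apply, Pi.smul_apply, smul_sum, dig_pow hB]
  rw [sum_comm]
  refine sum_congr rfl fun s hs => ?_
  have h := idx_lt (hlt r) (mem_range.1 hs)
  rw [sum_eq_single (k * idx r + s)]
  · simp
  · intro b _ hb; simp [hb.symm]
  · intro hb; exact absurd (mem_range.2 h) hb

/-- The action of a table of columns. -/
noncomputable def app1 (B p D : ℕ) (cols : List ℕ) (x : ℕ) : ℕ := red B p D (linp B cols x)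

/-- The check of one table of columns. -/
noncomputable def colsOKp (B p k d : ℕ) (Θ cols : List ℕ) : Bool :=
  band (Nat.beq cols.length (Nat.mul k d)) (band (allL (fun c => Nat.beq (red B p (Nat.mul k d) c) c) cols)
    (allLt (fun i => bor (Nat.beq (Nat.mod i k) 0)
      (Nat.beq (nth cols 0 i) (app1 B p (Nat.mul k d) Θ (nth cols 0 (Nat.pred i))))) (Nat.mul k d)))

/-- The action of letters through tables of columns. -/
noncomputable def apppT (B p D : ℕ) (tabs : List (List ℕ)) (dflt : List ℕ) (a x : ℕ) : ℕ :=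
  app1 B p D (nth tabs dflt a) x

/-- The matrix with the given columns. -/
def matp (θ : F) (B k : ℕ) (idx : ι → ℕ) (cols : List ℕ) : Matrix ι ι F :=
  Matrix.of fun r j => decp θ B k idx (cols.getD (k * idx j) 0) r

theorem matp_mulVec {θ : F} {B p k d : ℕ} [CharP F p] (hp : 1 < p) (hB : k * d * (p - 1) ^ 2 < B) (hpB : p ≤ B)
    {idx : ι → ℕ} (hk : 0 < k) (hi : Function.Injective idx) (hlt : ∀ j, idx j < d)
    (hs : ∀ i < d, ∃ j, idx j = i) {Θ : List ℕ}
    (hΘ : ∀ x, red B p (k * d) x = x → θ • decp θ B k idx x = decp θ B k idx (app1 B p (k * d) Θ x))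
    {cols : List ℕ} (h : colsOKp B p k d Θ cols = true) (x : ℕ) (hx : red B p (k * d) x = x) :
    matp θ B k idx cols *ᵥ decp θ B k idx x = decp θ B k idx (app1 B p (k * d) cols x) := by
  unfold colsOKp at h
  rw [band_eq, band_eq, beq_iff, allL_iff, allLt_iff] at h
  obtain ⟨h1, h2, h3⟩ := h
  have h1 : cols.length = k * d := h1
  have h2 : ∀ c ∈ cols, red B p (k * d) c = c := fun c hc => (beq_iff _ _).1 (h2 c hc)
  have key : ∀ j s, s < k → θ ^ s • decp θ B k idx (cols.getD (k * idx j) 0) =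
      decp θ B k idx (cols.getD (k * idx j + s) 0) := by
    intro j s
    induction s with
    | zero => simp
    | succ s ih =>
      intro hs
      have hlt' := idx_lt (hlt j) hs
      have h4 := h3 _ hlt'
      rw [bor_eq, beq_iff, beq_iff, nth_eq, nth_eq] at h4
      rcases h4 with h4 | h4
      · have : (k * idx j + (s + 1)) % k = 0 := h4
        rw [Nat.mul_add_mod, Nat.mod_eq_of_lt hs] at this
        omega
      · rw [h4, pow_succ', mul_smul, ih (by omega), hΘ]
        · rfl
        · rw [List.getD_eq_getElem _ _ (by omega)]; exact h2 _ (List.getElem_mem _)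
  unfold app1
  rw [decp_app (by omega) hB hpB hlt h1 h2 hx, decp_eq_sum θ (by omega) hlt x, mulVec_sum]
  refine sum_congr rfl fun i hi' => ?_
  rw [mulVec_smul]
  congr 1
  obtain ⟨j, hj⟩ := hs (i / k) (Nat.div_lt_of_lt_mul (mem_range.1 hi'))
  have e : i = k * idx j + i % k := by rw [hj, Nat.div_add_mod]
  rw [e, ← key j _ (Nat.mod_lt _ hk), decp_pow θ (by omega) hi j (Nat.mod_lt _ hk)]
  funext r
  simp [matp, mul_comm]

/-- The codes of the standard basis vectors. -/
noncomputable def basp (B k d : ℕ) : List ℕ :=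
  Nat.rec (motive := fun _ => List ℕ) [] (fun i ih => Nat.pow B (Nat.mul k i) :: ih) d

theorem mem_basp {B k d i : ℕ} (h : i < d) : B ^ (k * i) ∈ basp B k d := by
  induction d with
  | zero => omega
  | succ d ih =>
    have : basp B k (d + 1) = B ^ (k * d) :: basp B k d := rfl
    rw [this, List.mem_cons]
    by_cases h' : i = d
    · left; rw [h']
    · exact Or.inr (ih (by omega))

/-- The coded matrices over a field of characteristic `p`. -/
noncomputable def codep (θ : F) (B p k d : ℕ) [CharP F p] (idx : ι → ℕ) (hp : 1 < p)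
    (hB : k * d * (p - 1) ^ 2 < B) (hpB : p ≤ B) (hk : 0 < k) (hi : Function.Injective idx)
    (hlt : ∀ j, idx j < d) (hs : ∀ i < d, ∃ j, idx j = i)
    (hθ : ∀ f g : ℕ → ℕ, (∀ s < k, f s < p) → (∀ s < k, g s < p) →
      ∑ s ∈ range k, (f s : F) * θ ^ s = ∑ s ∈ range k, (g s : F) * θ ^ s → ∀ s < k, f s = g s)
    (Θ : List ℕ)
    (hΘ : ∀ x, red B p (k * d) x = x → θ • decp θ B k idx x = decp θ B k idx (app1 B p (k * d) Θ x))
    (tabs : List (List ℕ)) (dflt I : List ℕ) (K : ℕ) (hK : Nat.ble tabs.length K = true)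
    (hc : allL (colsOKp B p k d Θ) (dflt :: tabs) = true)
    (hb : allL (fun c => Nat.beq (red B p (k * d) c) c) (basp B k d) = true)
    (hI : invOK (apppT B p (k * d) tabs dflt) (basp B k d) I K = true) : MatCode ι F where
  mat a := matp θ B k idx (nth tabs dflt a)
  app := apppT B p (k * d) tabs dflt
  ok x := red B p (k * d) x = x
  dec := decp θ B k idx
  ok_app _ _ _ := red_red (by omega) hpB _
  mul_dec a x hx := matp_mulVec hp hB hpB hk hi hlt hs hΘ ((allL_iff _ _).1 hc _ (nth_mem_cons _ _ a)) x hx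
  inj x y hx hy h := by
    rw [eq_pk_of_red (by omega) hpB hx, eq_pk_of_red (by omega) hpB hy]
    refine pk_congr fun i hi' => ?_
    obtain ⟨j, hj⟩ := hs (i / k) (Nat.div_lt_of_lt_mul hi')
    have e : i = k * idx j + i % k := by rw [hj, Nat.div_add_mod]
    rw [e]
    exact hθ (fun s => dig B x (k * idx j + s)) (fun s => dig B y (k * idx j + s))
      (fun s hs => dig_lt_of_red (by omega) hpB hx (idx_lt (hlt j) hs))
      (fun s hs => dig_lt_of_red (by omega) hpB hy (idx_lt (hlt j) hs)) (congrFun h j) _ (Nat.mod_lt _ hk)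
  B := basp B k d
  okB b hb' := (beq_iff _ _).1 ((allL_iff _ _).1 hb b hb')
  span j := ⟨_, mem_basp (hlt j), by simpa using decp_pow θ (by omega : 1 < B) hi j hk⟩
  inv a := nth I K a
  hinv a := invOK_sound hI (fun a ha => by
    funext x
    rw [ble_iff] at hK
    unfold apppT
    rw [nth_triv tabs dflt hK, nth_triv tabs dflt (hK.trans ha)]) a

omit [Fintype ι] [DecidableEq ι] in
/-- The hypothesis on `Θ` follows from its values on the powers of `B`. -/
theorem theta_of_pow {θ : F} {B p k d : ℕ} [CharP F p] (hp : 1 < p) (hB : k * d * (p - 1) ^ 2 < B) (hpB : p ≤ B)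
    {idx : ι → ℕ} (hlt : ∀ j, idx j < d) {Θ : List ℕ} (h1 : Θ.length = k * d)
    (h2 : ∀ c ∈ Θ, red B p (k * d) c = c)
    (h3 : ∀ i < k * d, θ • decp θ B k idx (B ^ i) = decp θ B k idx (Θ.getD i 0)) (x : ℕ)
    (hx : red B p (k * d) x = x) : θ • decp θ B k idx x = decp θ B k idx (app1 B p (k * d) Θ x) := by
  unfold app1
  rw [decp_app (by omega) hB hpB hlt h1 h2 hx, decp_eq_sum θ (by omega) hlt x, smul_sum]
  exact sum_congr rfl fun i hi => by rw [smul_comm, h3 i (mem_range.1 hi)]

theorem prime_indep {p : ℕ} [CharP F p] (f g : ℕ → ℕ) (hf : ∀ s < 1, f s < p) (hg : ∀ s < 1, g s < p)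
    (h : ∑ s ∈ range 1, (f s : F) * 1 ^ s = ∑ s ∈ range 1, (g s : F) * 1 ^ s) : ∀ s < 1, f s = g s := by
  intro s hs
  obtain rfl : s = 0 := by omega
  simp only [range_one, sum_singleton, pow_zero, mul_one] at h
  exact CharP.natCast_injOn_Iio F p (hf 0 hs) (hg 0 hs) h

end

/-- Lookup in a table cut into chunks of `2 ^ sh` fields of `w` bits. -/
noncomputable def lk (T : Tr ℕ) (sh w M i : ℕ) : ℕ :=
  force (Nat.shiftRight i sh) fun c => look M (T.get c) (Nat.mul w (Nat.mod i (Nat.pow 2 sh)))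

theorem cl_eq_top_of_inv {n w : ℕ} [NeZero n] {app : ℕ → ℕ → ℕ} {r k : ℕ} {partner : ℕ → ℕ}
    {slp : ℕ → Bool × List ℕ} (h : TabOK n w app r k partner slp) {inv : ℕ → ℕ}
    (hinv : ∀ a, h.act.gen (inv a) = (h.act.gen a)⁻¹) (L : List ℕ)
    (hall : allLt (fun a => bor (memL a L) (memL (inv a) L)) r = true) : cl h.act.gen L = ⊤ := by
  rw [eq_top_iff, ← h.cl_eq_top]
  apply cl_le
  intro a ha
  have := (allLt_iff _ _).1 hall a (List.mem_range.1 ha)
  rw [bor_eq, memL_iff, memL_iff] at this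
  rcases this with h1 | h1
  · exact gen_mem_cl _ h1
  · have := inv_mem (gen_mem_cl h.act.gen h1)
    rwa [hinv, inv_inv] at this

end Cfsg.Agent.Id
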