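import Cfsg.Agent.Lib.Id.Ico2
import Cfsg.Agent.Lib.Id.LinP

/-! Classification of the minimal vectors of the icosian Leech lattice: reduction to finite checks. -/

set_option autoImplicit false

namespace Cfsg.Agent.Id.J2

open Cfsg.Agent.CG Cfsg.Spor Quaternion Z8

/-- Put `a` at place `p`. -/
def place (p : Fin 3) (a y z : Z8) : T3 := ![⟨a, y, z⟩, ⟨y, a, z⟩, ⟨y, z, a⟩] p

/-- The first of the other places. -/
def q1 : Fin 3 → Fin 3 := ![1, 0, 0]
/-- The second of the other places. -/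
def q2 : Fin 3 → Fin 3 := ![2, 2, 1]

theorem eq_place {r : V3} {p : Fin 3} {a y z : Z8} (h0 : r p = ph a) (h1 : r (q1 p) = ph y)
    (h2 : r (q2 p) = ph z) : r = phv (place p a y z) := by
  funext t
  fin_cases p <;> fin_cases t <;> first | exact h0 | exact h1 | exact h2

theorem leech_diff {r : V3} (h : r ∈ icoLeech) (s t : Fin 3) : r s - r t ∈ leftIdeal icoH := by
  obtain ⟨-, h1, h2, -⟩ := h
  have h3 : r 0 - r 2 ∈ leftIdeal icoH := by simpa using ideal_add h1 h2
  have h0 : ∀ x : ℍ[ℝ], x - x ∈ leftIdeal icoH := fun x => ⟨0, zero_mem _, by simp⟩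
  fin_cases s <;> fin_cases t
  exacts [h0 _, h1, h3, by simpa using ideal_neg h1, h0 _, h2, by simpa using ideal_neg h3,
    by simpa using ideal_neg h2, h0 _]

theorem leech_sum {r : V3} (h : r ∈ icoLeech) (p : Fin 3) :
    r p + (r (q1 p) + r (q2 p)) ∈ leftIdeal (star icoH) := by
  convert h.2.2.2 using 1
  fin_cases p <;> simp [q1, q2] <;> abel

theorem min_norm {r : V3} (h : IsMin r) (p : Fin 3) {a y z : Z8} (h0 : r p = ph a) (h1 : r (q1 p) = ph y)
    (h2 : r (q2 p) = ph z) : nA a + nA y + nA z = 16 ∧ nB a + nB y + nB z = 0 := by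
  have := h.2
  rw [eq_place h0 h1 h2, norm_T3] at this
  fin_cases p <;> simp only [place, Matrix.cons_val_zero', Matrix.cons_val_succ'] at this <;> omega

theorem norm_eq {x y : Z8} {k : ℤ} (h : normSq (ph x) = k * normSq (ph y)) : nA x = k * nA y ∧ nB x = k * nB y := by
  rw [normSq_ph, normSq_ph] at h
  have := tau_irr (m := nA x - k * nA y) (n := nB x - k * nB y) (by push_cast; linarith)
  omega

theorem normSq_one {x : Z8} (h1 : nA x = 4) (h2 : nB x = 0) : normSq (ph x) = 1 := by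
  rw [normSq_ph, h1, h2]; norm_num

theorem pos_of_ne {x : Z8} (h : InI x) (h0 : x ≠ cZero) : 4 ≤ nA x ∧ 4 ≤ nA x + nB x := by
  have h1 := four_dvd h
  have h2 : ¬ nA x ≤ 0 := fun e => h0 (eq_zero_of_nA e)
  have h3 : ¬ nA x + nB x ≤ 0 := fun e => h0 (eq_zero_of_nAB e)
  omega

theorem reduce {Y : Subgroup (Equiv.Perm icoLeech)}
    (hA : ∀ p y z, InI y → InI z → InId (add y (sm (-1) cOne)) cH → InId (add z (sm (-1) cOne)) cH →
      InId (add cOne (add y z)) (st cH) → nA y ≤ 8 → nA z ≤ 8 → nA y + nA z = 12 → nB y + nB z = 0 →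
      RR (phv (place p cOne y z)) ∈ Y)
    (hB : ∀ p y, InI y → nA y = 8 → nB y = 0 → InId y cH → InId (add cH y) (st cH) →
      RR (phv (place p cZero cH y)) ∈ Y)
    (hC : ∀ p, IsMin (phv (place p (sm 2 cOne) cZero cZero)) ∧ RR (phv (place p (sm 2 cOne) cZero cZero)) ∈ Y)
    (r : V3) (hr : IsMin r) : RR r ∈ Y := by
  have C' : ∀ p, r (q1 p) = 0 → r (q2 p) = 0 → RR r ∈ Y := by
    intro p h1 h2
    obtain ⟨a, -, ea⟩ := mem_ico (hr.1.1 p)
    have hn := min_norm hr p ea (h1.trans ph_zero.symm) (h2.trans ph_zero.symm)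
    rw [show nA cZero = 0 by decide, show nB cZero = 0 by decide] at hn
    have h4 : star (ph a) * ph a = star (ph (sm 2 cOne)) * ph (sm 2 cOne) := by
      rw [star_mul_self, star_mul_self, normSq_ph, normSq_ph, show nA (sm 2 cOne) = 16 by decide,
        show nB (sm 2 cOne) = 0 by decide, show nA a = 16 by omega, show nB a = 0 by omega]
    rw [RR_congr hr (hC p).1 (qrefl_congr fun s t => ?_)]
    · exact (hC p).2
    rw [eq_place ea (h1.trans ph_zero.symm) (h2.trans ph_zero.symm)]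
    fin_cases p <;> fin_cases s <;> fin_cases t <;> simp [place, phv, ph_zero, h4]
  by_cases hz : ∃ p, r p = 0
  · obtain ⟨p, hp⟩ := hz
    by_cases h1 : r (q1 p) = 0
    · fin_cases p
      exacts [C' 2 hp h1, C' 2 h1 hp, C' 1 h1 hp]
    by_cases h2 : r (q2 p) = 0
    · fin_cases p
      exacts [C' 1 hp h2, C' 0 hp h2, C' 0 h2 hp]
    obtain ⟨a, ha, ea⟩ := leech_diff hr.1 (q1 p) p
    obtain ⟨b, hb, eb⟩ := leech_diff hr.1 (q2 p) p
    rw [hp, sub_zero] at ea eb
    obtain ⟨a', ha', rfl⟩ := mem_ico ha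
    obtain ⟨b', hb', rfl⟩ := mem_ico hb
    obtain ⟨y, -, ey⟩ := mem_ico (hr.1.1 (q1 p))
    obtain ⟨z, -, ez⟩ := mem_ico (hr.1.1 (q2 p))
    have hn := min_norm hr p (hp.trans ph_zero.symm) ey ez
    rw [show nA cZero = 0 by decide, show nB cZero = 0 by decide] at hn
    have n1 := norm_eq (x := y) (y := a') (k := 2) (by rw [← ey, ea, map_mul, ← ph_H, normSq_H]; push_cast; ring)
    have n2 := norm_eq (x := z) (y := b') (k := 2) (by rw [← ez, eb, map_mul, ← ph_H, normSq_H]; push_cast; ring)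
    have p1 := pos_of_ne ha' (by rintro rfl; exact h1 (by rw [ea, ph_zero, zero_mul]))
    have p2 := pos_of_ne hb' (by rintro rfl; exact h2 (by rw [eb, ph_zero, zero_mul]))
    have hu : normSq (star (ph a')) = 1 := by rw [normSq_star]; exact normSq_one (by omega) (by omega)
    have hr' := hr.unit (star_mem_ico ha) hu
    rw [← RR_unit hr (star_mem_ico ha) hu]
    obtain ⟨w, hw, ew⟩ := mem_ico (hr'.1.1 (q2 p))
    have f0 : (star (ph a') • r) p = ph cZero := by simp [hp, ph_zero]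
    have f1 : (star (ph a') • r) (q1 p) = ph cH := by
      rw [normSq_star] at hu
      simp only [Pi.smul_apply, smul_eq_mul, ea, ← mul_assoc, star_mul_self, hu, ph_H]
      simp
    have hn' := min_norm hr' p f0 f1 ew
    rw [show nA cZero = 0 by decide, show nB cZero = 0 by decide, show nA cH = 8 by decide,
      show nB cH = 0 by decide] at hn'
    rw [eq_place f0 f1 ew]
    refine hB p w hw (by omega) (by omega) ((inId_iff normSq_H).1 ?_) ((inId_iff normSq_H').1 ?_)
    · have := leech_diff hr'.1 (q2 p) p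
      rwa [f0, ew, ph_zero, sub_zero, ← ph_H] at this
    · have := leech_sum hr'.1 p
      rwa [f0, f1, ew, ph_zero, zero_add, ← ph_add, ← ph_H, ← ph_st] at this
  · push Not at hz
    have key : ∀ {r : V3}, IsMin r → (∀ p, r p ≠ 0) → ∀ {t : Fin 3} {c : Z8}, r t = ph c →
        4 ≤ nA c ∧ 4 ≤ nA c + nB c ∧ nA c % 4 = 0 ∧ nB c % 4 = 0 := by
      intro r hr hz t c e
      have hc : InI c := inI_of_mem (e ▸ hr.1.1 t)
      have := pos_of_ne hc (by rintro rfl; exact hz t (e.trans ph_zero))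
      exact ⟨this.1, this.2, four_dvd hc⟩
    obtain ⟨p, a, ea, ha⟩ : ∃ p a, r p = ph a ∧ nA a = 4 ∧ nB a = 0 := by
      obtain ⟨x, -, ex⟩ := mem_ico (hr.1.1 0)
      obtain ⟨y, -, ey⟩ := mem_ico (hr.1.1 1)
      obtain ⟨z, -, ez⟩ := mem_ico (hr.1.1 2)
      have := min_norm hr 0 ex ey ez
      have := key hr hz ex; have := key hr hz ey; have := key hr hz ez
      by_cases c1 : nA x = 4 ∧ nB x = 0
      · exact ⟨0, x, ex, c1⟩
      by_cases c2 : nA y = 4 ∧ nB y = 0
      · exact ⟨1, y, ey, c2⟩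
      exact ⟨2, z, ez, by omega⟩
    have hu0 : normSq (ph a) = 1 := normSq_one ha.1 ha.2
    have hu : normSq (star (ph a)) = 1 := by rw [normSq_star, hu0]
    have hm : star (ph a) ∈ icosians := star_mem_ico (ea ▸ hr.1.1 p)
    have hr' := hr.unit hm hu
    rw [← RR_unit hr hm hu]
    have hz' : ∀ t, (star (ph a) • r) t ≠ 0 := fun t =>
      mul_ne_zero (by rintro e; rw [e] at hu; simp at hu) (hz t)
    obtain ⟨y, hy, ey⟩ := mem_ico (hr'.1.1 (q1 p))
    obtain ⟨z, hz2, ez⟩ := mem_ico (hr'.1.1 (q2 p))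
    have f0 : (star (ph a) • r) p = ph cOne := by
      simp only [Pi.smul_apply, smul_eq_mul, ea, star_mul_self, hu0, ph_one]; simp
    have hn := min_norm hr' p f0 ey ez
    rw [show nA cOne = 4 by decide, show nB cOne = 0 by decide] at hn
    have := key hr' hz' ey; have := key hr' hz' ez
    rw [eq_place f0 ey ez]
    refine hA p y z hy hz2 ((inId_iff normSq_H).1 ?_) ((inId_iff normSq_H).1 ?_)
      ((inId_iff normSq_H').1 ?_) (by omega) (by omega) (by omega) (by omega)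
    · have := leech_diff hr'.1 (q1 p) p
      rw [f0, ey, ← ph_H] at this
      simpa [ph_add, ph_sm, sub_eq_add_neg] using this
    · have := leech_diff hr'.1 (q2 p) p
      rw [f0, ez, ← ph_H] at this
      simpa [ph_add, ph_sm, sub_eq_add_neg] using this
    · have := leech_sum hr'.1 p
      rwa [f0, ey, ez, ← ph_add, ← ph_add, ← ph_H, ← ph_st] at this

/-! ### Checks -/

/-- Membership in the lattice. -/
def InL (c : T3) : Prop := InI c.x ∧ InI c.y ∧ InI c.z ∧ InId (add c.x (sm (-1) c.y)) cH ∧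
  InId (add c.y (sm (-1) c.z)) cH ∧ InId (add c.x (add c.y c.z)) (st cH)

instance (c : T3) : Decidable (InL c) := by unfold InL; infer_instance

theorem InL.mem {c : T3} (h : InL c) : phv c ∈ icoLeech := by
  obtain ⟨h1, h2, h3, h4, h5, h6⟩ := h
  refine ⟨fun t => ?_, ?_, ?_, ?_⟩
  · fin_cases t
    exacts [h1.mem, h2.mem, h3.mem]
  · simpa [ph_add, ph_sm, ph_H, phv, sub_eq_add_neg] using (inId_iff normSq_H).2 h4
  · simpa [ph_add, ph_sm, ph_H, phv, sub_eq_add_neg] using (inId_iff normSq_H).2 h5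
  · simpa [ph_add, ph_st, ph_H, phv, add_assoc] using (inId_iff normSq_H').2 h6

/-- A minimal vector. -/
def MinC (c : T3) : Prop := InL c ∧ nA c.x + nA c.y + nA c.z = 16 ∧ nB c.x + nB c.y + nB c.z = 0

instance (c : T3) : Decidable (MinC c) := by unfold MinC; infer_instance

theorem MinC.isMin {c : T3} (h : MinC c) : IsMin (phv c) := ⟨h.1.mem, (norm_T3 c).2 h.2⟩

/-- A unit. -/
def Un (u : Z8) : Prop := InI u ∧ nA u = 4 ∧ nB u = 0

instance (u : Z8) : Decidable (Un u) := by unfold Un; infer_instance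

/-- `v = u s`. -/
def Rel (v : T3) (u : Z8) (s : T3) : Prop :=
  Un u ∧ mul u s.x = sm 2 v.x ∧ mul u s.y = sm 2 v.y ∧ mul u s.z = sm 2 v.z

instance (v : T3) (u : Z8) (s : T3) : Decidable (Rel v u s) := by unfold Rel; infer_instance

theorem Rel.RR_eq {v s : T3} {u : Z8} (h : Rel v u s) (hs : IsMin (phv s)) : RR (phv v) = RR (phv s) := by
  obtain ⟨⟨h1, h2, h3⟩, h4, h5, h6⟩ := h
  rw [← RR_unit hs h1.mem (normSq_one h2 h3)]
  congr 1
  funext t
  fin_cases t
  exacts [(ph_mul_of h4).symm, (ph_mul_of h5).symm, (ph_mul_of h6).symm]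

theorem qrefl_phv (r x : T3) : (8 : ℝ) • qrefl (phv r) (phv x) =
    (8 : ℝ) • phv x - phv ⟨mul (ip3 x r) r.x, mul (ip3 x r) r.y, mul (ip3 x r) r.z⟩ := by
  funext t
  fin_cases t <;> simp [qrefl, phv, ph_mul, ph_ip3, smul_sub, smul_smul] <;> norm_num

/-- The reflection in `r` maps `x` to `u s`; `w` is the product of `x` and `r`. -/
def RefC (r x : T3) (w u : Z8) (s : T3) : Prop :=
  Un u ∧ add (sm 4 (mul u s.x)) (mul w r.x) = sm 8 x.x ∧ add (sm 4 (mul u s.y)) (mul w r.y) = sm 8 x.y ∧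
    add (sm 4 (mul u s.z)) (mul w r.z) = sm 8 x.z

instance (r x : T3) (w u : Z8) (s : T3) : Decidable (RefC r x w u s) := by unfold RefC; infer_instance

theorem RefC.conj {r x s : T3} {u : Z8} (h : RefC r x (ip3 x r) u s) (hr : IsMin (phv r)) (hx : IsMin (phv x))
    (hs : IsMin (phv s)) : RR (phv r) * RR (phv x) * (RR (phv r))⁻¹ = RR (phv s) := by
  obtain ⟨⟨h1, h2, h3⟩, h4, h5, h6⟩ := h
  rw [RR_conj hr hx, ← RR_unit hs h1.mem (normSq_one h2 h3)]
  congr 1
  apply smul_right_injective _ (show (8 : ℝ) ≠ 0 by norm_num)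
  simp only
  rw [qrefl_phv]
  have k : ∀ a b c : Z8, add (sm 4 (mul u a)) b = sm 8 c → (8 : ℝ) • ph c - ph b = (8 : ℝ) • (ph u * ph a) := by
    intro a b c e
    have := congrArg ph e
    rw [ph_add, ph_sm, ph_sm, ph_mul, smul_smul] at this
    norm_num at this
    rw [← this]; simp
  funext t
  fin_cases t
  exacts [k _ _ _ h4, k _ _ _ h5, k _ _ _ h6]

theorem key_eq {r s v : T3} (hr : IsMin (phv r)) (hs : IsMin (phv s)) (hv : InL v) (h : RR (phv r) = RR (phv s)) :
    (⟨mul (ip3 v r) r.x, mul (ip3 v r) r.y, mul (ip3 v r) r.z⟩ : T3) =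
      ⟨mul (ip3 v s) s.x, mul (ip3 v s) s.y, mul (ip3 v s) s.z⟩ := by
  have e : qrefl (phv r) (phv v) = qrefl (phv s) (phv v) := by
    rw [← RR_apply hr ⟨_, hv.mem⟩, ← RR_apply hs ⟨_, hv.mem⟩, h]
  have e2 := qrefl_phv r v
  rw [e, qrefl_phv, sub_right_inj] at e2
  have h0 := ph_inj (congrFun e2 0)
  have h1 := ph_inj (congrFun e2 1)
  have h2 := ph_inj (congrFun e2 2)
  simp only at h0 h1 h2
  rw [h0, h1, h2]

/-- Evaluate an integer before passing it on. -/
noncomputable def fI {α : Type} (x : ℤ) (k : ℤ → α) : α :=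
  Int.rec (motive := fun _ => α) (fun n => force n fun n => k (Int.ofNat n)) (fun n => force n fun n => k (Int.negSucc n)) x

@[simp] theorem fI_eq {α : Type} (x : ℤ) (k : ℤ → α) : fI x k = k x := by
  cases x with
  | ofNat n => exact force_eq n fun n => k (Int.ofNat n)
  | negSucc n => exact force_eq n fun n => k (Int.negSucc n)

/-- Evaluate a quaternion before passing it on. -/
noncomputable def fz {α : Type} (x : Z8) (k : Z8 → α) : α :=
  Z8.rec (motive := fun _ => α) (fun a0 a1 b0 b1 c0 c1 d0 d1 => fI a0 fun a0 => fI a1 fun a1 => fI b0 fun b0 =>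
    fI b1 fun b1 => fI c0 fun c0 => fI c1 fun c1 => fI d0 fun d0 => fI d1 fun d1 =>
      k ⟨a0, a1, b0, b1, c0, c1, d0, d1⟩) x

@[simp] theorem fz_eq {α : Type} (x : Z8) (k : Z8 → α) : fz x k = k x := by
  cases x; simp [fz]

/-- Decode a quaternion from 32 bits. -/
def dec8 (x : ℕ) : Z8 :=
  ⟨Int.subNatNat (look 15 x 0) 8, Int.subNatNat (look 15 x 4) 8, Int.subNatNat (look 15 x 8) 8,
    Int.subNatNat (look 15 x 12) 8, Int.subNatNat (look 15 x 16) 8, Int.subNatNat (look 15 x 20) 8,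
    Int.subNatNat (look 15 x 24) 8, Int.subNatNat (look 15 x 28) 8⟩

/-- Decode a triple from 96 bits. -/
def decT (x : ℕ) : T3 := ⟨dec8 x, dec8 (Nat.shiftRight x 32), dec8 (Nat.shiftRight x 64)⟩

/-- Evaluate a triple before passing it on. -/
noncomputable def fT {α : Type} (x : T3) (k : T3 → α) : α :=
  fz x.x fun a => fz x.y fun b => fz x.z fun c => k ⟨a, b, c⟩

@[simp] theorem fT_eq {α : Type} (x : T3) (k : T3 → α) : fT x k = k x := by
  simp [fT]

/-- All integers whose square is at most `b ≤ 8`. -/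
noncomputable def rng (b : ℕ) (f : ℤ → ℕ → Bool) : Bool :=
  force b fun b => band (f (Int.ofNat 0) b) (band (bor (blt b 1) (band (f (Int.ofNat 1) (Nat.sub b 1))
    (f (Int.negSucc 0) (Nat.sub b 1)))) (bor (blt b 4) (band (f (Int.ofNat 2) (Nat.sub b 4))
    (f (Int.negSucc 1) (Nat.sub b 4)))))

theorem rng_sound {b : ℕ} {f : ℤ → ℕ → Bool} (h : rng b f = true) (hb : b ≤ 8) (v rest : ℤ) (h0 : 0 ≤ rest)
    (h1 : v * v + rest ≤ b) : ∃ b' : ℕ, b' ≤ 8 ∧ rest ≤ b' ∧ f v b' = true := by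
  unfold rng at h
  rw [force_eq, band_eq, band_eq, bor_eq, bor_eq, band_eq, band_eq, blt_iff, blt_iff] at h
  have h2 : v ≤ 2 := by nlinarith
  have h3 : -2 ≤ v := by nlinarith
  obtain ⟨g0, g1, g2⟩ := h
  interval_cases v
  · exact ⟨b - 4, by omega, by omega, (g2.resolve_left (by omega)).2⟩
  · exact ⟨b - 1, by omega, by omega, (g1.resolve_left (by omega)).2⟩
  · exact ⟨b, by omega, by omega, g0⟩
  · exact ⟨b - 1, by omega, by omega, (g1.resolve_left (by omega)).1⟩
  · exact ⟨b - 4, by omega, by omega, (g2.resolve_left (by omega)).1⟩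

/-- All quaternions with small coordinates and given first coordinate. -/
noncomputable def enum7 (p : Z8 → Bool) (a0 : ℤ) (b : ℕ) : Bool :=
  rng b fun a1 b => rng b fun b0 b => rng b fun b1 b => rng b fun c0 b => rng b fun c1 b =>
    rng b fun d0 b => rng b fun d1 _ => p ⟨a0, a1, b0, b1, c0, c1, d0, d1⟩

theorem enum_sound {p : Z8 → Bool} (h : rng 8 (enum7 p) = true) (c : Z8) (hc : nA c ≤ 8) : p c = true := by
  obtain ⟨a0, a1, b0, b1, c0, c1, d0, d1⟩ := c
  simp only [nA] at hc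
  have := mul_self_nonneg a1; have := mul_self_nonneg b0; have := mul_self_nonneg b1
  have := mul_self_nonneg c0; have := mul_self_nonneg c1; have := mul_self_nonneg d0
  have := mul_self_nonneg d1
  obtain ⟨n0, l0, m0, h⟩ := rng_sound h le_rfl a0
    (a1 * a1 + b0 * b0 + b1 * b1 + c0 * c0 + c1 * c1 + d0 * d0 + d1 * d1) (by linarith) (by push_cast; linarith)
  obtain ⟨n1, l1, m1, h⟩ := rng_sound h l0 a1
    (b0 * b0 + b1 * b1 + c0 * c0 + c1 * c1 + d0 * d0 + d1 * d1) (by linarith) (by linarith)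
  obtain ⟨n2, l2, m2, h⟩ := rng_sound h l1 b0
    (b1 * b1 + c0 * c0 + c1 * c1 + d0 * d0 + d1 * d1) (by linarith) (by linarith)
  obtain ⟨n3, l3, m3, h⟩ := rng_sound h l2 b1 (c0 * c0 + c1 * c1 + d0 * d0 + d1 * d1) (by linarith) (by linarith)
  obtain ⟨n4, l4, m4, h⟩ := rng_sound h l3 c0 (c1 * c1 + d0 * d0 + d1 * d1) (by linarith) (by linarith)
  obtain ⟨n5, l5, m5, h⟩ := rng_sound h l4 c1 (d0 * d0 + d1 * d1) (by linarith) (by linarith)
  obtain ⟨n6, l6, m6, h⟩ := rng_sound h l5 d0 (d1 * d1) (by linarith) (by linarith)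
  obtain ⟨n7, l7, m7, h⟩ := rng_sound h l6 d1 0 le_rfl (by linarith)
  exact h

end Cfsg.Agent.Id.J2
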