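import Cfsg.Agent.Lib.Id.J1D
import Cfsg.Prelude.Def_Spor_J1

/-! Identification of the Janko group `J1` with its table permutation group. -/

set_option autoImplicit false
set_option maxRecDepth 100000

namespace Cfsg.Agent.Id.J1

open Cfsg.Agent.CG

instance fact11 : Fact (Nat.Prime 11) := ⟨by norm_num⟩

theorem hΘ (x : ℕ) (hx : red 1024 11 (1 * 7) x = x) :
    (1 : ZMod 11) • decp (1 : ZMod 11) 1024 1 (Fin.val : Fin 7 → ℕ) x =
      decp (1 : ZMod 11) 1024 1 (Fin.val : Fin 7 → ℕ) (app1 1024 11 (1 * 7) theta x) :=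
  theta_of_pow (d := 7) (by norm_num) (by norm_num) (by norm_num) Fin.isLt rfl (by decide +kernel)
    (fun i hi => by
      rw [one_smul]; congr 1; revert i; decide +kernel) x hx

/-- The coded matrices. -/
noncomputable def mc : MatCode (Fin 7) (ZMod 11) :=
  codep 1 1024 11 1 7 Fin.val (by norm_num) (by norm_num) (by norm_num) (by norm_num) Fin.val_injective
    Fin.isLt (fun i hi => ⟨⟨i, hi⟩, rfl⟩) prime_indep theta hΘ tabs dflt invL 43 (by decide +kernel) hcols
    (by decide +kernel) hinv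

theorem gen0 : mc.act.gen 0 = Cfsg.Spor.jankoX := by
  apply Units.ext
  change matp (1 : ZMod 11) 1024 1 (Fin.val : Fin 7 → ℕ) (nth tabs dflt 0) = Cfsg.jankoMatrixX
  decide +kernel

theorem gen2 : mc.act.gen 2 = Cfsg.Spor.jankoY := by
  apply Units.ext
  change matp (1 : ZMod 11) 1024 1 (Fin.val : Fin 7 → ℕ) (nth tabs dflt 2) = Cfsg.jankoMatrixY
  decide +kernel

theorem gen34 : mc.act.gen 34 = 1 := by
  have := mc.base.ev_eq (v := repL 1 34) (w := []) hsc
  rwa [ev_repL, pow_one] at this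

theorem exists_iso : ∃ e : Cfsg.Spor.J1 ≃* CG.J1.PG,
    ∀ a ∈ CG.J1.tcS, ∀ h : mc.act.gen a ∈ Cfsg.Spor.J1, e ⟨mc.act.gen a, h⟩ = CG.J1.act.gen a := by
  have hm : ∀ p ∈ wW, mc.act.gen p.1 ∈ Cfsg.Spor.J1 := by
    have : ∀ p ∈ wW, p.1 = 0 ∨ p.1 = 2 := by decide +kernel
    intro p hp
    rcases this p hp with h | h <;> rw [h]
    · rw [gen0]; exact Subgroup.subset_closure (by simp)
    · rw [gen2]; exact Subgroup.subset_closure (by simp)
  obtain ⟨f, h1, h2, h3⟩ := exists_hom_of_coded CG.J1.base CG.J1.bounds CG.J1.rels CG.J1.clS CG.J1.card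
    (by norm_num) mc.base (s := 34) (c := 1) (gen34 ▸ one_mem _) one_pos hsc Cfsg.Spor.J1
    (gen34 ▸ one_mem _) hR hT hm hW1 hW2 (by
      rw [Cfsg.Spor.J1, Subgroup.closure_le]
      rintro x (rfl | rfl)
      · exact gen0 ▸ wordsC_mem mc.base hW2 (0, _) List.mem_cons_self
      · exact gen2 ▸ wordsC_mem mc.base hW2 (2, _) (List.mem_cons_of_mem _ List.mem_cons_self))
    (chainOK_of_chk mc.act vc [] (by simp) (fun b hb => (beq_iff _ _).1 ((allL_iff _ _).1 hbases b hb))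
      hhead hchk) hU2 hLU hprod
  rw [gen34, Subgroup.zpowers_one_eq_bot, Subgroup.bot_subgroupOf] at h2
  exact ⟨MulEquiv.ofBijective f ⟨(MonoidHom.ker_eq_bot_iff f).1 h2, h1⟩, h3⟩

theorem iso : Nonempty (Cfsg.Spor.J1 ≃* CG.J1.PG) := exists_iso.nonempty

end Cfsg.Agent.Id.J1
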