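import Cfsg.Agent.Lib.Id.J2D

set_option autoImplicit false
set_option maxRecDepth 100000
set_option Elab.async false

namespace Cfsg.Agent.Id.J2

open Cfsg.Agent.CG Z8

theorem hE : rng 8 (enum7 tst) = true := by decide +kernel
theorem hP : allL (fun m => allL (tst2 m) l1) l1 = true := by decide +kernel
theorem h3 : allL (fun e => rel3 cOne (dec8 e.1) (dec8 e.2.1) e.2.2) l3 = true := by decide +kernel
theorem h2 : allL (fun e => rel3 cZero cH (dec8 e.1) e.2) l2 = true := by decide +kernel
theorem h1 : rel3 (sm 2 cOne) cZero cZero c3 = true := by decide +kernel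
theorem hv : InL vv := by decide +kernel

end Cfsg.Agent.Id.J2
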