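import Cfsg.Agent.Lib.Id.J2E
import Cfsg.Agent.Lib.Id.J2F
import Cfsg.Agent.Lib.Id.Closed
import Cfsg.Agent.Lib.Grp.J2.Out

/-! Identification of the Hall–Janko group `J2` with its table permutation group. -/

set_option autoImplicit false
set_option maxRecDepth 100000

namespace Cfsg.Agent.Id.J2

open Cfsg.Agent.CG Cfsg.Spor Z8

theorem sv_spec {j : ℕ} (hj : j < 315) : MinC (sv j) ∧
    qv (hsh ⟨mul (ip3 vv (sv j)) (sv j).x, mul (ip3 vv (sv j)) (sv j).y, mul (ip3 vv (sv j)) (sv j).z⟩) = j := by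
  have := (allLt_iff _ _).1 hS j hj
  unfold tstS at this
  rw [fT_eq, band_eq, fT_eq, fz_eq, beq_iff, decide_eq_true_eq] at this
  exact this

theorem sv_min {j : ℕ} (hj : j < 315) : IsMin (phv (sv j)) := (sv_spec hj).1.isMin

/-- The 315 reflections. -/
noncomputable def pt (j : Fin 315) : Equiv.Perm icoLeech := RR (phv (sv j))

theorem pt_inj : Function.Injective pt := by
  intro i j h
  have := key_eq (sv_min i.2) (sv_min j.2) hv h
  apply Fin.ext
  rw [← (sv_spec i.2).2, this, (sv_spec j.2).2]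

theorem relB_sound {Y : Subgroup (Equiv.Perm icoLeech)} (hY : ∀ j, pt j ∈ Y) {v : T3} {c : ℕ}
    (h : relB v c = true) : RR (phv v) ∈ Y := by
  unfold relB at h
  rw [force_eq, force_eq, band_eq, blt_iff, fT_eq, fz_eq, fT_eq, decide_eq_true_eq] at h
  rw [h.2.RR_eq (sv_min h.1)]
  exact hY ⟨_, h.1⟩

theorem rel3_sound {Y : Subgroup (Equiv.Perm icoLeech)} (hY : ∀ j, pt j ∈ Y) {a y z : Z8} {c : ℕ}
    (h : rel3 a y z c = true) (p : Fin 3) : RR (phv (place p a y z)) ∈ Y := by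
  unfold rel3 at h
  rw [band_eq, band_eq] at h
  fin_cases p
  exacts [relB_sound hY h.1, relB_sound hY h.2.1, relB_sound hY h.2.2]

theorem le_of_pt {Y : Subgroup (Equiv.Perm icoLeech)} (hY : ∀ j, pt j ∈ Y) : twoJ2 ≤ Y := by
  have key : ∀ c, InI c → nA c ≤ 8 → (InId (add c (sm (-1) cOne)) cH → ∃ n ∈ l1, dec8 n = c) ∧
      (nA c = 8 → nB c = 0 → InId c cH → InId (add cH c) (st cH) → ∃ n ∈ l2, dec8 n.1 = c) := by
    intro c h1 h2
    have := enum_sound hE c h2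
    unfold tst at this
    simp only [bor_eq, band_eq, bnot_eq, fz_eq, anyL_iff, decide_eq_true_eq,
      ← Bool.not_eq_true] at this
    tauto
  refine twoJ2_le (reduce ?_ ?_ ?_)
  · intro p y z hy hz h1 h2 h3 h4 h5 h6 h7
    obtain ⟨m, hm, rfl⟩ := (key y hy h4).1 h1
    obtain ⟨n, hn, rfl⟩ := (key z hz h5).1 h2
    have := (allL_iff _ _).1 ((allL_iff _ _).1 hP m hm) n hn
    unfold tst2 at this
    simp only [bor_eq, band_eq, bnot_eq, fz_eq, anyL_iff, decide_eq_true_eq, beq_iff,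
      ← Bool.not_eq_true] at this
    obtain ⟨e, he, rfl, rfl⟩ := this.resolve_left (not_not.2 ⟨⟨h6, h7⟩, h3⟩)
    exact rel3_sound hY ((allL_iff _ _).1 J2.h3 e he) p
  · intro p y hy h1 h2 h3 h4
    obtain ⟨n, hn, rfl⟩ := (key y hy h1.le).2 h1 h2 h3 h4
    exact rel3_sound hY ((allL_iff _ _).1 J2.h2 n hn) p
  · intro p
    exact ⟨MinC.isMin (by revert p; decide +kernel), rel3_sound hY h1 p⟩

theorem gen_conj {a : ℕ} (ha : a < 4) : ∃ g : Fin 315, ∀ j,
    pt g * pt j * (pt g)⁻¹ = pt (permOf 315 12 CG.J2.app a j) := by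
  have h0 : gi a < 315 := by revert a; decide +kernel
  refine ⟨⟨_, h0⟩, fun j => ?_⟩
  have h1 : tstG a j = true := by
    interval_cases a
    exacts [(allLt_iff _ _).1 hG0 j j.2, (allLt_iff _ _).1 hG1 j j.2, (allLt_iff _ _).1 hG2 j j.2,
      (allLt_iff _ _).1 hG3 j j.2]
  unfold tstG at h1
  rw [fT_eq, fT_eq, fz_eq, fz_eq, fT_eq, decide_eq_true_eq] at h1
  have e : (permOf 315 12 CG.J2.app a j : ℕ) = CG.J2.app a (12 * j) / 12 := permOf_val CG.J2.tabOK a j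
  unfold pt
  rw [e]
  have h2 : CG.J2.app a (12 * j) / 12 < 315 := e ▸ (permOf 315 12 CG.J2.app a j).2
  exact h1.conj (sv_min h0) (sv_min j.2) (sv_min h2)

/-- The action of a subgroup by conjugation. -/
@[reducible] def conjAct {G : Type*} [Group G] (X : Subgroup G) : MulAction X G :=
  MulAction.compHom G ((MulAut.conj : G →* MulAut G).comp X.subtype)

theorem exists_hom : ∃ f : twoJ2 →* CG.J2.PG, Function.Surjective f ∧
    ∀ (x : twoJ2) j, x.1 * pt j * x.1⁻¹ = pt ((f x).1 j) := by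
  let _ := conjAct (⊤ : Subgroup (Equiv.Perm icoLeech))
  let _ := conjAct twoJ2
  choose g hg using @gen_conj
  let Y := Subgroup.closure (Set.range fun a : Fin 4 => pt (g a.2))
  let _ := conjAct Y
  have hY : CG.J2.PG ≤ realized Y pt := cl_le _ fun a ha =>
    ⟨⟨_, Subgroup.subset_closure ⟨⟨a, List.mem_range.1 ha⟩, rfl⟩⟩, hg (List.mem_range.1 ha)⟩
  have h1 : twoJ2 ≤ Y := le_of_pt fun j => by
    obtain ⟨σ, hσ, e⟩ := transitive_of_chain CG.J2.tabOK CG.J2.chain rfl (g (a := 0) (by norm_num)) j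
    obtain ⟨y, hy⟩ := hY hσ
    rw [← e, ← hy]
    exact mul_mem (mul_mem y.2 (Subgroup.subset_closure ⟨0, rfl⟩)) (inv_mem y.2)
  have h2 : Y ≤ (inducing (X := (⊤ : Subgroup (Equiv.Perm icoLeech))) pt CG.J2.PG).map (Subgroup.subtype ⊤) := by
    rw [Subgroup.closure_le]
    rintro _ ⟨a, rfl⟩
    exact ⟨⟨_, trivial⟩, ⟨_, gen_mem_cl _ (List.mem_range.2 a.2), hg a.2⟩, rfl⟩
  refine exists_hom_of_closed (X := twoJ2) pt_inj (cl_le _ fun a ha =>
    ⟨⟨_, RR_mem (sv_min (g (List.mem_range.1 ha)).2)⟩, hg (List.mem_range.1 ha)⟩) fun x => ?_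
  obtain ⟨y, hy, e⟩ := h2 (h1 x.2)
  obtain ⟨σ, h3, h4⟩ := hy
  refine ⟨σ, h3, fun j => ?_⟩
  rw [← h4]
  change x.1 * pt j * x.1⁻¹ = y.1 * pt j * y.1⁻¹
  rw [← e]; rfl

theorem center_PG : Subgroup.center CG.J2.PG = ⊥ :=
  center_eq_bot_of_cent CG.J2.base CG.J2.centP [0, 1, 2, 3] (by decide +kernel)

theorem ker_le {f : twoJ2 →* CG.J2.PG} (h : ∀ (x : twoJ2) j, x.1 * pt j * x.1⁻¹ = pt ((f x).1 j)) :
    f.ker ≤ Subgroup.center twoJ2 := by
  intro x hx
  have : twoJ2 ≤ Subgroup.centralizer {x.1} := le_of_pt fun j => by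
    rw [Subgroup.mem_centralizer_singleton_iff]
    have := h x j
    rw [show f x = 1 from hx, mul_inv_eq_iff_eq_mul] at this
    exact this.symm
  exact Subgroup.mem_center_iff.2 fun y => Subtype.ext (Subgroup.mem_centralizer_singleton_iff.1 (this y.2))

theorem iso : Nonempty (Cfsg.Spor.J2 ≃* CG.J2.PG) := by
  obtain ⟨f, h1, h2⟩ := exists_hom
  exact quotient_center_equiv f h1 (ker_le h2) center_PG

end Cfsg.Agent.Id.J2
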