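import Cfsg.Agent.Lib.Id.J2D

set_option autoImplicit false
set_option maxRecDepth 100000
set_option Elab.async false

namespace Cfsg.Agent.Id.J2

open Cfsg.Agent.CG Z8

theorem hS : allLt tstS 315 = true := by decide +kernel
theorem hG0 : allLt (tstG 0) 315 = true := by decide +kernel
theorem hG1 : allLt (tstG 1) 315 = true := by decide +kernel
theorem hG2 : allLt (tstG 2) 315 = true := by decide +kernel
theorem hG3 : allLt (tstG 3) 315 = true := by decide +kernel

end Cfsg.Agent.Id.J2
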