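import Cfsg.Agent.Lib.Id.J3D
import Cfsg.Agent.Lib.Id.F4
import Cfsg.Agent.Lib.Grp.J3.Out
import Cfsg.Prelude.Def_Spor_J3

/-! Identification of the Janko group `J3` with its table permutation group. -/

set_option autoImplicit false
set_option maxRecDepth 100000

namespace Cfsg.Agent.Id.J3

open Cfsg.Agent.CG Cfsg.Spor

/-- The number of a coordinate. -/
def idx (z : F9) : ℕ := 3 * z.1.val + z.2.val

theorem idx_inj : Function.Injective idx := by decide
theorem idx_lt' : ∀ z, idx z < 9 := by decide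
theorem idx_surj : ∀ i < 9, ∃ z, idx z = i := by decide

variable {F : Type*} [Field F] [CharP F 2] {ω : F} (hω : ω ^ 2 + ω + 1 = 0)

/-- The coded matrices. -/
noncomputable def mc : MatCode F9 F :=
  code2 ω 2 9 idx (by norm_num) idx_inj idx_lt' idx_surj (fel4_inj hω) theta
    (theta4_sound hω idx_lt' (by decide +kernel)) tabs dflt invL 118 (by decide +kernel) hcols hinv

/-- The code of a matrix entry. -/
noncomputable def ent (a : ℕ) (w z : F9) : ℕ := ((nth tabs dflt a).getD (2 * idx z) 0 >>> (2 * idx w)) % 4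

theorem coe_gen (a : ℕ) (w z : F9) : ((mc hω).act.gen a : Matrix F9 F9 F) w z = fel ω 2 (ent a w z) :=
  (fel_mod ω 2 _).symm

include hω in
theorem omegaPow_eq (n : ZMod 3) : omegaPow F ω n = fel ω 2 (n.val + 1) := by
  unfold omegaPow
  have := n.val_lt
  generalize n.val = m at this
  interval_cases m
  · simp [fel4_1]
  · simp [fel4_2]
  · simp [fel4_3 hω]

theorem genA (Z : F9) : ((mc hω).act.gen (46 + idx Z) : Matrix F9 F9 F) = j3A F ω Z := by
  have : ∀ Z w z : F9, ent (46 + idx Z) w z = if w = z then (Z.1 * w.1 + Z.2 * w.2).val + 1 else 0 := by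
    decide +kernel
  ext w z
  rw [coe_gen, this, j3A, Matrix.diagonal_apply, omegaPow_eq hω]
  split_ifs <;> simp [fel4_0]

theorem genE (Z : F9) : ((mc hω).act.gen (55 + idx Z) : Matrix F9 F9 F) = j3E F ω Z := by
  have : ∀ Z w z : F9, ent (55 + idx Z) w z =
      if w = z then ((Z.1 - w.1) ^ 2 + (Z.2 - w.2) ^ 2).val + 1 else 0 := by
    decide +kernel
  ext w z
  rw [coe_gen, this, j3E, Matrix.diagonal_apply, omegaPow_eq hω]
  split_ifs <;> simp [fel4_0]

theorem genD' (a : ℕ) (Z : F9) (h : ∀ w z : F9, ent a w z = if w = z + Z then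
      (if z = 0 then 1 else if F9.div Z z = F9.I - F9.one then 2
        else if F9.div Z z = -F9.I - F9.one then 3 else 1) else 0) :
    ((mc hω).act.gen a : Matrix F9 F9 F) = j3D F ω Z := by
  ext w z
  rw [coe_gen, h, j3D, Matrix.of_apply, j3Lam]
  split_ifs <;> simp [fel4_0, fel4_1, fel4_2, fel4_3 hω]

theorem genB' (a : ℕ) (Z : F9) (h : ∀ w z : F9, ent a w z = if w = F9.mul Z z then 1 else 0) :
    ((mc hω).act.gen a : Matrix F9 F9 F) = j3B F Z := by
  ext w z
  rw [coe_gen, h, j3B, Matrix.of_apply]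
  split_ifs <;> simp [fel4_0, fel4_1]

theorem genC' (a : ℕ) (Z : F9) (h : ∀ w z : F9, ent a w z = if z = 0 then (if w = 0 then 1 else 0) else
      if w = -F9.div Z z ∨ w = F9.mul F9.I (F9.div Z z) ∨ w = -F9.mul F9.I (F9.div Z z) then 1 else 0) :
    ((mc hω).act.gen a : Matrix F9 F9 F) = j3C F Z := by
  ext w z
  rw [coe_gen, h, j3C, Matrix.of_apply]
  split_ifs <;> simp [fel4_0, fel4_1]

theorem genD (Z : F9) : ((mc hω).act.gen (64 + idx Z) : Matrix F9 F9 F) = j3D F ω Z :=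
  genD' hω _ Z (by revert Z; decide +kernel)

theorem genB (Z : F9) (hZ : Z ≠ 0) : ((mc hω).act.gen (72 + idx Z) : Matrix F9 F9 F) = j3B F Z :=
  genB' hω _ Z (by revert Z; decide +kernel)

theorem genC (Z : F9) (hZ : Z ≠ 0) : ((mc hω).act.gen (80 + idx Z) : Matrix F9 F9 F) = j3C F Z :=
  genC' hω _ Z (by revert Z; decide +kernel)

theorem gen45 : ((mc hω).act.gen 45 : Matrix F9 F9 F) = ω • (1 : Matrix F9 F9 F) := by
  have : ∀ w z : F9, ent 45 w z = if w = z then 2 else 0 := by decide +kernel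
  ext w z
  rw [coe_gen, this, Matrix.smul_apply, Matrix.one_apply]
  split_ifs <;> simp [fel4_0, fel4_2]

theorem memA (Z : F9) : (mc hω).act.gen (46 + idx Z) ∈ threeJ3 F ω :=
  Subgroup.subset_closure (Or.inl (Or.inl (Or.inl (Or.inl ⟨Z, (genA hω Z).symm⟩))))

theorem memE (Z : F9) : (mc hω).act.gen (55 + idx Z) ∈ threeJ3 F ω :=
  Subgroup.subset_closure (Or.inl (Or.inl (Or.inl (Or.inr ⟨Z, (genE hω Z).symm⟩))))

theorem mem45 : (mc hω).act.gen 45 ∈ threeJ3 F ω := by
  have e : eqW (app2T tabs dflt) (bas2 2 9) [45] [58, 52, 55, 55] = true := by decide +kernel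
  have := (mc hω).base.ev_eq e
  simp only [ev_cons, ev_nil, mul_one] at this
  rw [this]
  exact mul_mem (memE hω (1, 0)) (mul_mem (memA hω (2, 0)) (mul_mem (memE hω 0) (memE hω 0)))

theorem exists_hom [Finite F] : ∃ f : threeJ3 F ω →* CG.J3.PG, Function.Surjective f ∧
    f.ker = (Subgroup.zpowers ((mc hω).act.gen 45)).subgroupOf (threeJ3 F ω) ∧
    ∀ a ∈ CG.J3.tcS, ∀ h : (mc hω).act.gen a ∈ threeJ3 F ω, f ⟨(mc hω).act.gen a, h⟩ = CG.J3.act.gen a := by
  have hm : ∀ p ∈ wW, (mc hω).act.gen p.1 ∈ threeJ3 F ω := by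
    have : ∀ p ∈ wW, p.1 = 0 ∨ p.1 = 1 ∨ p.1 = 3 := by decide +kernel
    intro p hp
    rcases this p hp with h | h | h <;> rw [h]
    · exact Subgroup.subset_closure (Or.inr ⟨(1, 0), by decide, genC' hω _ _ (by decide +kernel)⟩)
    · exact Subgroup.subset_closure (Or.inl (Or.inl (Or.inr
        ⟨(1, 0), (genD' hω _ _ (by decide +kernel)).symm⟩)))
    · exact Subgroup.subset_closure (Or.inl (Or.inr ⟨(1, 1), by decide, genB' hω _ _ (by decide +kernel)⟩))
  have hx : ∀ a, 46 ≤ a → a < 89 → (mc hω).act.gen a ∈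
      cl (mc hω).act.gen CG.J3.tcS ⊔ Subgroup.zpowers ((mc hω).act.gen 45) := by
    intro a h1 h2
    have : allRange (fun a => memL a (wX.map Prod.fst)) 46 43 = true := by decide +kernel
    obtain ⟨p, hp, rfl⟩ := List.mem_map.1 ((memL_iff _ _).1 ((allRange_iff _ _ _).1 this a h1 h2))
    exact wordsC_mem (mc hω).base hX2 p hp
  refine exists_hom_of_coded CG.J3.base CG.J3.bounds CG.J3.rels CG.J3.clS CG.J3.card
    (by norm_num) (mc hω).base (s := 45) (c := 3) (mem_center_of_scalar (gen45 hω)) (by norm_num) hsc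
    (threeJ3 F ω) (mem45 hω) hR hT hm hW1 hW2 ?_
    (chainOK_of_chk (mc hω).act vc [] (by simp) (fun b hb => (blt_iff _ _).1 ((allL_iff _ _).1 hbases b hb))
      hhead hchk) hU2 hLU hprod
  rw [threeJ3, Subgroup.closure_le]
  have h0 : ∀ Z : F9, Z ≠ 0 → 0 < idx Z := by decide
  rintro g ((((⟨Z, h⟩ | ⟨Z, h⟩) | ⟨Z, h⟩) | ⟨Z, hZ, h⟩) | ⟨Z, hZ, h⟩) <;> have := idx_lt' Z
  · rw [Units.ext (h.symm.trans (genA hω Z).symm)]; exact hx _ (by omega) (by omega)
  · rw [Units.ext (h.symm.trans (genE hω Z).symm)]; exact hx _ (by omega) (by omega)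
  · rw [Units.ext (h.symm.trans (genD hω Z).symm)]; exact hx _ (by omega) (by omega)
  · have := h0 Z hZ
    rw [Units.ext (h.trans (genB hω Z hZ).symm)]; exact hx _ (by omega) (by omega)
  · have := h0 Z hZ
    rw [Units.ext (h.trans (genC hω Z hZ).symm)]; exact hx _ (by omega) (by omega)

theorem center_PG : Subgroup.center CG.J3.PG = ⊥ :=
  center_eq_bot_of_cent CG.J3.base CG.J3.centP [0, 1, 3] (by decide +kernel)

theorem iso {F : Type*} [Field F] [Fintype F] (hF : Fintype.card F = 4) (ω : F) (hω : ω ^ 2 + ω + 1 = 0) :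
    Nonempty (Cfsg.Spor.J3 F ω ≃* CG.J3.PG) := by
  have : CharP F 2 := charP_two_of_card (k := 2) hF
  obtain ⟨f, h1, h2, -⟩ := exists_hom hω
  refine quotient_center_equiv f h1 (fun z hz => ?_) center_PG
  rw [h2, Subgroup.mem_subgroupOf] at hz
  have := (Subgroup.zpowers_le.2 (mem_center_of_scalar (gen45 hω))) hz
  exact Subgroup.mem_center_iff.2 fun g => Subtype.ext (Subgroup.mem_center_iff.1 this g)

end Cfsg.Agent.Id.J3
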