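import Cfsg.Agent.Lib.Id.Mathieu
import Cfsg.Prelude.Def_Spor_Conway

/-! The Leech lattice: membership, generators, and elementary properties of its automorphisms. -/

set_option autoImplicit false
set_option maxRecDepth 100000

namespace Cfsg.Agent.Id

open Cfsg.Agent.CG Cfsg.Spor

/-- Twice the integral lift of a binary word. -/
def lift2 (w : GolayPt → ZMod 2) : GolayPt → ℤ := fun p => 2 * ((w p).val : ℤ)

theorem lift2_cases (w : GolayPt → ZMod 2) (p : GolayPt) :
    (w p = 0 ∧ lift2 w p = 0) ∨ (w p = 1 ∧ lift2 w p = 2) := by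
  unfold lift2
  generalize w p = c
  revert c; decide

theorem lift2_add (v w : GolayPt → ZMod 2) (p : GolayPt) :
    lift2 (v + w) p ≡ lift2 v p + lift2 w p [ZMOD 4] := by
  unfold lift2
  rw [Pi.add_apply]
  generalize w p = c
  generalize v p = d
  revert c d; decide

theorem lift2_wd (c : ℕ) (p : GolayPt) : lift2 (wd c) p = if c.testBit (idx p) then 2 else 0 := by
  unfold lift2 wd
  split_ifs <;> rfl

theorem sum_lift2_wd (c : ℕ) : ∑ p, lift2 (wd c) p = 2 * pop c := by
  rw [← card_st, st, Finset.card_filter]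
  simp only [lift2_wd]
  push_cast
  rw [Finset.mul_sum]
  exact Finset.sum_congr rfl fun p _ => by split_ifs <;> rfl

theorem enc_four : allLt (fun a => Nat.beq (Nat.mod (pop (enc a)) 4) 0) 4096 = true := by
  decide +kernel

theorem sum_lift2 {w : GolayPt → ZMod 2} (hw : w ∈ golayCode) : ∑ p, lift2 w p ≡ 0 [ZMOD 8] := by
  obtain ⟨a, ha, rfl⟩ := exists_enc hw
  have h : pop (enc a) % 4 = 0 := (beq_iff _ _).1 ((allLt_iff _ _).1 enc_four a ha)
  rw [sum_lift2_wd, Int.ModEq]
  omega

/-- The lattice described by congruences. -/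
def leechC : AddSubgroup (GolayPt → ℤ) where
  carrier := {x | ∃ m : ℤ, ∃ w ∈ golayCode, (∀ p, x p ≡ m + lift2 w p [ZMOD 4]) ∧
    ∑ p, x p ≡ 4 * m [ZMOD 8]}
  zero_mem' := ⟨0, 0, zero_mem _, fun p => by simp [lift2], by simp⟩
  add_mem' := by
    rintro x y ⟨m, v, hv, h1, h2⟩ ⟨n, w, hw, h3, h4⟩
    refine ⟨m + n, v + w, add_mem hv hw, fun p => ?_, ?_⟩
    · have := h1 p; have := h3 p; have := lift2_add v w p
      simp only [Pi.add_apply, Int.ModEq] at *
      omega
    · simp only [Pi.add_apply, Finset.sum_add_distrib, Int.ModEq] at *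
      omega
  neg_mem' := by
    rintro x ⟨m, v, hv, h1, h2⟩
    refine ⟨-m, v, hv, fun p => ?_, ?_⟩
    · have := h1 p; have := lift2_cases v p
      simp only [Pi.neg_apply, Int.ModEq] at *
      omega
    · simp only [Pi.neg_apply, Finset.sum_neg_distrib, Int.ModEq] at *
      omega

theorem leechLattice_eq : leechLattice = leechC := by
  apply le_antisymm
  · rw [leechLattice, AddSubgroup.closure_le]
    rintro x ⟨m, h1, h2, h3⟩
    obtain ⟨w, hw, e⟩ := h3 (m + 2)
    refine ⟨m, w, hw, fun p => ?_, h2⟩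
    have h4 := Finset.ext_iff.1 e p
    rw [mem_support, Finset.mem_filter] at h4
    have h5 := h1 p
    rcases lift2_cases w p with ⟨h6, h7⟩ | ⟨h6, h7⟩
    · have h8 : ¬ x p ≡ m + 2 [ZMOD 4] := fun h =>
        absurd (h6.symm.trans (h4.2 ⟨Finset.mem_univ _, h⟩)) (by decide)
      simp only [Int.ModEq] at *
      omega
    · rw [h7]; exact (h4.1 h6).2
  · rintro x ⟨m, w, hw, h1, h2⟩
    refine AddSubgroup.subset_closure ⟨m, fun p => ?_, h2, fun k => ?_⟩
    · have := h1 p; have := lift2_cases w p
      simp only [Int.ModEq] at *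
      omega
    · have key : ∀ v ∈ golayCode, (∀ p, v p = 1 ↔ x p ≡ k [ZMOD 4]) →
          (Finset.univ.filter fun i => x i ≡ k [ZMOD 4]) ∈
            supports (golayCode : Set (GolayPt → ZMod 2)) := fun v hv h =>
        ⟨v, hv, by ext p; rw [mem_support, h]; simp⟩
      by_cases hk : k ≡ m + 2 [ZMOD 4]
      · refine key w hw fun p => ?_
        have := h1 p
        rcases lift2_cases w p with ⟨h6, h7⟩ | ⟨h6, h7⟩ <;> rw [h6] <;>
          simp only [Int.ModEq, zero_ne_one, false_iff, true_iff] at * <;> omega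
      by_cases hk' : k ≡ m [ZMOD 4]
      · refine key (w + 1) (add_mem hw (Submodule.subset_span (Or.inr rfl))) fun p => ?_
        have := h1 p
        have e1 : (0 : ZMod 2) + 1 = 1 ↔ True := by decide
        have e2 : (1 : ZMod 2) + 1 = 1 ↔ False := by decide
        rcases lift2_cases w p with ⟨h6, h7⟩ | ⟨h6, h7⟩ <;> rw [Pi.add_apply, h6, Pi.one_apply] <;>
          simp only [Int.ModEq, e1, e2, false_iff, true_iff] at * <;> omega
      · refine key 0 (zero_mem _) fun p => ?_
        have := h1 p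
        have := lift2_cases w p
        simp only [Int.ModEq, Pi.zero_apply, zero_ne_one, false_iff] at *
        omega

theorem mem_leech {x : GolayPt → ℤ} {m : ℤ} {w : GolayPt → ZMod 2} (hw : w ∈ golayCode)
    (h1 : ∀ p, x p ≡ m + lift2 w p [ZMOD 4]) (h2 : ∑ p, x p ≡ 4 * m [ZMOD 8]) :
    x ∈ leechLattice := leechLattice_eq ▸ ⟨m, w, hw, h1, h2⟩

theorem exists_of_mem_leech {x : GolayPt → ℤ} (hx : x ∈ leechLattice) :
    ∃ m : ℤ, (m = 0 ∨ m = 1) ∧ ∃ w ∈ golayCode, (∀ p, x p ≡ m + lift2 w p [ZMOD 4]) ∧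
      ∑ p, x p ≡ 4 * m [ZMOD 8] := by
  rw [leechLattice_eq] at hx
  obtain ⟨m, w, hw, h1, h2⟩ := hx
  by_cases h : m % 4 < 2
  · refine ⟨m % 4, by omega, w, hw, fun p => ?_, ?_⟩
    · have := h1 p
      simp only [Int.ModEq] at *
      omega
    · simp only [Int.ModEq] at *
      omega
  · refine ⟨m % 4 - 2, by omega, w + 1, add_mem hw (Submodule.subset_span (Or.inr rfl)),
      fun p => ?_, ?_⟩
    · have := h1 p
      have := lift2_add w 1 p
      have : lift2 1 p = 2 := rfl
      simp only [Int.ModEq] at *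
      omega
    · simp only [Int.ModEq] at *
      omega

theorem lift2_mem {w : GolayPt → ZMod 2} (hw : w ∈ golayCode) : lift2 w ∈ leechLattice :=
  mem_leech (m := 0) hw (fun p => by rw [zero_add]) (by simpa using sum_lift2 hw)

/-- The vector `4 e_∞ + 4 e_p`. -/
def vecF (p : GolayPt) : GolayPt → ℤ := fun q => (if q = none then 4 else 0) + if q = p then 4 else 0

/-- The vector `(-3, 1, …, 1)`. -/
def vecW : GolayPt → ℤ := fun q => if q = none then -3 else 1

theorem vecF_mem (p : GolayPt) : vecF p ∈ leechLattice :=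
  mem_leech (m := 0) (zero_mem _) (by revert p; decide +kernel) (by revert p; decide +kernel)

theorem leech_le {S : AddSubgroup (GolayPt → ℤ)} (h0 : vecW ∈ S) (h1 : ∀ r ∈ rows, lift2 (wd r) ∈ S)
    (h2 : ∀ p, vecF p ∈ S) : leechLattice ≤ S := by
  have k1 : ∀ x : GolayPt → ℤ, (∀ p, x p ≡ 0 [ZMOD 4]) → ∑ p, x p ≡ 0 [ZMOD 8] → x ∈ S := by
    intro x hx hs
    choose y hy using fun p => (Int.modEq_zero_iff_dvd.1 (hx p))
    obtain ⟨k, hk⟩ := Int.modEq_zero_iff_dvd.1 hs
    have hk' : ∑ p, y p = 2 * k := by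
      simp only [hy, ← Finset.mul_sum] at hk
      omega
    have e : x = ∑ p, y p • vecF p - k • vecF none := by
      funext q
      simp only [Pi.sub_apply, Finset.sum_apply, Pi.smul_apply, vecF, smul_eq_mul, mul_add,
        Finset.sum_add_distrib]
      rw [← Finset.sum_mul, hk', hy q]
      simp only [mul_ite, mul_zero, Finset.sum_ite_eq, Finset.mem_univ, if_true]
      split_ifs <;> ring
    rw [e]
    exact sub_mem (sum_mem fun p _ => zsmul_mem (h2 p) _) (zsmul_mem (h2 _) _)
  let T : Submodule (ZMod 2) (GolayPt → ZMod 2) :=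
    { carrier := {w | w ∈ golayCode ∧ lift2 w ∈ S}
      zero_mem' := ⟨zero_mem _, by
        rw [show lift2 0 = 0 from funext fun p => by simp [lift2]]; exact zero_mem _⟩
      add_mem' := fun {v w} hv hw => ⟨add_mem hv.1 hw.1, by
        have := k1 (lift2 (v + w) - (lift2 v + lift2 w)) (fun p => by
          have := lift2_add v w p
          simp only [Pi.sub_apply, Pi.add_apply, Int.ModEq] at *
          omega) (by
          have := sum_lift2 hv.1; have := sum_lift2 hw.1; have := sum_lift2 (add_mem hv.1 hw.1)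
          simp only [Pi.sub_apply, Pi.add_apply, Finset.sum_sub_distrib, Finset.sum_add_distrib,
            Int.ModEq] at *
          omega)
        simpa using add_mem this (add_mem hv.2 hw.2)⟩
      smul_mem' := fun c w hw => by
        have : c = 0 ∨ c = 1 := by revert c; decide
        rcases this with rfl | rfl
        · rw [zero_smul]
          exact ⟨zero_mem _, by
            rw [show lift2 0 = 0 from funext fun p => by simp [lift2]]; exact zero_mem _⟩
        · rwa [one_smul] }
  intro x hx
  obtain ⟨m, -, w, hw, h3, h4⟩ := exists_of_mem_leech hx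
  have h5 : lift2 w ∈ S := by
    obtain ⟨a, -, rfl⟩ := exists_enc hw
    exact (wd_sel_mem (S := T) (fun r hr => ⟨wd_rows_mem r hr, h1 r hr⟩) a).2
  have h6 : ∑ p, vecW p = 20 := by decide +kernel
  have := k1 (x - (m • vecW + lift2 w)) (fun p => by
    have := h3 p
    simp only [Pi.sub_apply, Pi.add_apply, Pi.smul_apply, smul_eq_mul, vecW, Int.ModEq] at *
    split_ifs <;> omega) (by
    have := sum_lift2 hw
    simp only [Pi.sub_apply, Pi.add_apply, Pi.smul_apply, smul_eq_mul, Finset.sum_sub_distrib,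
      Finset.sum_add_distrib, ← Finset.mul_sum, h6, Int.ModEq] at *
    omega)
  simpa using add_mem this (add_mem (zsmul_mem h0 m) h5)

/-! Automorphisms. -/

theorem sqNorm_eq_dot (x : GolayPt → ℤ) : sqNorm x = dotInt x x := by
  simp only [sqNorm, dotInt, sq]

theorem sqNorm_add (x y : GolayPt → ℤ) : sqNorm (x + y) = sqNorm x + 2 * dotInt x y + sqNorm y := by
  simp only [sqNorm, dotInt, Pi.add_apply, Finset.mul_sum, ← Finset.sum_add_distrib]
  exact Finset.sum_congr rfl fun p _ => by ring

theorem sqNorm_sub (x y : GolayPt → ℤ) : sqNorm (x - y) = sqNorm x - 2 * dotInt x y + sqNorm y := by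
  simp only [sqNorm, dotInt, Pi.sub_apply, Finset.mul_sum, ← Finset.sum_add_distrib,
    ← Finset.sum_sub_distrib]
  exact Finset.sum_congr rfl fun p _ => by ring

theorem dot_sub (x y z : GolayPt → ℤ) : dotInt x (y - z) = dotInt x y - dotInt x z := by
  simp only [dotInt, Pi.sub_apply, mul_sub, Finset.sum_sub_distrib]

theorem sq_le_sqNorm (x : GolayPt → ℤ) (p : GolayPt) : x p ^ 2 ≤ sqNorm x :=
  Finset.single_le_sum (f := fun q => x q ^ 2) (fun _ _ => sq_nonneg _) (Finset.mem_univ p)

theorem abs_le_five {x : GolayPt → ℤ} (h : sqNorm x = 32) (p : GolayPt) : -5 ≤ x p ∧ x p ≤ 5 := by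
  have := sq_le_sqNorm x p
  constructor <;> nlinarith

section
variable {g : Equiv.Perm leechLattice} (hg : g ∈ Co0)
include hg

/-- An automorphism as an additive map. -/
def addHom : leechLattice →+ leechLattice := AddMonoidHom.mk' g hg.1

theorem co_sub (v w : leechLattice) : g (v - w) = g v - g w := map_sub (addHom hg) v w

theorem co_neg (v : leechLattice) : g (-v) = -g v := map_neg (addHom hg) v

theorem co_dot (v w : leechLattice) : dotInt (g v).1 (g w).1 = dotInt v.1 w.1 := by
  have h := hg.2 (v + w)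
  rw [hg.1, AddSubgroup.coe_add, AddSubgroup.coe_add, sqNorm_add, sqNorm_add, hg.2, hg.2] at h
  omega

theorem co_dot_fix {w : leechLattice} (h : g w = w) (v : leechLattice) :
    dotInt (g v).1 w.1 = dotInt v.1 w.1 := by
  rw [← co_dot hg v w, h]

end

theorem dot_U (x : GolayPt → ℤ) : dotInt x vecU = 4 * (x none + x (some 0)) := by
  rw [dotInt, Finset.sum_congr rfl (g := fun p => (if p = none then 4 * x p else 0) +
    if p = some 0 then 4 * x p else 0) fun p _ => by
      unfold vecU; by_cases h1 : p = none <;> by_cases h2 : p = some 0 <;> simp_all [mul_comm]]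
  simp [Finset.sum_add_distrib, mul_add]

theorem dot_U' (x : GolayPt → ℤ) : dotInt x vecU' = 4 * (x none - x (some 0)) := by
  rw [dotInt, Finset.sum_congr rfl (g := fun p => (if p = none then 4 * x p else 0) -
    if p = some 0 then 4 * x p else 0) fun p _ => by
      unfold vecU'; by_cases h1 : p = none <;> by_cases h2 : p = some 0 <;> simp_all [mul_comm]]
  simp [Finset.sum_sub_distrib, mul_sub]

theorem dot_V (x : GolayPt → ℤ) : dotInt x vecV = -(4 * x none) - ∑ p, x p := by
  rw [dotInt, Finset.sum_congr rfl (g := fun p => (if p = none then -(4 * x p) else 0) - x p)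
    fun p _ => by unfold vecV; split_ifs <;> ring]
  simp [Finset.sum_sub_distrib]

theorem dot_F (x : GolayPt → ℤ) (q : GolayPt) : dotInt x (vecF q) = 4 * (x none + x q) := by
  simp [dotInt, vecF, mul_add, Finset.sum_add_distrib, mul_comm]

end Cfsg.Agent.Id
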