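import Cfsg.Agent.Lib.Id.Leech

/-! Counting minimal vectors of the Leech lattice by generating functions. -/

set_option autoImplicit false
set_option maxRecDepth 100000

namespace Cfsg.Agent.Id

open Cfsg.Agent.CG Cfsg.Spor Finset

theorem card_filter_eq_digit {ι : Type*} (s : Finset ι) (e : ι → ℕ) {B : ℕ} (k : ℕ) (h : s.card < B) :
    (s.filter fun i => e i = k).card = (∑ i ∈ s, B ^ e i) / B ^ k % B := by
  have hB : 0 < B := by omega
  have e1 : ∑ i ∈ s, B ^ e i = ∑ i ∈ s with e i < k, B ^ e i + B ^ k *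
      ((s.filter fun i => e i = k).card + B * ∑ i ∈ s with k < e i, B ^ (e i - (k + 1))) := by
    rw [card_filter, sum_filter, sum_filter, mul_sum, ← sum_add_distrib, mul_sum, ← sum_add_distrib]
    refine sum_congr rfl fun i _ => ?_
    rcases lt_trichotomy (e i) k with h1 | h1 | h1
    · simp [h1, h1.ne, h1.not_gt]
    · simp [h1]
    · simp only [h1, h1.ne', h1.not_gt, if_true, if_false, zero_add]
      rw [← mul_assoc, ← pow_succ, ← pow_add]
      congr 1; omega
  have e2 : ∑ i ∈ s with e i < k, B ^ e i < B ^ k := by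
    rcases k with _ | k
    · simp
    · calc ∑ i ∈ s with e i < k + 1, B ^ e i ≤ (s.filter fun i => e i < k + 1).card • B ^ k :=
            sum_le_card_nsmul _ _ _ fun i hi =>
              Nat.pow_le_pow_right hB (Nat.lt_succ_iff.1 (mem_filter.1 hi).2)
        _ < B * B ^ k := Nat.mul_lt_mul_of_pos_right ((card_filter_le _ _).trans_lt h) (pow_pos hB _)
        _ = B ^ (k + 1) := by ring
  rw [e1, Nat.add_mul_div_left _ _ (pow_pos hB _), Nat.div_eq_of_lt e2, zero_add,
    Nat.add_mul_mod_self_left, Nat.mod_eq_of_lt ((card_filter_le _ _).trans_lt h)]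

/-- A sum computed by a loop. -/
noncomputable def sumLt (f : ℕ → ℕ) (n : ℕ) : ℕ :=
  Nat.rec (motive := fun _ => ℕ → ℕ) (fun acc => acc)
    (fun i ih acc => force (Nat.add acc (f i)) ih) n 0

theorem sumLt_eq (f : ℕ → ℕ) (n : ℕ) : sumLt f n = ∑ i ∈ range n, f i := by
  have : ∀ n acc, Nat.rec (motive := fun _ => ℕ → ℕ) (fun acc => acc)
      (fun i ih acc => force (Nat.add acc (f i)) ih) n acc = acc + ∑ i ∈ range n, f i := by
    intro n
    induction n with
    | zero => intro acc; rfl
    | succ n ih =>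
      intro acc
      rw [sum_range_succ, add_comm _ (f n), ← add_assoc, ← ih]
      exact force_eq _ _
  rw [sumLt, this, zero_add]

/-- `y` if `b` holds, else zero. -/
noncomputable abbrev gate (b : Bool) (y : ℕ) : ℕ := Bool.rec (motive := fun _ => ℕ) 0 y b

theorem gate_eq (b : Bool) (y : ℕ) : gate b y = if b = true then y else 0 := by cases b <;> rfl

/-- The shifted coordinate `y` is admissible for the residue `r`. -/
noncomputable def cand (r y : ℕ) : Bool := band (Nat.ble 3 y) (Nat.beq (Nat.mod y 4) r)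

/-- The exponent of a shifted coordinate. -/
def ex (y : ℕ) : ℕ := Nat.add (Nat.mul 512 (Nat.sub (Nat.add (Nat.mul y y) 64) (Nat.mul 16 y))) y

/-- The generating function of one coordinate. -/
noncomputable def gf (r : ℕ) : ℕ := sumLt (fun y => gate (cand r y) (Nat.pow (Nat.pow 2 40) (ex y))) 14

/-- The class of a code word. -/
noncomputable def cls (c : ℕ) : ℕ :=
  Nat.add (pop (Nat.land c 0x7ffffe))
    (Nat.add (Nat.mul 32 (Nat.land c 1)) (Nat.mul 64 (Nat.land (Nat.shiftRight c 23) 1)))

/-- The count for one parity and one class. -/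
noncomputable def cntC (q : ℕ → ℕ → ℕ → Bool) (m cl : ℕ) : ℕ :=
  force (Nat.mul (Nat.pow (gf (Nat.add m 2)) (Nat.mod cl 32)) (Nat.pow (gf m) (Nat.sub 22 (Nat.mod cl 32))))
    fun M => sumLt (fun u => gate (cand (Nat.add m (Nat.mul 2 (Nat.div cl 64))) u)
      (sumLt (fun v => gate (cand (Nat.add m (Nat.mul 2 (Nat.mod (Nat.div cl 32) 2))) v)
        (sumLt (fun s => gate (band (Nat.beq (Nat.mod s 8) (Nat.mul 4 m)) (q u v s))
          (Nat.mod (Nat.shiftRight M (Nat.mul 40 (Nat.sub (Nat.add 16384 s) (Nat.add (ex u) (ex v)))))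
            (Nat.pow 2 40))) 320)) 14)) 14

theorem natMod_eq (a b : ℕ) : Nat.mod a b = a % b := rfl

theorem natDiv_eq (a b : ℕ) : Nat.div a b = a / b := rfl

theorem cand_iff {r y : ℕ} : cand r y = true ↔ 3 ≤ y ∧ y % 4 = r := by
  rw [cand, band_eq, ble_iff, beq_iff, natMod_eq]

theorem gf_eq (r : ℕ) : gf r = ∑ y ∈ range 14 with cand r y = true, (2 ^ 40) ^ ex y := by
  simp only [gf, sumLt_eq, gate_eq, sum_filter, Nat.pow_eq]

theorem cntC_eq (q : ℕ → ℕ → ℕ → Bool) (m cl : ℕ) : cntC q m cl =
    ∑ u ∈ range 14, if cand (m + 2 * (cl / 64)) u = true then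
      ∑ v ∈ range 14, if cand (m + 2 * (cl / 32 % 2)) v = true then
        ∑ s ∈ range 320, if s % 8 = 4 * m ∧ q u v s = true then
          (gf (m + 2) ^ (cl % 32) * gf m ^ (22 - cl % 32)) / (2 ^ 40) ^ (16384 + s - (ex u + ex v)) %
            2 ^ 40 else 0 else 0 else 0 := by
  simp only [cntC, force_eq, sumLt_eq, gate_eq, Nat.pow_eq, Nat.add_eq, Nat.mul_eq, Nat.sub_eq,
    natMod_eq, natDiv_eq, Nat.shiftRight_eq, Nat.shiftRight_eq_div_pow, pow_mul, band_eq, beq_iff]

/-- The multiplicities of the classes. -/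
def mults : ℕ :=
  0x10000000000000000000000000000014a0000000000000268000000000000004d000000000000000000000000000000000000000000000000000000000000000000000000000000000000000000b000000000000002a000000000000000b00000000000000000000000000000000000000000000000000000000000000000000000000000000000000000000000b000000000000002a000000000000000b00000000000000000000000000000000000000000000000000000000000000000000000000000000000000000004d0000000000000268000000000000014a00000000000000000000000000000001

theorem mults_eq : sumLt (fun a => Nat.pow 65536 (cls (enc a))) 4096 = mults := by decide +kernel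

/-- The total count. -/
noncomputable def tot (q : ℕ → ℕ → ℕ → Bool) : ℕ :=
  sumLt (fun m => sumLt (fun cl => force (Nat.mod (Nat.div mults (Nat.pow 65536 cl)) 65536) fun d =>
    gate (Nat.ble 1 d) (Nat.mul d (cntC q m cl))) 128) 2

theorem tot_eq (q : ℕ → ℕ → ℕ → Bool) :
    tot q = ∑ m ∈ range 2, ∑ cl ∈ range 128, mults / 65536 ^ cl % 65536 * cntC q m cl := by
  simp only [tot, force_eq, sumLt_eq, gate_eq, Nat.pow_eq, Nat.mul_eq, natMod_eq, natDiv_eq, ble_iff]
  refine sum_congr rfl fun m _ => sum_congr rfl fun cl _ => ?_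
  split_ifs with h1
  · rfl
  · rw [Nat.lt_one_iff.1 (not_le.1 h1), zero_mul]

theorem land_one (c : ℕ) : Nat.land c 1 = if c.testBit 0 then 1 else 0 := land_shift_one c 0

theorem cls_spec (c : ℕ) : cls c % 32 = pop (c &&& 0x7ffffe) ∧ cls c % 32 ≤ 22 ∧
    cls c / 32 % 2 = (if c.testBit 0 then 1 else 0) ∧ cls c / 64 = (if c.testBit 23 then 1 else 0) ∧
    cls c < 128 := by
  have h : pop (c &&& 0x7ffffe) ≤ 22 := by
    rw [← card_st, ← show pop 0x7ffffe = 22 by decide +kernel, ← card_st]
    exact card_le_card fun p hp => by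
      rw [mem_st, Nat.testBit_and, Bool.and_eq_true] at hp
      exact mem_st.2 hp.2
  have e : cls c = pop (c &&& 0x7ffffe) + (32 * (if c.testBit 0 then 1 else 0) +
      64 * if c.testBit 23 then 1 else 0) := by
    rw [← land_one, ← land_shift_one]; rfl
  rw [e]
  split_ifs <;> omega

theorem sum_cls (F : ℕ → ℕ) : ∑ a ∈ range 4096, F (cls (enc a)) =
    ∑ cl ∈ range 128, mults / 65536 ^ cl % 65536 * F cl := by
  rw [← sum_fiberwise_of_maps_to (t := range 128) (g := fun a => cls (enc a))
    fun a _ => mem_range.2 (cls_spec _).2.2.2.2]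
  refine sum_congr rfl fun cl _ => ?_
  rw [← mults_eq, sumLt_eq, sum_congr rfl (g := fun _ => F cl) fun a ha => by rw [(mem_filter.1 ha).2],
    sum_const, card_filter_eq_digit _ _ cl (B := 65536) (by simp)]
  rfl

/-- The residue prescribed at a point. -/
def res (m c : ℕ) (p : GolayPt) : ℕ := m + 2 * if c.testBit (idx p) then 1 else 0

open Classical in
/-- The admissible values at a point. -/
noncomputable def tS (m c u v : ℕ) (p : GolayPt) : Finset ℕ :=
  if (0x7ffffe : ℕ).testBit (idx p) then (range 14).filter fun y => cand (res m c p) y = true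
  else if p = none then {u} else {v}

/-- The exponent at a point. -/
def eS (p : GolayPt) (y : ℕ) : ℕ := if (0x7ffffe : ℕ).testBit (idx p) then ex y else 0

theorem card_sol (m c u v k : ℕ) :
    ((Fintype.piFinset (tS m c u v)).filter fun y => ∑ p, eS p (y p) = k).card =
      (gf (m + 2) ^ (cls c % 32) * gf m ^ (22 - cls c % 32)) / (2 ^ 40) ^ k % 2 ^ 40 := by
  rw [card_filter_eq_digit _ _ k (B := 2 ^ 40)]
  · simp only [← prod_pow_eq_pow_sum]
    rw [← prod_univ_sum (tS m c u v) fun p y => (2 ^ 40) ^ eS p y]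
    refine congrArg (fun z => z / (2 ^ 40) ^ k % 2 ^ 40) ?_
    have e : ∀ p, ∑ y ∈ tS m c u v p, (2 ^ 40) ^ eS p y = if (0x7ffffe : ℕ).testBit (idx p) then
        (if c.testBit (idx p) then gf (m + 2) else gf m) else 1 := by
      intro p
      unfold tS eS res
      split_ifs <;> simp only [sum_singleton, pow_zero, gf_eq, mul_one, mul_zero, add_zero]
    have e2 : (st 0x7ffffe).filter (fun p => c.testBit (idx p)) = st (c &&& 0x7ffffe) := by
      ext p; simp [and_comm]
    have e3 := card_filter_add_card_filter_not (s := st 0x7ffffe) (fun p => c.testBit (idx p))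
    rw [e2, card_st, card_st, show pop 0x7ffffe = 22 by decide +kernel] at e3
    rw [prod_congr rfl fun p _ => e p, ← prod_filter, prod_ite, prod_const, prod_const, ← st, e2,
      card_st, (cls_spec c).1, ← e3, Nat.add_sub_cancel_left]
  · rw [Fintype.card_piFinset]
    refine (prod_le_pow_card _ _ 3 fun p _ => ?_).trans_lt (by decide +kernel)
    unfold tS
    split_ifs
    · generalize res m c p = r
      refine (card_le_card (t := {if r = 3 then 3 else r + 4, if r = 3 then 7 else r + 8,
        if r = 3 then 11 else r + 12}) fun y hy => ?_).trans card_le_three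
      rw [mem_filter, cand_iff, mem_range] at hy
      simp only [mem_insert, mem_singleton]
      split_ifs <;> omega
    · simp
    · simp

theorem ex_eq {y : ℕ} {x : ℤ} (h : (y : ℤ) = x + 8) : (ex y : ℤ) = 512 * x ^ 2 + x + 8 := by
  have e : ex y = 512 * (y * y + 64 - 16 * y) + y := rfl
  have : 16 * y ≤ y * y + 64 := by nlinarith [sq_nonneg ((y : ℤ) - 8)]
  rw [e]
  push_cast [this]
  rw [h]; ring

theorem testBit_rest : ∀ p, (0x7ffffe : ℕ).testBit (idx p) = true ↔ ¬ p = none ∧ ¬ p = some 0 := by
  decide +kernel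

theorem sum_ex (y : GolayPt → ℕ) :
    ∑ p, ex (y p) = ∑ p, eS p (y p) + (ex (y none) + ex (y (some 0))) := by
  have : ∀ p, ex (y p) = eS p (y p) + ((if p = none then ex (y p) else 0) +
      if p = some 0 then ex (y p) else 0) := fun p => by
    simp only [eS, testBit_rest]
    by_cases e1 : p = none <;> by_cases e2 : p = some 0 <;> simp_all
  rw [sum_congr rfl fun p _ => this p]
  simp only [sum_add_distrib, sum_ite_eq', mem_univ, if_true]

theorem ncard_le_tot (q : ℕ → ℕ → ℕ → Bool) {N : ℕ} (h : Nat.ble (tot q) N = true)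
    {S : Set leechLattice} (hS : ∀ x ∈ S, sqNorm x.1 = 32 ∧ ∀ u v s : ℕ, (u : ℤ) = x.1 none + 8 →
      (v : ℤ) = x.1 (some 0) + 8 → (s : ℤ) = ∑ p, x.1 p + 192 → q u v s = true) :
    S.Finite ∧ S.ncard ≤ N := by
  classical
  let T3 := fun m c u v s => if s % 8 = 4 * m ∧ q u v s = true then
    (Fintype.piFinset (tS m c u v)).filter fun y => ∑ p, eS p (y p) = 16384 + s - (ex u + ex v) else ∅
  let T2 := fun m c u v => if cand (res m c (some 0)) v = true then (range 320).biUnion (T3 m c u v) else ∅
  let T1 := fun m c u => if cand (res m c none) u = true then (range 14).biUnion (T2 m c u) else ∅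
  let T := (range 2).biUnion fun m => (range 4096).biUnion fun a => (range 14).biUnion (T1 m (enc a))
  have hT : T.card ≤ tot q := by
    rw [tot_eq]
    refine card_biUnion_le.trans (sum_le_sum fun m _ => card_biUnion_le.trans ?_)
    rw [← sum_cls]
    refine sum_le_sum fun a _ => ?_
    generalize enc a = c
    have h3 : m + 2 * (cls c / 32 % 2) = res m c (some 0) := by rw [(cls_spec c).2.2.1]; rfl
    have h4 : m + 2 * (cls c / 64) = res m c none := by rw [(cls_spec c).2.2.2.1]; rfl
    rw [cntC_eq, h3, h4]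
    refine card_biUnion_le.trans (sum_le_sum fun u _ => ?_)
    simp only [T1]
    split_ifs
    swap; · simp
    refine card_biUnion_le.trans (sum_le_sum fun v _ => ?_)
    simp only [T2]
    split_ifs
    swap; · simp
    refine card_biUnion_le.trans (sum_le_sum fun s _ => ?_)
    simp only [T3]
    split_ifs
    swap; · simp
    exact (card_sol ..).le
  let φ : leechLattice → GolayPt → ℕ := fun x p => (x.1 p + 8).toNat
  have hφ : ∀ x ∈ S, ∀ p, (φ x p : ℤ) = x.1 p + 8 := fun x hx p =>
    Int.toNat_of_nonneg (by have := abs_le_five (hS x hx).1 p; omega)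
  have h1 : Set.InjOn φ S := fun x hx y hy e => Subtype.ext (funext fun p => by
    have := hφ x hx p; have := hφ y hy p; have := congrFun e p; omega)
  have h2 : ∀ x ∈ S, φ x ∈ (T : Set (GolayPt → ℕ)) := by
    intro x hx
    obtain ⟨m, hm, w, hw, h3, h4⟩ := exists_of_mem_leech x.2
    obtain ⟨a, ha, rfl⟩ := exists_enc hw
    obtain ⟨m, rfl⟩ : ∃ n : ℕ, m = n := ⟨m.toNat, by omega⟩
    have h5 : ∀ p, φ x p < 14 ∧ cand (res m (enc a) p) (φ x p) = true := fun p => by
      have := abs_le_five (hS x hx).1 p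
      have := hφ x hx p
      have h6 := h3 p
      rw [cand_iff, res]
      rw [lift2_wd, Int.ModEq] at h6
      split_ifs at h6 ⊢ <;> omega
    have h6 : ((∑ p, φ x p : ℕ) : ℤ) = ∑ p, x.1 p + 192 := by
      push_cast
      rw [sum_congr rfl fun p _ => hφ x hx p, sum_add_distrib]
      rfl
    have h7 : ∑ p, φ x p ≤ 24 * 13 := sum_le_card_nsmul _ _ 13 fun p _ => Nat.lt_succ_iff.1 (h5 p).1
    have h8 : ∑ p, ex (φ x p) = 16384 + ∑ p, φ x p := by
      have := (hS x hx).1
      zify
      rw [sum_congr rfl fun p _ => ex_eq (hφ x hx p), sum_congr rfl fun p _ => hφ x hx p]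
      simp only [add_assoc, sum_add_distrib, ← mul_sum]
      rw [← sqNorm, this]; rfl
    have h9 := sum_ex (φ x)
    simp only [mem_coe, T, T1, T2, T3, mem_biUnion]
    refine ⟨m, mem_range.2 (by omega), a, mem_range.2 ha, φ x none, mem_range.2 (h5 _).1, ?_⟩
    rw [if_pos (h5 _).2, mem_biUnion]
    refine ⟨φ x (some 0), mem_range.2 (h5 _).1, ?_⟩
    rw [if_pos (h5 _).2, mem_biUnion]
    refine ⟨∑ p, φ x p, mem_range.2 (by omega), ?_⟩
    rw [if_pos, mem_filter, Fintype.mem_piFinset]
    · refine ⟨fun p => ?_, by omega⟩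
      unfold tS
      split_ifs with e1 e2
      · exact mem_filter.2 ⟨mem_range.2 (h5 p).1, (h5 p).2⟩
      · rw [e2]; exact mem_singleton_self _
      · rw [show p = some 0 from not_not.1 fun e3 => e1 ((testBit_rest p).2 ⟨e2, e3⟩)]
        exact mem_singleton_self _
    · refine ⟨?_, (hS x hx).2 _ _ _ (hφ x hx _) (hφ x hx _) h6⟩
      rw [Int.ModEq] at h4
      omega
  refine ⟨Set.Finite.of_injOn h2 h1 T.finite_toSet, ?_⟩
  refine (Set.ncard_le_ncard_of_injOn φ h2 h1 T.finite_toSet).trans ?_
  rw [Set.ncard_coe_finset]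
  exact hT.trans ((ble_iff _ _).1 h)

set_option Elab.async false

theorem tot1 : Nat.ble (tot fun _ _ _ => true) 196560 = true := by decide +kernel

theorem tot2 : Nat.ble (tot fun u v _ => Nat.beq (Nat.add u v) 14) 47104 = true := by decide +kernel

theorem tot3 : Nat.ble (tot fun u _ s => Nat.beq (Nat.add (Nat.mul 4 u) s) 248) 552 = true := by
  decide +kernel

theorem tot4 : Nat.ble (tot fun u v s => band (Nat.beq (Nat.add u v) 16)
    (Nat.beq (Nat.add (Nat.mul 4 u) s) 240)) 2025 = true := by decide +kernel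

theorem tot5 : Nat.ble (tot fun u v s => band (Nat.beq u v)
    (Nat.beq (Nat.add (Nat.mul 4 u) s) 248)) 100 = true := by decide +kernel

theorem tot6 : Nat.ble (tot fun u _ s => band (Nat.beq u 12) (Nat.beq s 200)) 23 = true := by
  decide +kernel

end Cfsg.Agent.Id
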