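import Cfsg.Agent.Lib.Id.Pres

/-! Coded actions of matrix groups over small finite fields on vectors. -/

set_option autoImplicit false

namespace Cfsg.Agent.Id

open Cfsg.Agent.CG Matrix

section Gen
variable {ι F : Type*} [Fintype ι] [DecidableEq ι] [Field F]

/-- Data of a coded family of matrices acting on coded vectors. -/
structure MatCode (ι F : Type*) [Fintype ι] [DecidableEq ι] [Field F] where
  mat : ℕ → Matrix ι ι F
  app : ℕ → ℕ → ℕ
  ok : ℕ → Prop
  dec : ℕ → ι → F
  ok_app : ∀ a x, ok x → ok (app a x)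
  mul_dec : ∀ a x, ok x → mat a *ᵥ dec x = dec (app a x)
  inj : ∀ x y, ok x → ok y → dec x = dec y → x = y
  B : List ℕ
  okB : ∀ b ∈ B, ok b
  span : ∀ j : ι, ∃ b ∈ B, dec b = Pi.single j 1
  inv : ℕ → ℕ
  hinv : ∀ a, ∀ b ∈ B, app (inv a) (app a b) = b

namespace MatCode
variable (c : MatCode ι F)

theorem ext_B {M N : Matrix ι ι F} (h : ∀ b ∈ c.B, M *ᵥ c.dec b = N *ᵥ c.dec b) : M = N := by
  ext i j
  obtain ⟨b, hb, e⟩ := c.span j
  have := congrFun (h b hb) i
  simpa [e] using this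

theorem inv_mul (a : ℕ) : c.mat (c.inv a) * c.mat a = 1 :=
  c.ext_B fun b hb => by
    rw [← mulVec_mulVec, c.mul_dec a b (c.okB b hb), c.mul_dec _ _ (c.ok_app a b (c.okB b hb)),
      c.hinv a b hb, one_mulVec]

/-- The invertible matrix named by a letter. -/
def gen (a : ℕ) : GL ι F := ⟨c.mat a, c.mat (c.inv a), mul_eq_one_comm.1 (c.inv_mul a), c.inv_mul a⟩

/-- The coded action of `GL` on vectors. -/
def act : Act (GL ι F) (ι → F) where
  gen := c.gen
  app := c.app
  ok := c.ok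
  pt := c.dec
  ok_app := c.ok_app
  smul_pt := c.mul_dec
  inj := c.inj

theorem base : c.act.IsBase c.B :=
  ⟨c.okB, fun g h => Units.ext (c.ext_B fun b hb => by rw [Units.val_one, one_mulVec]; exact h b hb)⟩

@[simp] theorem coe_gen (a : ℕ) : ((c.act.gen a : GL ι F) : Matrix ι ι F) = c.mat a := rfl

end MatCode

theorem mem_center_of_scalar {g : GL ι F} {t : F} (h : (g : Matrix ι ι F) = t • (1 : Matrix ι ι F)) :
    g ∈ Subgroup.center (GL ι F) := by
  rw [Subgroup.mem_center_iff]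
  intro x
  apply Units.ext
  simp [h]

end Gen

/-! ### Characteristic two -/

/-- The sum (exclusive or) of the columns selected by the bits of `x`. -/
noncomputable def lin2 (cols : List ℕ) (x : ℕ) : ℕ :=
  List.rec (motive := fun _ => ℕ → ℕ) (fun _ => 0)
    (fun c _ ih x => force x fun x => Nat.xor (Nat.mul (Nat.land x 1) c) (ih (Nat.shiftRight x 1))) cols x

theorem lin2_cons (c : ℕ) (l : List ℕ) (x : ℕ) : lin2 (c :: l) x = (x % 2 * c) ^^^ lin2 l (x / 2) := by
  have : lin2 (c :: l) x = force x fun x => Nat.xor (Nat.mul (Nat.land x 1) c) (lin2 l (Nat.shiftRight x 1)) := rfl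
  rw [this, force_eq]
  have h1 : Nat.land x 1 = x % 2 := Nat.and_one_is_mod x
  have h2 : Nat.shiftRight x 1 = x / 2 := Nat.shiftRight_one x
  rw [h1, h2]; rfl

theorem lin2_lt {D : ℕ} {l : List ℕ} (h : ∀ c ∈ l, c < 2 ^ D) (x : ℕ) : lin2 l x < 2 ^ D := by
  induction l generalizing x with
  | nil => exact Nat.two_pow_pos D
  | cons c l ih =>
    rw [lin2_cons]
    refine Nat.xor_lt_two_pow ?_ (ih (fun d hd => h d (by simp [hd])) _)
    have := h c (by simp)
    rcases Nat.mod_two_eq_zero_or_one x with e | e <;> rw [e] <;> simp [this]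

theorem lin2_dec {V W : Type*} [AddCommGroup V] [AddCommGroup W] {dec : ℕ → V} {dec' : ℕ → W}
    (h0 : dec 0 = 0) (hx : ∀ x y, dec (x ^^^ y) = dec x + dec y) (h0' : dec' 0 = 0)
    (hx' : ∀ x y, dec' (x ^^^ y) = dec' x + dec' y) (f : V →+ W) (l : List ℕ) (o : ℕ)
    (hf : ∀ i (hi : i < l.length), f (dec (2 ^ (o + i))) = dec' l[i]) (x : ℕ) (hlt : x < 2 ^ l.length) :
    f (dec (x * 2 ^ o)) = dec' (lin2 l x) := by
  induction l generalizing x o with
  | nil =>
    obtain rfl : x = 0 := by simpa using hlt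
    simp [h0, lin2, h0']
  | cons c l ih =>
    rw [lin2_cons, hx', ← ih (o + 1) (fun i hi => by
      have := hf (i + 1) (by simpa using hi)
      rwa [← add_assoc, add_right_comm] at this) (x / 2) (by
      rw [List.length_cons, pow_succ] at hlt; omega)]
    have e : x * 2 ^ o = (x % 2 * 2 ^ o) ^^^ (x / 2 * 2 ^ (o + 1)) := by
      rw [pow_succ', ← mul_assoc, ← Nat.shiftLeft_eq, ← Nat.shiftLeft_eq, ← Nat.shiftLeft_eq,
        ← Nat.shiftLeft_xor_distrib]
      congr 1
      apply Nat.eq_of_testBit_eq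
      intro i
      cases i with
      | zero => simp
      | succ i => simp [Nat.testBit_succ, Nat.xor_div_two]
    rw [e, hx, map_add]
    congr 1
    rcases Nat.mod_two_eq_zero_or_one x with e | e <;> rw [e]
    · simp [h0, h0']
    · have := hf 0 (by simp)
      simp only [add_zero, List.getElem_cons_zero] at this
      simpa using this

section Two
variable {ι F : Type*} [Fintype ι] [DecidableEq ι] [Field F]

/-- The field element with binary digits `c` in the basis `1, θ, …, θ^(k-1)`. -/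
def fel (θ : F) (k c : ℕ) : F := ∑ s ∈ Finset.range k, if c.testBit s then θ ^ s else 0

/-- The vector with code `x`. -/
def dec2 (θ : F) (k : ℕ) (idx : ι → ℕ) (x : ℕ) : ι → F := fun r => fel θ k (x >>> (k * idx r))

theorem fel_zero (θ : F) (k : ℕ) : fel θ k 0 = 0 := by simp [fel]

theorem fel_xor [CharP F 2] (θ : F) (k x y : ℕ) : fel θ k (x ^^^ y) = fel θ k x + fel θ k y := by
  unfold fel
  rw [← Finset.sum_add_distrib]
  refine Finset.sum_congr rfl fun s _ => ?_
  rw [Nat.testBit_xor]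
  cases x.testBit s <;> cases y.testBit s <;> simp [CharTwo.add_self_eq_zero]

theorem fel_mod (θ : F) (k x : ℕ) : fel θ k (x % 2 ^ k) = fel θ k x :=
  Finset.sum_congr rfl fun s hs => by simp [Nat.testBit_mod_two_pow, Finset.mem_range.1 hs]

omit [Fintype ι] [DecidableEq ι] in
theorem dec2_zero (θ : F) (k : ℕ) (idx : ι → ℕ) : dec2 θ k idx 0 = 0 := by
  funext r; simp [dec2, fel_zero]

omit [Fintype ι] [DecidableEq ι] in
theorem dec2_xor [CharP F 2] (θ : F) (k : ℕ) (idx : ι → ℕ) (x y : ℕ) :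
    dec2 θ k idx (x ^^^ y) = dec2 θ k idx x + dec2 θ k idx y := by
  funext r; simp [dec2, Nat.shiftRight_xor_distrib, fel_xor]

omit [Fintype ι] in
theorem dec2_pow (θ : F) {k : ℕ} {idx : ι → ℕ} (hi : Function.Injective idx) (j : ι) {s : ℕ} (hs : s < k) :
    dec2 θ k idx (2 ^ (k * idx j + s)) = Pi.single j (θ ^ s) := by
  funext r
  simp only [dec2, fel, Nat.testBit_shiftRight, Nat.testBit_two_pow, decide_eq_true_eq]
  by_cases h : r = j
  · subst h
    simp [Finset.sum_ite_eq, hs]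
  · rw [Pi.single_eq_of_ne h]
    refine Finset.sum_eq_zero fun t ht => if_neg fun e => h (hi ?_)
    have ht := Finset.mem_range.1 ht
    have := congrArg (· / k) e
    simp only [Nat.mul_add_div (by omega : 0 < k), Nat.div_eq_of_lt hs, Nat.div_eq_of_lt ht] at this
    omega

omit [Fintype ι] [DecidableEq ι] in
theorem dec2_inj [CharP F 2] {θ : F} {k d : ℕ} {idx : ι → ℕ} (hk : 0 < k) (hs : ∀ i < d, ∃ j, idx j = i)
    (hθ : ∀ c < 2 ^ k, fel θ k c = 0 → c = 0) {x y : ℕ} (hx : x < 2 ^ (k * d)) (hy : y < 2 ^ (k * d))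
    (h : dec2 θ k idx x = dec2 θ k idx y) : x = y := by
  have h1 : dec2 θ k idx (x ^^^ y) = 0 := by
    rw [dec2_xor, h]; funext r; exact CharTwo.add_self_eq_zero _
  have h2 := Nat.xor_lt_two_pow hx hy
  rw [← Nat.xor_eq_zero_iff]
  generalize x ^^^ y = z at h1 h2
  apply Nat.eq_of_testBit_eq
  intro i
  rw [Nat.zero_testBit]
  by_cases hi : i < k * d
  · obtain ⟨j, hj⟩ := hs (i / k) (Nat.div_lt_of_lt_mul hi)
    have h3 := congrFun h1 j
    simp only [dec2, Pi.zero_apply] at h3
    rw [← fel_mod] at h3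
    have h4 := congrArg (fun c => Nat.testBit c (i % k)) (hθ _ (Nat.mod_lt _ (Nat.two_pow_pos k)) h3)
    simpa [Nat.testBit_mod_two_pow, Nat.mod_lt _ hk, Nat.testBit_shiftRight, hj, Nat.div_add_mod] using h4
  · exact Nat.testBit_lt_two_pow (h2.trans_le (Nat.pow_le_pow_right (by norm_num) (by omega)))

/-- The check of one table of columns: length, size, and compatibility with multiplication by `θ`. -/
noncomputable def colsOK (k d : ℕ) (Θ cols : List ℕ) : Bool :=
  band (Nat.beq cols.length (Nat.mul k d)) (band (allL (fun c => blt c (Nat.pow 2 (Nat.mul k d))) cols)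
    (allLt (fun i => bor (Nat.beq (Nat.mod i k) 0)
      (Nat.beq (nth cols 0 i) (lin2 Θ (nth cols 0 (Nat.pred i))))) (Nat.mul k d)))

/-- The action of letters through tables of columns. -/
noncomputable def app2T (tabs : List (List ℕ)) (dflt : List ℕ) (a x : ℕ) : ℕ := lin2 (nth tabs dflt a) x

/-- The matrix with the given columns. -/
def mat2 (θ : F) (k : ℕ) (idx : ι → ℕ) (cols : List ℕ) : Matrix ι ι F :=
  Matrix.of fun r j => dec2 θ k idx (cols.getD (k * idx j) 0) r

theorem mat2_mulVec [CharP F 2] {θ : F} {k d : ℕ} {idx : ι → ℕ} (hk : 0 < k) (hi : Function.Injective idx)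
    (hs : ∀ i < d, ∃ j, idx j = i) {Θ : List ℕ}
    (hΘ : ∀ x < 2 ^ (k * d), θ • dec2 θ k idx x = dec2 θ k idx (lin2 Θ x)) {cols : List ℕ}
    (h : colsOK k d Θ cols = true) (x : ℕ) (hx : x < 2 ^ (k * d)) :
    lin2 cols x < 2 ^ (k * d) ∧ mat2 θ k idx cols *ᵥ dec2 θ k idx x = dec2 θ k idx (lin2 cols x) := by
  unfold colsOK at h
  rw [band_eq, band_eq, beq_iff, allL_iff, allLt_iff] at h
  obtain ⟨h1, h2, h3⟩ := h
  have h1 : cols.length = k * d := h1
  have h2 : ∀ c ∈ cols, c < 2 ^ (k * d) := fun c hc => (blt_iff _ _).1 (h2 c hc)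
  refine ⟨lin2_lt h2 x, ?_⟩
  have := lin2_dec (dec2_zero θ k idx) (dec2_xor θ k idx) (dec2_zero θ k idx) (dec2_xor θ k idx)
    (Matrix.mulVecLin (mat2 θ k idx cols)).toAddMonoidHom cols 0 ?_ x (h1 ▸ hx)
  · simpa using this
  have key : ∀ j s, s < k → k * idx j + s < k * d →
      θ ^ s • dec2 θ k idx (cols.getD (k * idx j) 0) = dec2 θ k idx (cols.getD (k * idx j + s) 0) := by
    intro j s
    induction s with
    | zero => simp
    | succ s ih =>
      intro hs hlt
      have h4 := h3 _ hlt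
      rw [bor_eq, beq_iff, beq_iff, nth_eq, nth_eq] at h4
      rcases h4 with h4 | h4
      · have : (k * idx j + (s + 1)) % k = 0 := h4
        rw [Nat.mul_add_mod, Nat.mod_eq_of_lt hs] at this
        omega
      · rw [h4, pow_succ', mul_smul, ih (by omega) (by omega), hΘ]
        · rfl
        · rw [List.getD_eq_getElem _ _ (by omega)]; exact h2 _ (List.getElem_mem _)
  intro i hi'
  obtain ⟨j, hj⟩ := hs (i / k) (Nat.div_lt_of_lt_mul (h1 ▸ hi'))
  have e : i = k * idx j + i % k := by rw [hj, Nat.div_add_mod]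
  have e2 : cols[i] = cols.getD (k * idx j + i % k) 0 := by rw [← e, List.getD_eq_getElem _ _ hi']
  rw [e2, ← key j _ (Nat.mod_lt _ hk) (by omega), zero_add]
  conv_lhs => rw [e, dec2_pow θ hi j (Nat.mod_lt _ hk)]
  funext r
  simp [mat2, mul_comm]

/-- The codes of the standard basis vectors. -/
noncomputable def bas2 (k d : ℕ) : List ℕ :=
  Nat.rec (motive := fun _ => List ℕ) [] (fun i ih => Nat.pow 2 (Nat.mul k i) :: ih) d

theorem mem_bas2 {k d x : ℕ} : x ∈ bas2 k d ↔ ∃ i < d, x = 2 ^ (k * i) := by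
  induction d with
  | zero => simp [bas2]
  | succ d ih =>
    have : bas2 k (d + 1) = 2 ^ (k * d) :: bas2 k d := rfl
    rw [this, List.mem_cons, ih]
    constructor
    · rintro (h | ⟨i, h1, h2⟩)
      · exact ⟨d, by omega, h⟩
      · exact ⟨i, by omega, h2⟩
    · rintro ⟨i, h1, h2⟩
      by_cases h : i = d
      · left; rw [h2, h]
      · exact Or.inr ⟨i, by omega, h2⟩

theorem nth_mem_cons {α : Type} (l : List α) (d : α) (a : ℕ) : nth l d a ∈ d :: l := by
  rw [nth_eq]
  by_cases h : a < l.length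
  · rw [List.getD_eq_getElem _ _ h]; exact List.mem_cons_of_mem _ (List.getElem_mem _)
  · rw [List.getD_eq_default _ _ (by omega)]; exact List.mem_cons_self

/-- The check that the letter `nth I K a` inverts the letter `a`, for all `a`. -/
noncomputable def invOK (app : ℕ → ℕ → ℕ) (B I : List ℕ) (K : ℕ) : Bool :=
  band (Nat.ble I.length K) (allLt (fun a => allL (fun b => Nat.beq (app (nth I K a) (app a b)) b) B) (Nat.succ K))

theorem invOK_sound {app : ℕ → ℕ → ℕ} {B I : List ℕ} {K : ℕ} (h : invOK app B I K = true)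
    (ht : ∀ a, K ≤ a → app a = app K) (a : ℕ) : ∀ b ∈ B, app (nth I K a) (app a b) = b := by
  unfold invOK at h
  rw [band_eq, ble_iff, allLt_iff] at h
  intro b hb
  by_cases ha : a ≤ K
  · exact (beq_iff _ _).1 ((allL_iff _ _).1 (h.2 a (Nat.lt_succ_of_le ha)) b hb)
  · have := (beq_iff _ _).1 ((allL_iff _ _).1 (h.2 K (Nat.lt_succ_self K)) b hb)
    rw [nth_triv I K h.1] at this
    rw [nth_triv I K (by omega), ht a (by omega), this]

/-- The coded matrices over a field of characteristic two. -/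
noncomputable def code2 [CharP F 2] (θ : F) (k d : ℕ) (idx : ι → ℕ) (hk : 0 < k) (hi : Function.Injective idx)
    (hlt : ∀ j, idx j < d) (hs : ∀ i < d, ∃ j, idx j = i) (hθ : ∀ c < 2 ^ k, fel θ k c = 0 → c = 0)
    (Θ : List ℕ) (hΘ : ∀ x < 2 ^ (k * d), θ • dec2 θ k idx x = dec2 θ k idx (lin2 Θ x))
    (tabs : List (List ℕ)) (dflt I : List ℕ) (K : ℕ) (hK : Nat.ble tabs.length K = true)
    (hc : allL (colsOK k d Θ) (dflt :: tabs) = true)
    (hI : invOK (app2T tabs dflt) (bas2 k d) I K = true) : MatCode ι F where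
  mat a := mat2 θ k idx (nth tabs dflt a)
  app := app2T tabs dflt
  ok x := x < 2 ^ (k * d)
  dec := dec2 θ k idx
  ok_app a x hx := (mat2_mulVec hk hi hs hΘ ((allL_iff _ _).1 hc _ (nth_mem_cons _ _ a)) x hx).1
  mul_dec a x hx := (mat2_mulVec hk hi hs hΘ ((allL_iff _ _).1 hc _ (nth_mem_cons _ _ a)) x hx).2
  inj _ _ hx hy h := dec2_inj hk hs hθ hx hy h
  B := bas2 k d
  okB b hb := by
    obtain ⟨i, h1, rfl⟩ := mem_bas2.1 hb
    exact Nat.pow_lt_pow_right (by norm_num) (Nat.mul_lt_mul_of_pos_left h1 hk)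
  span j := ⟨_, mem_bas2.2 ⟨idx j, hlt j, rfl⟩, by simpa using dec2_pow θ hi j hk⟩
  inv a := nth I K a
  hinv a := invOK_sound hI (fun a ha => by
    funext x
    rw [ble_iff] at hK
    unfold app2T
    rw [nth_triv tabs dflt hK, nth_triv tabs dflt (hK.trans ha)]) a

end Two

end Cfsg.Agent.Id
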