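import Cfsg.Agent.Lib.Id.Mathieu
import Cfsg.Agent.Lib.Grp.M11.Main

/-! Identification of the Mathieu group `M11` with its table permutation group. -/

set_option autoImplicit false
set_option maxRecDepth 100000

namespace Cfsg.Agent.Id.M11

open Cfsg.Agent.CG

/-- The numbers of the points permuted. -/
def pts : List ℕ := [1, 2, 3, 4, 6, 8, 9, 12, 13, 16, 18]

theorem exists_iso : ∃ e : Cfsg.Spor.M11 ≃* CG.M11.PG,
    ∀ x j, x • ptL pts 11 j = ptL pts 11 ((e x).1 j) :=
  exists_equiv_of_realized (by decide +kernel)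
    (tabGroup_le CG.M11.tabOK CG.M11.hinv [0, 1] (List.forall_mem_cons.2
      ⟨permOf_mem_realized CG.M11.tabOK mem11a (by decide +kernel), List.forall_mem_cons.2
        ⟨permOf_mem_realized CG.M11.tabOK mem11b (by decide +kernel), by simp⟩⟩)
      (by decide +kernel))
    (card_M11_le.trans CG.M11.card.ge)

theorem iso : Nonempty (Cfsg.Spor.M11 ≃* CG.M11.PG) := exists_iso.nonempty

end Cfsg.Agent.Id.M11
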