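import Cfsg.Agent.Lib.Id.Mathieu
import Cfsg.Agent.Lib.Grp.M23.Main

/-! Identification of the Mathieu group `M23` with its table permutation group. -/

set_option autoImplicit false
set_option maxRecDepth 100000

namespace Cfsg.Agent.Id.M23

open Cfsg.Agent.CG

/-- The numbers of the points permuted. -/
def pts : List ℕ := [0, 1, 2, 3, 4, 5, 6, 7, 8, 9, 10, 11, 12, 13, 14, 15, 16, 17, 18, 19, 20, 21, 22]

theorem exists_iso : ∃ e : Cfsg.Spor.M23 ≃* CG.M23.PG,
    ∀ x j, x • ptL pts 23 j = ptL pts 23 ((e x).1 j) :=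
  exists_equiv_of_realized (by decide +kernel)
    (tabGroup_le CG.M23.tabOK CG.M23.hinv [0, 1] (List.forall_mem_cons.2
      ⟨permOf_mem_realized CG.M23.tabOK mem23a (by decide +kernel), List.forall_mem_cons.2
        ⟨permOf_mem_realized CG.M23.tabOK mem23b (by decide +kernel), by simp⟩⟩)
      (by decide +kernel))
    (card_M23_le.trans CG.M23.card.ge)

theorem iso : Nonempty (Cfsg.Spor.M23 ≃* CG.M23.PG) := exists_iso.nonempty

end Cfsg.Agent.Id.M23
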