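import Cfsg.Agent.Lib.Id.Golay
import Cfsg.Prelude.Def_Spor_Mathieu

/-! Upper bounds for the orders of the Mathieu groups, and explicit elements. -/

set_option autoImplicit false
set_option maxRecDepth 100000

namespace Cfsg.Agent.Id

open Cfsg.Agent.CG Cfsg.Spor
open scoped Pointwise

theorem card_le_one_of {K : Subgroup (Equiv.Perm GolayPt)} (h : ∀ g ∈ K, g = 1) : Nat.card K ≤ 1 :=
  (Subgroup.card_eq_one.2 ((Subgroup.eq_bot_iff_forall K).2 h)).le

theorem card_fx_le' {H : Subgroup (Equiv.Perm GolayPt)} {F F' N N' : ℕ} (j m : ℕ)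
    (h : ∀ g ∈ H, Fix g F → m.testBit (idx (g (ofIdx j))))
    (hN : Nat.card (fx H F') ≤ N) (hc : F' = F ||| 2 ^ j ∧ pop m * N ≤ N') :
    Nat.card (fx H F) ≤ N' :=
  (card_fx_le j m h (hc.1 ▸ hN)).trans hc.2

theorem card_fx_le_compl {H : Subgroup (Equiv.Perm GolayPt)} {F F' N N' : ℕ} (j m : ℕ)
    (hN : Nat.card (fx H F') ≤ N) (hc : (F' = F ||| 2 ^ j ∧ pop m * N ≤ N') ∧
      ¬ F.testBit (idx (ofIdx j)) ∧ ∀ p, ¬ F.testBit (idx p) → m.testBit (idx p)) :
    Nat.card (fx H F) ≤ N' :=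
  card_fx_le' j m (fun _ _ hF => hc.2.2 _ (hF.not_mem hc.2.1)) hN hc.1

theorem eq_one_A {g : Equiv.Perm GolayPt} (hg : g ∈ M24) (hF : Fix g 0x80003f) : g = 1 :=
  hF.eq_one hg [(0x149f, 0x800c75, 10), (0x149f, 0x8081b3, 7), (0x149f, 0x149f, 12),
    (0x293e, 0xa4f8, 13), (0x293e, 0x20ab9, 11), (0x293e, 0x293e, 8), (0x46e3, 0x8dc6, 6),
    (0x46e3, 0x10f13, 9), (0x46e3, 0x46e3, 14), (0x8dc6, 0x8dc6, 15), (0x10f13, 0x10f13, 16),
    (0x20ab9, 0x20ab9, 17), (0x401ed, 0x401ed, 18), (0x803da, 0x803da, 19),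
    (0x1007b4, 0x1007b4, 20), (0x200f68, 0x200f68, 21), (0x400a4f, 0x400a4f, 22)]
    (by decide +kernel)

theorem eq_one_B {g : Equiv.Perm GolayPt} (hg : g ∈ M24) (hF : Fix g 0x105f) : g = 1 :=
  hF.eq_one hg [(0x527c, 0xb067, 5), (0x149f, 0x401ed, 7), (0x149f, 0x149f, 10),
    (0x293e, 0xa4f8, 13), (0x293e, 0x20ab9, 11), (0x293e, 0x293e, 8), (0x46e3, 0x10f13, 9),
    (0x46e3, 0x46e3, 14), (0x8dc6, 0x8dc6, 15), (0x10f13, 0x10f13, 16), (0x20ab9, 0x20ab9, 17),
    (0x401ed, 0x401ed, 18), (0x803da, 0x803da, 19), (0x1007b4, 0x1007b4, 20),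
    (0x200f68, 0x200f68, 21), (0x400a4f, 0x400a4f, 22), (0x800c75, 0x800c75, 23)]
    (by decide +kernel)

theorem card_fx_six : Nat.card (fx M24 0x80002f) ≤ 16 := by
  refine card_fx_le' (F' := 0x80003f) 4 0x7dbfd0 (fun g hg hF => ?_)
    (card_le_one_of fun g hg => eq_one_A hg.1 hg.2) (by decide +kernel)
  have := hF.octad hg (o := 0x82402f) (by decide +kernel) (ofIdx 4)
  revert this
  generalize g (ofIdx 4) = p
  revert p; decide +kernel

theorem card_fx_five : Nat.card (fx M24 0x80000f) ≤ 48 := by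
  refine card_fx_le' 5 0x24020 (fun g hg hF => ?_) card_fx_six (by decide +kernel)
  have h3 := hF.octad hg (o := 0x82402f) (by decide +kernel) (ofIdx 5)
  have h4 := hF.not_mem (p := ofIdx 5) (by decide +kernel)
  revert h3 h4
  generalize g (ofIdx 5) = p
  revert p; decide +kernel

theorem card_fx_four : Nat.card (fx M24 0x800007) ≤ 960 :=
  card_fx_le_compl 3 0x7ffff8 card_fx_five (by decide +kernel)

theorem card_fx_three : Nat.card (fx M24 0x800003) ≤ 20160 :=
  card_fx_le_compl 2 0x7ffffc card_fx_four (by decide +kernel)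

theorem card_fx_two : Nat.card (fx M24 0x800001) ≤ 443520 :=
  card_fx_le_compl 1 0x7ffffe card_fx_three (by decide +kernel)

theorem card_fx_one : Nat.card (fx M24 0x800000) ≤ 10200960 :=
  card_fx_le_compl 0 0x7fffff card_fx_two (by decide +kernel)

theorem card_M24_le : Nat.card M24 ≤ 244823040 :=
  card_le_fx (F := 0) (fun _ hg => ⟨hg, fun p hp => by simp at hp⟩)
    (card_fx_le_compl 23 0xffffff card_fx_one (by decide +kernel))

theorem card_M23_le : Nat.card M23 ≤ 10200960 :=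
  card_le_fx (fun g hg => ⟨hg.1, fun p hp => by
    obtain rfl : p = none := by revert p; decide +kernel
    exact hg.2⟩) card_fx_one

theorem card_M22_le : Nat.card M22 ≤ 443520 :=
  card_le_fx (fun g hg => ⟨hg.1.1, fun p hp => by
    have : p = none ∨ p = some 0 := by revert p; decide +kernel
    rcases this with rfl | rfl
    · exact hg.1.2
    · exact hg.2⟩) card_fx_two

theorem squareDodecad_eq : squareDodecad = st 0x5335f := by
  rw [squareDodecad, qrWord_eq, support_wd]; rfl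

theorem mem_M12_iff {g : Equiv.Perm GolayPt} : g ∈ M12 ↔ g ∈ M24 ∧
    ∀ p, (0x5335f : ℕ).testBit (idx (g p)) = (0x5335f : ℕ).testBit (idx p) := by
  refine and_congr_right fun _ => ?_
  change g ∈ MulAction.stabilizer _ squareDodecad ↔ _
  rw [MulAction.mem_stabilizer_finset, squareDodecad_eq]
  refine forall_congr' fun p => ?_
  rw [mem_st, mem_st]; exact Bool.eq_iff_iff.symm

theorem eq_of_transl {g : Equiv.Perm GolayPt} (hg : g ∈ M12) (hF : Fix g 0x101f) {T : ℕ}
    (h : Function.Injective (pf T))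
    (hc : ∀ r ∈ rows, ∀ p, r.testBit (idx (pf T p)) = (enc (pull T r % 4096)).testBit (idx p))
    (h1 : ∀ p, (0x101f : ℕ).testBit (idx p) → pf T p = p)
    (h2 : ∃ p, (0x5335f : ℕ).testBit (idx (pf T p)) ≠ (0x5335f : ℕ).testBit (idx p)) :
    g (ofIdx 6) ≠ pf T (ofIdx 6) := by
  intro e
  obtain ⟨hg1, hg2⟩ := mem_M12_iff.1 hg
  have h3 : Fix ((mkP T h)⁻¹ * g) 0x101f := fun p hp => by
    rw [Equiv.Perm.mul_apply, hF p hp, Equiv.Perm.inv_eq_iff_eq, mkP_apply, h1 p hp]
  have h4 := eq_one_B (mul_mem (inv_mem (mkP_mem h hc)) hg1) (h3.insert (j := 6) (by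
    rw [Equiv.Perm.mul_apply, Equiv.Perm.inv_eq_iff_eq, e, mkP_apply]))
  rw [inv_mul_eq_one] at h4
  obtain ⟨p, hp⟩ := h2
  have h5 := hg2 p
  rw [← h4, mkP_apply] at h5
  exact hp h5

theorem card_fx_M12 : Nat.card (fx M12 0x1f) ≤ 1 := by
  refine card_le_one_of fun g hg => ?_
  obtain ⟨hg1, hg2⟩ := mem_M12_iff.1 hg.1
  have hO := hg.2.octad hg1 (o := 0x149f) (by decide +kernel)
  have hF : Fix g 0x101f := hg.2.insert (j := 12) (by
    have h1 := hO (ofIdx 12)
    have h2 := hg2 (ofIdx 12)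
    have h3 := hg.2.not_mem (p := ofIdx 12) (by decide +kernel)
    revert h1 h2 h3
    generalize g (ofIdx 12) = p
    revert p; decide +kernel)
  refine eq_one_B hg1 (hF.insert (j := 6) ?_)
  have h1 := hO (ofIdx 6)
  have h2 := hg2 (ofIdx 6)
  have e1 := eq_of_transl hg.1 hF (T := 0x6c22e496b65d2ec7aa663a24418820) (by decide +kernel)
    (by decide +kernel) (by decide +kernel) (by decide +kernel)
  have e2 := eq_of_transl hg.1 hF (T := 0x8adb2452ef816acb28d33a5c418820) (by decide +kernel)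
    (by decide +kernel) (by decide +kernel) (by decide +kernel)
  have e3 := eq_of_transl hg.1 hF (T := 0x451368ae6e2c0cc92ab73b5e418820) (by decide +kernel)
    (by decide +kernel) (by decide +kernel) (by decide +kernel)
  have e4 := eq_of_transl hg.1 hF (T := 0xa20b75c6464b5cc9a9f63c2a418820) (by decide +kernel)
    (by decide +kernel) (by decide +kernel) (by decide +kernel)
  have e5 := eq_of_transl hg.1 hF (T := 0x7d6c971a11bcd6c6aa853c90418820) (by decide +kernel)
    (by decide +kernel) (by decide +kernel) (by decide +kernel)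
  revert h1 h2 e1 e2 e3 e4 e5
  generalize g (ofIdx 6) = p
  revert p; decide +kernel

theorem card_fx_le_dod {F F' N N' : ℕ} (j m : ℕ) (hN : Nat.card (fx M12 F') ≤ N)
    (hc : (F' = F ||| 2 ^ j ∧ pop m * N ≤ N') ∧ ¬ F.testBit (idx (ofIdx j)) ∧
      (0x5335f : ℕ).testBit (idx (ofIdx j)) ∧
      ∀ p, ¬ F.testBit (idx p) → (0x5335f : ℕ).testBit (idx p) → m.testBit (idx p)) :
    Nat.card (fx M12 F) ≤ N' :=
  card_fx_le' j m (fun _ hg hF => hc.2.2.2 _ (hF.not_mem hc.2.1)
    (((mem_M12_iff.1 hg).2 _).trans hc.2.2.1)) hN hc.1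

theorem card_fx_M11 : Nat.card (fx M12 1) ≤ 7920 :=
  have h1 : Nat.card (fx M12 0xf) ≤ 8 := card_fx_le_dod 4 0x53350 card_fx_M12 (by decide +kernel)
  have h2 : Nat.card (fx M12 0x7) ≤ 72 := card_fx_le_dod 3 0x53358 h1 (by decide +kernel)
  have h3 : Nat.card (fx M12 0x3) ≤ 720 := card_fx_le_dod 2 0x5335c h2 (by decide +kernel)
  card_fx_le_dod 1 0x5335e h3 (by decide +kernel)

theorem card_M12_le : Nat.card M12 ≤ 95040 :=
  card_le_fx (F := 0) (fun _ hg => ⟨hg, fun p hp => by simp at hp⟩)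
    (card_fx_le_dod 0 0x5335f card_fx_M11 (by decide +kernel))

theorem card_M11_le : Nat.card M11 ≤ 7920 :=
  card_le_fx (fun g hg => ⟨hg.1, fun p hp => by
    obtain rfl : p = some 0 := by revert p; decide +kernel
    exact hg.2⟩) card_fx_M11

/-- The points listed by their numbers. -/
noncomputable def ptL (L : List ℕ) (n : ℕ) (j : Fin n) : GolayPt := ofIdx (nth L 0 j)

theorem permOf_mem_realized {n w : ℕ} [NeZero n] {app : ℕ → ℕ → ℕ} {r k : ℕ} {partner : ℕ → ℕ}
    {slp : ℕ → Bool × List ℕ} (h : TabOK n w app r k partner slp)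
    {H : Subgroup (Equiv.Perm GolayPt)} {T : ℕ} {hT : Function.Injective (pf T)} (hH : mkP T hT ∈ H)
    {L : List ℕ} {a : ℕ}
    (hc : ∀ j : Fin n, pf T (ofIdx (nth L 0 j)) = ofIdx (nth L 0 (app a (w * j) / w))) :
    permOf n w app a ∈ realized H (ptL L n) :=
  ⟨⟨_, hH⟩, fun j => by rw [ptL, ptL, permOf_val h]; exact hc j⟩

theorem mkP_stab {T : ℕ} (h : Function.Injective (pf T)) {p : GolayPt} (hp : pf T p = p) :
    mkP T h ∈ MulAction.stabilizer (Equiv.Perm GolayPt) p := hp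

/-! Generators. -/

theorem inj24a : Function.Injective (pf 0x9096f2de11a0d8da90c00a66a758e8) := by decide +kernel
theorem inj24b : Function.Injective (pf 0x68a86515d07ac0c89d289d464906d7) := by decide +kernel
theorem inj23a : Function.Injective (pf 0xbd986716241cc555a9093d2507b420) := by decide +kernel
theorem inj23b : Function.Injective (pf 0xb82a549ec37b82462e429c60aa21a6) := by decide +kernel
theorem inj22a : Function.Injective (pf 0xbda53a542f80d0c52d2d390a670a20) := by decide +kernel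
theorem inj22b : Function.Injective (pf 0xb89f032ed4655ae928271a62821660) := by decide +kernel
theorem inj12a : Function.Injective (pf 0x7ce2bb32a2ba872a38c42a4e86c001) := by decide +kernel
theorem inj12b : Function.Injective (pf 0xbd54b28a309ba443d808a25e11b586) := by decide +kernel
theorem inj11a : Function.Injective (pf 0x7d96798630b95a9aa988a09c321a40) := by decide +kernel
theorem inj11b : Function.Injective (pf 0x5aa362caa9a1c82bbdac999d018500) := by decide +kernel

theorem mem24a : mkP _ inj24a ∈ M24 := mkP_mem _ (by decide +kernel)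
theorem mem24b : mkP _ inj24b ∈ M24 := mkP_mem _ (by decide +kernel)
theorem mem23a : mkP _ inj23a ∈ M23 :=
  ⟨mkP_mem _ (by decide +kernel), mkP_stab _ (by decide +kernel)⟩
theorem mem23b : mkP _ inj23b ∈ M23 :=
  ⟨mkP_mem _ (by decide +kernel), mkP_stab _ (by decide +kernel)⟩
theorem mem22a : mkP _ inj22a ∈ M22 :=
  ⟨⟨mkP_mem _ (by decide +kernel), mkP_stab _ (by decide +kernel)⟩,
    mkP_stab _ (by decide +kernel)⟩
theorem mem22b : mkP _ inj22b ∈ M22 :=
  ⟨⟨mkP_mem _ (by decide +kernel), mkP_stab _ (by decide +kernel)⟩,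
    mkP_stab _ (by decide +kernel)⟩
theorem mem12a : mkP _ inj12a ∈ M12 :=
  mem_M12_iff.2 ⟨mkP_mem _ (by decide +kernel), show ∀ p, Nat.testBit _ (idx (pf _ p)) = _ by
    decide +kernel⟩
theorem mem12b : mkP _ inj12b ∈ M12 :=
  mem_M12_iff.2 ⟨mkP_mem _ (by decide +kernel), show ∀ p, Nat.testBit _ (idx (pf _ p)) = _ by
    decide +kernel⟩
theorem mem11a : mkP _ inj11a ∈ M11 :=
  ⟨mem_M12_iff.2 ⟨mkP_mem _ (by decide +kernel), show ∀ p, Nat.testBit _ (idx (pf _ p)) = _ by
    decide +kernel⟩, mkP_stab _ (by decide +kernel)⟩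
theorem mem11b : mkP _ inj11b ∈ M11 :=
  ⟨mem_M12_iff.2 ⟨mkP_mem _ (by decide +kernel), show ∀ p, Nat.testBit _ (idx (pf _ p)) = _ by
    decide +kernel⟩, mkP_stab _ (by decide +kernel)⟩

end Cfsg.Agent.Id
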