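import Cfsg.Agent.Lib.TCX.ON.Main
import Cfsg.Agent.Lib.Grp.ON.Main
import Cfsg.Prelude.Def_Spor_ON

/-! Identification of the presented group `ON` with its table permutation group. -/

set_option autoImplicit false
set_option maxRecDepth 100000

namespace Cfsg.Agent.Id.ON

open Cfsg.Agent.CG Cfsg.Agent.TCX

/-- How the relators of the enumeration follow from those of the table group. -/
def hints : List (ℕ × Bool × List ℕ) := [(29,false,[]),
  (22,false,[]),
  (29,false,[]),
  (29,false,[]),
  (29,false,[]),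
  (29,false,[]),
  (29,false,[]),
  (29,false,[]),
  (29,false,[]),
  (18,false,[]),
  (13,false,[]),
  (22,true,[]),
  (27,false,[]),
  (11,false,[]),
  (28,false,[]),
  (17,false,[]),
  (26,false,[]),
  (25,false,[]),
  (12,false,[]),
  (14,false,[]),
  (7,false,[]),
  (15,false,[]),
  (20,false,[]),
  (8,false,[]),
  (9,false,[]),
  (19,false,[]),
  (10,false,[]),
  (21,false,[]),
  (24,false,[]),
  (28,true,[]),
  (27,true,[]),
  (23,false,[]),
  (26,true,[]),
  (23,true,[]),
  (16,false,[])]

instance factBounds : Fact (Bounds CG.ON.tcR CG.ON.tcS 460815505920) :=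
  ⟨bounds_of_ders (n := 8) (inv := invOf TCX.ON.invL) (hs := hints) TCX.ON.bounds (by decide +kernel) (invOf_ge' rfl)
    (by decide +kernel) (by decide +kernel) (by decide +kernel)⟩

/-- The letter of a generator. -/
def code : Spor.ON.Gen → ℕ
  | .g => 0
  | .a => 2
  | .b => 3
  | .c => 4
  | .d => 5
  | .e => 6
  | .f => 7

/-- The table of letters. -/
def tab : List (Spor.ON.Gen × Bool) := [(.g, true), (.g, false), (.a, true), (.b, true), (.c, true), (.d, true), (.e, true), (.f, true)]

/-- The values of the letters in the presented group. -/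
def y : ℕ → Spor.ON := letter Spor.ON.edges Spor.ON.extra tab

theorem y_inv : ∀ a, y (invOf TCX.ON.invL a) = (y a)⁻¹ :=
  letter_inv (I := Spor.coxNodes Spor.ON.edges) (by decide +kernel) (fun _ h => node_sq _ _ h) (invOf_ge rfl)

theorem y_code : ∀ γ, y (code γ) = PresentedGroup.of γ := by
  intro γ; cases γ <;> rfl

theorem y_rels : ∀ r ∈ TCX.ON.R, ev y r = 1 :=
  ders_sound (hs := TCX.ON.hints) y_inv (letter_rels y_inv y_code) (by decide +kernel)

theorem exists_iso : ∃ e : Spor.ON ≃* CG.ON.PG, ∀ γ, e (PresentedGroup.of γ) = CG.ON.act.gen (code γ) :=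
  iso_of_bound y_code (by intro γ; cases γ <;> decide) (TCX.ON.bounds _ y y_rels) CG.ON.hinv
    (CG.ON.base.rels (by decide +kernel)) CG.ON.tabOK.cl_eq_top
    (by
      intro a ha
      rw [List.mem_range] at ha
      interval_cases a
      · exact ⟨.g, Or.inl rfl⟩
      · exact ⟨.g, Or.inr (by decide +kernel)⟩
      · exact ⟨.a, Or.inl rfl⟩
      · exact ⟨.b, Or.inl rfl⟩
      · exact ⟨.c, Or.inl rfl⟩
      · exact ⟨.d, Or.inl rfl⟩
      · exact ⟨.e, Or.inl rfl⟩
      · exact ⟨.f, Or.inl rfl⟩)
    CG.ON.card.ge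

theorem iso : Nonempty (Spor.ON ≃* CG.ON.PG) := exists_iso.nonempty

theorem card : Nat.card Spor.ON = 460815505920 := by
  obtain ⟨e⟩ := iso
  rw [Nat.card_congr e.toEquiv, CG.ON.card]

end Cfsg.Agent.Id.ON
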