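import Cfsg.Agent.Lib.Id.RuF
import Cfsg.Agent.Lib.Grp.Ru.Out

/-! The Rudvalis group is the table group `CG.Ru.PG`. -/

set_option autoImplicit false
set_option maxRecDepth 100000
set_option Elab.async false

namespace Cfsg.Agent.Id.Ru

open Cfsg.Agent.CG Cfsg.Spor Finset Pointwise MulAction

theorem aut_add (g : fourRu) (v w : ruLattice) : g • (v + w) = g • v + g • w := g.2.1 v w
theorem aut_I (g : fourRu) (v : ruLattice) : g • ruI v = ruI (g • v) := g.2.2.1 v
theorem aut_norm (g : fourRu) (v : ruLattice) : ruNorm (g • v : ruLattice) = ruNorm v := g.2.2.2 v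

theorem aut_dot (g : fourRu) (v w : ruLattice) : dot (g • v : ruLattice) (g • w : ruLattice) = dot v w := by
  have h1 := aut_norm g (v + w)
  rw [aut_add, AddSubgroup.coe_add, AddSubgroup.coe_add, norm_add, norm_add, aut_norm, aut_norm] at h1
  omega

theorem exists_iota : ∃ g : fourRu, ∀ v, g • v = ruI v :=
  exists_aut (AddMonoidHom.mk' ruI fun _ _ => Subtype.ext (smul_add _ _ _)) (fun _ => rfl) fun v => norm_I v

/-- Multiplication by `i`. -/
noncomputable def iota : fourRu := exists_iota.choose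

theorem iota_smul (v : ruLattice) : iota • v = ruI v := exists_iota.choose_spec v

theorem iota_pow (e : ℕ) (v : ruLattice) : ((iota ^ e • v : ruLattice) : RuVec) = gI ^ e • (v : RuVec) := by
  induction e with
  | zero => simp
  | succ e ih => rw [pow_succ', pow_succ', mul_smul, mul_smul, iota_smul, ← ih]; rfl

theorem aut_ext {g h : fourRu} (e : ∀ v : ruLattice, g • v = h • v) : g = h := Subtype.ext (Equiv.ext e)

theorem iota_central : Subgroup.zpowers iota ≤ Subgroup.center fourRu :=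
  (Subgroup.zpowers_le).2 (Subgroup.mem_center_iff.2 fun g => aut_ext fun v => by
    rw [mul_smul, mul_smul, iota_smul, iota_smul, aut_I])

theorem aut_iota (g : fourRu) (e : ℕ) (v : ruLattice) : g • iota ^ e • v = iota ^ e • g • v := by
  rw [smul_smul, smul_smul, Subgroup.mem_center_iff.1 (iota_central (Subgroup.npow_mem_zpowers _ e)) g]

/-- The minimal vectors as lattice elements. -/
noncomputable def PV (n : ℕ) (h : n < 16240) : ruLattice := ⟨TV n, (TV_mem h).1⟩

theorem TV_add {j e : ℕ} (he : e < 4) : TV (4 * j + e) = gI ^ e • dv (tab j) := by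
  rw [TV, show (4 * j + e) % 4 = e by omega, show (4 * j + e) / 4 = j by omega]

theorem orderOf_iota : orderOf iota = 4 := by
  refine orderOf_eq_prime_pow (p := 2) (n := 1) (fun h => ?_) (aut_ext fun v => Subtype.ext ?_)
  · have := iota_pow (2 ^ 1) (PV 0 (by norm_num))
    rw [h, one_smul] at this
    have h2 : TV (4 * 0 + 0) = TV (4 * 0 + 2) := by
      rw [TV_add (j := 0) (e := 2) (by norm_num), ← one_smul GaussianInt (dv (tab 0)), ← pow_zero gI,
        ← TV_add (by norm_num)]
      exact this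
    exact absurd (TV_inj (by simp) (by simp) h2) (by norm_num)
  · rw [iota_pow, show gI ^ 2 ^ (1 + 1) = 1 by decide, one_smul, one_smul]

/-! ### The upper bound -/

theorem chain_bound {G Ω : Type*} [Group G] [MulAction G Ω] (F : ℕ → Ω) (c : ℕ → ℕ) (T : ℕ)
    (h : ∀ t < T, ∃ S : Set Ω, (S.Finite ∧ S.ncard ≤ c t) ∧ ∀ g : G, (∀ s < t, g • F s = F s) → g • F t ∈ S)
    (h1 : ∀ g : G, (∀ s < T, g • F s = F s) → g = 1) : Finite G ∧ Nat.card G ≤ ∏ t ∈ range T, c t := by
  let H : ℕ → Subgroup G := fun t => ⨅ s ∈ range t, stabilizer G (F s)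
  have hH : ∀ t g, g ∈ H t ↔ ∀ s < t, g • F s = F s := fun t g => by simp [H]
  have key : ∀ t ≤ T, Finite (H t) ∧ Nat.card (H t) ≤ ∏ t ∈ Ico t T, c t := by
    intro t ht
    induction ht using Nat.decreasingInduction with
    | self =>
      rw [show H T = ⊥ from eq_bot_iff.2 fun g hg => h1 g ((hH _ _).1 hg)]
      exact ⟨inferInstance, by simp⟩
    | of_succ t ht ih =>
      obtain ⟨S, h2, h3⟩ := h t ht
      rw [prod_eq_prod_Ico_succ_bot ht]
      refine card_le_of_orbit' (H t) (F t) h2 (fun g hg => h3 g ((hH _ _).1 hg)) ?_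
      rwa [show H t ⊓ stabilizer G (F t) = H (t + 1) from Subgroup.ext fun g => by
        rw [Subgroup.mem_inf, hH, hH, Nat.forall_lt_succ_right]; rfl]
  have := key 0 (Nat.zero_le _)
  rw [show H 0 = ⊤ by simp [H], Subgroup.card_top, ← range_eq_Ico] at this
  have h2 := this.1
  exact ⟨Finite.of_equiv _ Subgroup.topEquiv.toEquiv, this.2⟩

/-- The fixed vectors. -/
noncomputable def FV (t : ℕ) : ruLattice := PV (fn t) (fn_lt t)

/-- The code of a table vector. -/
noncomputable def cd (n : ℕ) : ℕ := rt (n % 4) (tab (n / 4))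

theorem hF : colsZ eF cF sF = true := by decide +kernel

theorem co_lc {x r : ℕ} (hr : r < 56) :
    co (lc eF fun i => (dig 4096 x i : ℤ) - (4 : ℕ)) r = dot (dv x) (iota ^ (r % 2) • FV (r / 2) : ruLattice) := by
  have h1 : allLt (fun r => force (nth rF 0 r) fun y => band (Nat.beq y (rt (r % 2) (cd (fn (r / 2)))))
      (allLt (fun p => Nat.beq (dig 4096 (nth eF 0 p) r) (dig 4096 y p)) 56)) 56 = true := by decide +kernel
  have h2 := (allLt_iff _ _).1 h1 r hr
  rw [force_eq, band_eq, beq_iff, allLt_iff] at h2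
  have h3 := rt_spec (TV_rt (fn_lt (r / 2))).1 (r % 2)
  rw [(TV_rt (fn_lt (r / 2))).2, ← cd, ← h2.1] at h3
  rw [iota_pow, FV, PV, ← h3.2, lc, co_sum, dot]
  refine sum_congr rfl fun p hp => ?_
  rw [co_zsmul, co_dv _ hr, co_dv _ (mem_range.1 hp), co_dv _ (mem_range.1 hp),
    (beq_iff _ _).1 (h2.2 p (mem_range.1 hp))]
  rfl

theorem linp_congr {x y k : ℕ} (hk : k ≤ 56) (h : ∀ r < k, dot (dv x) (iota ^ (r % 2) • FV (r / 2) : ruLattice) =
    dot (dv y) (iota ^ (r % 2) • FV (r / 2) : ruLattice)) : linp 4096 cF x % 4096 ^ k = linp 4096 cF y % 4096 ^ k := by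
  have d : (4096 : ℤ) ^ k ∣ 4096 ^ 56 := pow_dvd_pow _ hk
  have h1 := (lin_modEq hF x 4).of_dvd d
  have h2 := (lin_modEq hF y 4).of_dvd d
  refine Int.natCast_modEq_iff.1 ?_
  rw [Nat.cast_pow, Nat.cast_ofNat]
  refine h1.trans (Int.ModEq.trans (Int.ModEq.add_right _ (Int.ModEq.sum fun r hr => ?_)) h2.symm)
  by_cases hr' : r < k
  · rw [co_lc (mem_range.1 hr), co_lc (mem_range.1 hr), h r hr']
  · have : (4096 : ℤ) ^ k ∣ 4096 ^ r := pow_dvd_pow _ (by omega)
    exact (Int.modEq_zero_iff_dvd.2 (this.mul_left _)).trans (Int.modEq_zero_iff_dvd.2 (this.mul_left _)).symm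

/-- The check of one entry of the list of tests. -/
noncomputable def lvOK (t e : ℕ) (l : Lv) : Bool :=
  band (Nat.beq l.M (4096 ^ min (2 * (t + 1)) 56)) (band (Nat.beq l.tg (linp 4096 cF (rt (4 - e) (cd (fn (t + 1)))) % l.M))
    (band (Nat.beq l.e e) (eqL l.cls (nth clsL [] t))))

theorem level {t : ℕ} (ht : t < 46) (g : fourRu) (hg : ∀ s < t + 1, g • FV s = FV s) :
    ∃ n ∈ nth clsL [] t, TV n = (g • FV (t + 1) : ruLattice) := by
  obtain ⟨n, hn, e⟩ := exists_TV (v := (g • FV (t + 1) : ruLattice))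
    ⟨Subtype.prop _, (aut_norm g _).trans (TV_mem (fn_lt _)).2⟩
  refine ⟨n, ?_, e⟩
  have h1 : allLt (fun t => allLt (fun e => anyL (lvOK t e) lvL) 4) 46 = true := by decide +kernel
  obtain ⟨l, hl, h2⟩ := (anyL_iff _ _).1 ((allLt_iff _ _).1 ((allLt_iff _ _).1 h1 t ht) (n % 4) (Nat.mod_lt _ (by norm_num)))
  unfold lvOK at h2
  rw [band_eq, band_eq, band_eq, beq_iff, beq_iff, beq_iff, eqL_iff] at h2
  obtain ⟨h2, h3, h4, h5⟩ := h2
  have h6 := (chk (j := n / 4) (by omega)).2.2.2.2.2 l hl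
  unfold lvT at h6
  rw [bor_eq, bnot_eq, beq_false_iff, bit_maskOf, h5, h4, h3, h2] at h6
  refine (show Nat.add (Nat.mul 4 (n / 4)) (n % 4) = n from Nat.div_add_mod n 4) ▸ h6.resolve_left (not_not.2 ?_)
  refine linp_congr (min_le_right _ _) fun r hr => ?_
  have h7 := rt_spec (TV_rt (fn_lt (t + 1))).1 (4 - n % 4)
  rw [(TV_rt (fn_lt (t + 1))).2, ← cd] at h7
  have h8 : dv (tab (n / 4)) = (g • iota ^ (4 - n % 4) • FV (t + 1) : ruLattice) := by
    rw [aut_iota, iota_pow, ← e, TV, smul_smul, ← pow_add, Nat.sub_add_cancel (Nat.mod_lt _ (by norm_num)).le,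
      show gI ^ 4 = 1 by decide, one_smul]
  have h9 := aut_dot g (iota ^ (4 - n % 4) • FV (t + 1)) (iota ^ (r % 2) • FV (r / 2))
  rw [aut_iota g (r % 2), hg (r / 2) (by omega)] at h9
  rw [h7.2, h8, h9, iota_pow (4 - n % 4)]
  rfl

theorem bound : Finite fourRu ∧ Nat.card fourRu ≤ 4 * 145926144000 := by
  have h := chain_bound (G := fourRu) FV (fun t => Nat.casesOn t 16240 fun t => (nth clsL [] t).length) 47 ?_ ?_
  · rwa [show (∏ t ∈ range 47, (Nat.casesOn t 16240 fun t => (nth clsL [] t).length : ℕ)) = 4 * 145926144000 by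
      decide +kernel] at h
  · rintro (_ | t) ht
    · exact ⟨SL, SL_bound, fun g _ => ⟨Subtype.prop _, (aut_norm g _).trans (TV_mem (fn_lt _)).2⟩⟩
    · have h1 := fun g hg => level (by omega : t < 46) g hg
      change ∃ S : Set ruLattice, (S.Finite ∧ S.ncard ≤ (nth clsL [] t).length) ∧ _
      generalize nth clsL [] t = L at h1
      have h2 : (TV '' (L.toFinset : Set ℕ)).Finite := (finite_toSet _).image _
      refine ⟨Subtype.val ⁻¹' (TV '' (L.toFinset : Set ℕ)), ⟨h2.preimage Subtype.val_injective.injOn, ?_⟩, fun g hg => ?_⟩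
      · refine (Set.ncard_le_ncard_of_injOn Subtype.val (fun _ h => h) Subtype.val_injective.injOn h2).trans
          ((Set.ncard_image_le (finite_toSet _)).trans ?_)
        rw [Set.ncard_coe_finset]
        exact List.toFinset_card_le _
      · obtain ⟨n, hn, e⟩ := h1 g hg
        exact ⟨n, by simpa using hn, e⟩
  · intro g hg
    let f := AddMonoidHom.mk' (fun v : ruLattice => g • v) (aut_add g)
    refine aut_ext (ext_W (P := fun v => g • v = (1 : fourRu) • v) ?_ ?_ ?_ ?_ fun k hk => ?_) <;> simp only [one_smul]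
    · exact f.map_zero
    · intro v w h1 h2; rw [aut_add, h1, h2]
    · intro v h1; exact (f.map_neg v).trans (congrArg _ h1)
    · intro v h1; rw [aut_I, h1]
    · have := hg (19 + k) (by omega)
      rwa [show FV (19 + k) = ⟨W k, W_mem k (by omega)⟩ from Subtype.ext (TV_fn hk)] at this

/-! ### The action on lines -/

/-- The representative of a line. -/
noncomputable def pv (j : Fin 4060) : ruLattice := ⟨dv (tab j), (tab_mem j.2).1⟩

/-- The lines. -/
noncomputable def pt (j : Fin 4060) : Set ruLattice := orbit (Subgroup.zpowers iota) (pv j)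

theorem smul_pt (g : fourRu) {i j : Fin 4060} {e : ℕ} (h : g • pv i = iota ^ e • pv j) : g • pt i = pt j := by
  have : (Subgroup.zpowers iota).Normal := ⟨fun z hz g => by
    rwa [Subgroup.mem_center_iff.1 (iota_central hz) g, mul_inv_cancel_right]⟩
  rw [pt, smul_orbit_eq_orbit_smul, h]
  exact orbit_smul (⟨_, Subgroup.npow_mem_zpowers _ e⟩ : Subgroup.zpowers iota) _

theorem exists_pow {z : fourRu} (h : z ∈ Subgroup.zpowers iota) : ∃ e < 4, iota ^ e = z := by
  have := bound.1
  classical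
  rw [mem_zpowers_iff_mem_range_orderOf, orderOf_iota] at h
  simpa using h

theorem pt_inj : Function.Injective pt := by
  intro i j h
  obtain ⟨⟨z, hz⟩, e⟩ := orbit_eq_iff.1 h
  obtain ⟨k, hk, rfl⟩ := exists_pow hz
  have h1 : TV (4 * j + k) = TV (4 * i + 0) := by
    rw [TV_add hk, TV_add (by norm_num), pow_zero, one_smul]
    exact (iota_pow k (pv j)).symm.trans (congrArg Subtype.val e)
  have := TV_inj (by simp; omega) (by simp; omega) h1
  exact Fin.ext (by omega)

theorem iso : Nonempty (Cfsg.Spor.Ru ≃* CG.Ru.PG) := by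
  have := bound.1
  obtain ⟨f, h1, h2, -⟩ := exists_hom_of_realized (X := fourRu) pt_inj (P := CG.Ru.PG) (PG_le fun a ha => by
    obtain ⟨f, h1, h2, h3⟩ := gens a ha
    obtain ⟨g, hg⟩ := exists_aut f h1 h2
    refine ⟨g, fun j => ?_⟩
    obtain ⟨e, -, h4⟩ := h3 j (tab_mem j.2).1
    exact smul_pt g (e := e) (Subtype.ext (by rw [hg, iota_pow]; exact h4))) (Subgroup.zpowers iota)
    (fun z hz j => by obtain ⟨e, -, rfl⟩ := exists_pow hz; exact smul_pt _ rfl)
    (by rw [Nat.card_zpowers, orderOf_iota, CG.Ru.card]; exact bound.2)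
  exact quotient_center_equiv f h1 (h2 ▸ iota_central)
    (center_eq_bot_of_cent CG.Ru.base CG.Ru.centP [0, 1] (by decide +kernel))

end Cfsg.Agent.Id.Ru
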