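import Cfsg.Agent.Lib.Id.LinP
import Cfsg.Prelude.Def_Spor_Ru

/-! Real coordinates and codes for vectors of the Rudvalis lattice. -/

set_option autoImplicit false

namespace Cfsg.Agent.Id.Ru

open Cfsg.Agent.CG Cfsg.Spor Finset

/-- The complex coordinate under a real coordinate. -/
def ix (p : ℕ) : RuIdx := (Fin.ofNat 7 (p / 4), Fin.ofNat 4 p)

/-- The 56 real coordinates. -/
def co (v : RuVec) (p : ℕ) : ℤ := if p < 28 then (v (ix p)).re else (v (ix p)).im

/-- The vector with given real coordinates. -/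
def vec (f : ℕ → ℤ) : RuVec := fun q => ⟨f (4 * q.1 + q.2), f (28 + (4 * q.1 + q.2))⟩

theorem ix_num : ∀ q : RuIdx, ix (4 * q.1 + q.2) = q ∧ ix (28 + (4 * q.1 + q.2)) = q ∧ 4 * q.1.1 + q.2.1 < 28 := by
  decide

theorem num_ix : ∀ p < 28, 4 * (ix p).1.1 + (ix p).2.1 = p ∧ ix (28 + p) = ix p := by decide

theorem co_lo (v : RuVec) {p : ℕ} (h : p < 28) : co v p = (v (ix p)).re := if_pos h

theorem co_hi (v : RuVec) {p : ℕ} (h : p < 28) : co v (28 + p) = (v (ix p)).im := by
  rw [co, if_neg (by omega), (num_ix p h).2]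

theorem lo_hi {P : ℕ → Prop} (h1 : ∀ p < 28, P p) (h2 : ∀ p < 28, P (28 + p)) : ∀ p < 56, P p := by
  intro p hp
  by_cases h : p < 28
  · exact h1 p h
  · obtain ⟨q, rfl⟩ : ∃ q, p = 28 + q := ⟨p - 28, by omega⟩
    exact h2 q (by omega)

theorem co_vec (f : ℕ → ℤ) : ∀ p < 56, co (vec f) p = f p :=
  lo_hi (fun p h => by rw [co_lo _ h, vec]; simp only [(num_ix p h).1])
    (fun p h => by rw [co_hi _ h, vec]; simp only [(num_ix p h).1])

theorem ext_co {v w : RuVec} (h : ∀ p < 56, co v p = co w p) : v = w := by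
  funext q
  obtain ⟨h1, -, h3⟩ := ix_num q
  have a := h _ (by omega : 4 * q.1.1 + q.2.1 < 56)
  have b := h _ (by omega : 28 + (4 * q.1.1 + q.2.1) < 56)
  rw [co_lo _ h3, co_lo _ h3, h1] at a
  rw [co_hi _ h3, co_hi _ h3, h1] at b
  exact Zsqrtd.ext a b

/-- A coordinate as an additive map. -/
def coH (p : ℕ) : RuVec →+ ℤ := AddMonoidHom.mk' (fun v => co v p) fun v w => by
  unfold co; split_ifs <;> simp

theorem co_add (v w : RuVec) (p : ℕ) : co (v + w) p = co v p + co w p := (coH p).map_add v w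
theorem co_sub (v w : RuVec) (p : ℕ) : co (v - w) p = co v p - co w p := (coH p).map_sub v w
theorem co_neg (v : RuVec) (p : ℕ) : co (-v) p = -co v p := (coH p).map_neg v
theorem co_zero (p : ℕ) : co 0 p = 0 := (coH p).map_zero
theorem co_zsmul (k : ℤ) (v : RuVec) (p : ℕ) : co (k • v) p = k * co v p := (coH p).map_zsmul k v
theorem co_sum {ι : Type*} (s : Finset ι) (f : ι → RuVec) (p : ℕ) : co (∑ i ∈ s, f i) p = ∑ i ∈ s, co (f i) p :=
  map_sum (coH p) f s

theorem co_I_lo (v : RuVec) {p : ℕ} (h : p < 28) : co (gI • v) p = -co v (28 + p) := by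
  rw [co_lo _ h, co_hi _ h]; simp [gI]

theorem co_I_hi (v : RuVec) {p : ℕ} (h : p < 28) : co (gI • v) (28 + p) = co v p := by
  rw [co_lo _ h, co_hi _ h]; simp [gI]

theorem I_I (v : RuVec) : gI • gI • v = -v := by
  rw [smul_smul, show gI * gI = -1 by decide, neg_one_smul]

theorem sum56 {M : Type*} [AddCommMonoid M] (f : ℕ → M) :
    ∑ p ∈ range 56, f p = ∑ p ∈ range 28, f p + ∑ p ∈ range 28, f (28 + p) := sum_range_add f 28 28

theorem sum_ix {M : Type*} [AddCommMonoid M] (f : RuIdx → M) : ∑ q, f q = ∑ p ∈ range 28, f (ix p) :=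
  sum_bij' (fun q _ => 4 * q.1.1 + q.2.1) (fun p _ => ix p) (fun q _ => mem_range.2 (ix_num q).2.2)
    (fun _ _ => mem_univ _) (fun q _ => (ix_num q).1) (fun p hp => (num_ix p (mem_range.1 hp)).1)
    (fun q _ => by rw [(ix_num q).1])

/-- The real inner product. -/
def dot (v w : RuVec) : ℤ := ∑ p ∈ range 56, co v p * co w p

theorem norm_eq_dot (v : RuVec) : ruNorm v = dot v v := by
  rw [ruNorm, sum_ix, dot, sum56, ← sum_add_distrib]
  refine sum_congr rfl fun p hp => ?_
  rw [co_lo _ (mem_range.1 hp), co_hi _ (mem_range.1 hp), Zsqrtd.norm_def]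
  ring

theorem dot_comm (v w : RuVec) : dot v w = dot w v := sum_congr rfl fun _ _ => mul_comm _ _

theorem dot_add_left (u v w : RuVec) : dot (u + v) w = dot u w + dot v w := by
  simp [dot, co_add, add_mul, sum_add_distrib]

theorem dot_neg_left (v w : RuVec) : dot (-v) w = -dot v w := by simp [dot, co_neg]

theorem dot_zero_left (w : RuVec) : dot 0 w = 0 := by simp [dot, co_zero]

theorem dot_zsmul_left (k : ℤ) (v w : RuVec) : dot (k • v) w = k * dot v w := by
  simp only [dot, co_zsmul, mul_sum, mul_assoc]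

theorem dot_sum_left {ι : Type*} (s : Finset ι) (f : ι → RuVec) (w : RuVec) :
    dot (∑ i ∈ s, f i) w = ∑ i ∈ s, dot (f i) w := by
  simp only [dot, co_sum, sum_mul]; rw [sum_comm]

theorem norm_add (v w : RuVec) : ruNorm (v + w) = ruNorm v + 2 * dot v w + ruNorm w := by
  simp only [norm_eq_dot]
  rw [dot_add_left, dot_comm v (v + w), dot_comm w (v + w), dot_add_left, dot_add_left, dot_comm w v]
  ring

theorem norm_zsmul (k : ℤ) (v : RuVec) : ruNorm (k • v) = k * k * ruNorm v := by
  rw [norm_eq_dot, norm_eq_dot, dot_zsmul_left, dot_comm, dot_zsmul_left, mul_assoc]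

theorem eq_zero_of_norm {v : RuVec} (h : ruNorm v = 0) : v = 0 := by
  rw [norm_eq_dot, dot, sum_eq_zero_iff_of_nonneg fun _ _ => mul_self_nonneg _] at h
  exact ext_co fun p hp => by rw [co_zero]; exact mul_self_eq_zero.1 (h p (mem_range.2 hp))

theorem norm_I (v : RuVec) : ruNorm (gI • v) = ruNorm v := by
  simp [ruNorm, Zsqrtd.norm_mul, show gI.norm = 1 by decide]

/-! ### Codes -/

/-- The vector with code `x`. -/
def dv (x : ℕ) : RuVec := vec fun p => (dig 4096 x p : ℤ) - 4

theorem co_dv (x : ℕ) {p : ℕ} (h : p < 56) : co (dv x) p = (dig 4096 x p : ℤ) - 4 := co_vec _ p h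

/-- Valid codes. -/
noncomputable abbrev okv (x : ℕ) : Bool := Nat.beq (red 4096 9 56 x) x

theorem okv_le {x : ℕ} (h : okv x = true) {p : ℕ} (hp : p < 56) : dig 4096 x p ≤ 8 :=
  Nat.le_of_lt_succ (dig_lt_of_red (by norm_num) (by norm_num) ((beq_iff _ _).1 h) hp)

theorem okv_pk {x : ℕ} (h : okv x = true) : x = pk 4096 56 (dig 4096 x) :=
  eq_pk_of_red (by norm_num) (by norm_num) ((beq_iff _ _).1 h)

theorem okv_of_pk {f : ℕ → ℕ} (h : ∀ p < 56, f p ≤ 8) : okv (pk 4096 56 f) = true := by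
  rw [beq_iff, red_eq]
  refine pk_congr fun p hp => ?_
  rw [dig_pk (fun i hi => (h i hi).trans_lt (by norm_num)) hp, Nat.mod_eq_of_lt (Nat.lt_succ_of_le (h p hp))]

theorem dv_inj {x y : ℕ} (hx : okv x = true) (hy : okv y = true) (h : dv x = dv y) : x = y := by
  rw [okv_pk hx, okv_pk hy]
  refine pk_congr fun p hp => ?_
  have := congrArg (co · p) h
  simp only [co_dv _ hp] at this
  omega

theorem abs_co_dv {x : ℕ} (h : okv x = true) {p : ℕ} (hp : p < 56) : |co (dv x) p| ≤ 4 := by
  have := okv_le h hp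
  rw [co_dv _ hp, abs_le]; omega

theorem pk_lt {B D : ℕ} {f : ℕ → ℕ} (h : ∀ i < D, f i < B) : pk B D f < B ^ D := by
  induction D generalizing f with
  | zero => simp [pk]
  | succ D ih =>
    rw [pk_succ, pow_succ']
    have h1 := ih (f := fun i => f (i + 1)) fun i hi => h _ (by omega)
    have h2 := h 0 (by omega)
    nlinarith [Nat.mul_le_mul_left B (Nat.succ_le_of_lt h1)]

theorem pk_add (B n m : ℕ) (f : ℕ → ℕ) : pk B (n + m) f = pk B n f + B ^ n * pk B m fun i => f (n + i) := by
  unfold pk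
  rw [sum_range_add, mul_sum]
  congr 1
  exact sum_congr rfl fun i _ => by ring

/-- `4096 ^ 28`. -/
def h28 : ℕ := 0x1000000000000000000000000000000000000000000000000000000000000000000000000000000000000
/-- The number with 28 digits 8. -/
def e28 : ℕ := 0x8008008008008008008008008008008008008008008008008008008008008008008008008008008008

/-- Multiplication by `i` on codes. -/
def rot (x : ℕ) : ℕ := Nat.add (Nat.sub e28 (Nat.div x h28)) (Nat.mul h28 (Nat.mod x h28))

theorem rot_gen {B n : ℕ} {f : ℕ → ℕ} (hf : ∀ i < n + n, f i ≤ 8) (hB : 8 < B) :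
    (pk B n fun _ => 8) - pk B (n + n) f / B ^ n + B ^ n * (pk B (n + n) f % B ^ n) =
      pk B (n + n) fun p => if p < n then 8 - f (n + p) else f (p - n) := by
  have l : pk B n f < B ^ n := pk_lt fun i hi => (hf i (by omega)).trans_lt hB
  rw [pk_add, pk_add, Nat.add_mul_div_left _ _ (Nat.pos_of_ne_zero (by rintro e; omega)), Nat.div_eq_of_lt l,
    zero_add, Nat.add_mul_mod_self_left, Nat.mod_eq_of_lt l]
  congr 1
  · apply Nat.sub_eq_of_eq_add
    unfold pk
    rw [← sum_add_distrib]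
    refine sum_congr rfl fun i hi => ?_
    have := hf (n + i) (by have := mem_range.1 hi; omega)
    beta_reduce
    rw [if_pos (mem_range.1 hi), ← add_mul, Nat.sub_add_cancel this]
  · congr 1
    exact pk_congr fun i _ => by simp

theorem rot_eq {x : ℕ} (h : okv x = true) :
    rot x = pk 4096 56 fun p => if p < 28 then 8 - dig 4096 x (28 + p) else dig 4096 x (p - 28) := by
  have e1 : h28 = 4096 ^ 28 := by decide +kernel
  have e2 : e28 = pk 4096 28 fun _ => 8 := by decide +kernel
  have := rot_gen (B := 4096) (n := 28) (f := dig 4096 x) (fun i hi => okv_le h hi) (by norm_num)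
  rw [← e1, ← e2, show 28 + 28 = 56 from rfl, ← okv_pk h] at this
  exact this

theorem rot_spec {x : ℕ} (h : okv x = true) : okv (rot x) = true ∧ dv (rot x) = gI • dv x := by
  have b : ∀ p < 56, (if p < 28 then 8 - dig 4096 x (28 + p) else dig 4096 x (p - 28)) ≤ 8 := by
    intro p hp
    split_ifs
    · omega
    · exact okv_le h (by omega)
  rw [rot_eq h]
  refine ⟨okv_of_pk b, ext_co (lo_hi (fun p hp => ?_) fun p hp => ?_)⟩
  · have := okv_le h (p := 28 + p) (by omega)
    rw [co_I_lo _ hp, co_dv _ (by omega), co_dv _ (by omega),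
      dig_pk (fun i hi => (b i hi).trans_lt (by norm_num)) (by omega), if_pos hp]
    omega
  · rw [co_I_hi _ hp, co_dv _ (by omega), co_dv _ (by omega),
      dig_pk (fun i hi => (b i hi).trans_lt (by norm_num)) (by omega), if_neg (by omega), Nat.add_sub_cancel_left]

/-- Signed packing. -/
def pkz (D : ℕ) (f : ℕ → ℤ) : ℤ := ∑ r ∈ range D, f r * 4096 ^ r

theorem pkz_eq_zero {D : ℕ} {f : ℕ → ℤ} (h1 : ∀ r < D, |f r| < 4096) (h2 : (4096 : ℤ) ^ D ∣ pkz D f) :
    ∀ r < D, f r = 0 := by
  induction D generalizing f with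
  | zero => omega
  | succ D ih =>
    have e : pkz (D + 1) f = f 0 + 4096 * pkz D fun r => f (r + 1) := by
      unfold pkz
      rw [sum_range_succ', mul_sum, add_comm]
      simp only [pow_zero, mul_one, pow_succ]
      congr 1
      exact sum_congr rfl fun i _ => by ring
    rw [e, pow_succ'] at h2
    have h0 : f 0 = 0 := Int.eq_zero_of_abs_lt_dvd
      ((dvd_add_left (dvd_mul_right _ _)).1 (dvd_of_mul_right_dvd h2)) (h1 0 (by omega))
    rw [h0, zero_add, mul_dvd_mul_iff_left (by norm_num)] at h2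
    have := ih (fun r hr => h1 (r + 1) (by omega)) h2
    intro r hr
    cases r with
    | zero => exact h0
    | succ r => exact this r (by omega)

/-- `4096 ^ 56`. -/
def h56 : ℕ := Nat.mul h28 h28
/-- The number with 56 digits 4. -/
def f56 : ℕ := Nat.mul (Nat.succ h28) (Nat.div e28 2)

theorem h56_eq : (h56 : ℤ) = 4096 ^ 56 := by decide +kernel

theorem pkz_dv {x : ℕ} (h : okv x = true) : pkz 56 (co (dv x)) = x - f56 := by
  have e : (f56 : ℤ) = pkz 56 fun _ => 4 := by decide +kernel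
  rw [e]
  conv_rhs => rw [okv_pk h]
  unfold pkz pk
  push_cast
  rw [← sum_sub_distrib]
  exact sum_congr rfl fun p hp => by rw [co_dv _ (mem_range.1 hp)]; ring

/-- Sum of a list. -/
noncomputable def sumL (l : List ℕ) : ℕ := List.rec (motive := fun _ => ℕ) 0 (fun a _ ih => Nat.add a ih) l

theorem sumL_eq (l : List ℕ) : sumL l = ∑ i ∈ range l.length, l.getD i 0 := by
  induction l with
  | nil => rfl
  | cons a l ih =>
    have : sumL (a :: l) = a + sumL l := rfl
    rw [this, ih, List.length_cons, sum_range_succ', add_comm]; simp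

/-- The check of a family of 56 columns: codes `es`, shifted codes `cs` with sum `c0`. -/
noncomputable def colsZ (es cs : List ℕ) (c0 : ℕ) : Bool :=
  band (Nat.beq cs.length 56) (band (Nat.beq (sumL cs) c0) (allLt (fun i => band (okv (nth es 0 i))
    (Nat.beq (Nat.add (nth cs 0 i) f56) (Nat.add (nth es 0 i) h56))) 56))

/-- The combination of the columns with coefficients `a`. -/
noncomputable def lc (es : List ℕ) (a : ℕ → ℤ) : RuVec := ∑ i ∈ range 56, a i • dv (nth es 0 i)

theorem colsZ_ok {es cs : List ℕ} {c0 : ℕ} (h : colsZ es cs c0 = true) {i : ℕ} (hi : i < 56) :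
    okv (nth es 0 i) = true := by
  unfold colsZ at h
  rw [band_eq, band_eq, allLt_iff] at h
  exact ((band_eq _ _).1 (h.2.2 i hi)).1

theorem lin_modEq {es cs : List ℕ} {c0 : ℕ} (h : colsZ es cs c0 = true) (a o : ℕ) :
    (linp 4096 cs a : ℤ) ≡ pkz 56 (co (lc es fun i => (dig 4096 a i : ℤ) - o)) + o * c0 [ZMOD 4096 ^ 56] := by
  have hok := @colsZ_ok _ _ _ h
  unfold colsZ at h
  rw [band_eq, band_eq, allLt_iff, beq_iff, beq_iff] at h
  obtain ⟨h1, h2, h3⟩ := h
  have e : pkz 56 (co (lc es fun i => (dig 4096 a i : ℤ) - o)) =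
      ∑ i ∈ range 56, ((dig 4096 a i : ℤ) - o) * ((cs.getD i 0 : ℤ) - 4096 ^ 56) := by
    unfold pkz lc
    simp only [co_sum, co_zsmul, sum_mul]
    rw [sum_comm]
    refine sum_congr rfl fun i hi => ?_
    have h4 : nth cs 0 i + f56 = nth es 0 i + h56 := (beq_iff _ _).1 ((band_eq _ _).1 (h3 i (mem_range.1 hi))).2
    have h5 := pkz_dv (hok (mem_range.1 hi))
    rw [nth_eq cs] at h4
    rw [← h56_eq, show ((cs.getD i 0 : ℤ) - h56) = nth es 0 i - f56 by omega, ← h5, pkz, mul_sum]
    exact sum_congr rfl fun r _ => by ring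
  rw [e, linp_eq, ← h2, sumL_eq, h1]
  push_cast
  rw [mul_sum, ← sum_add_distrib]
  refine Int.ModEq.symm ((Int.modEq_iff_dvd).2 ⟨∑ i ∈ range 56, ((dig 4096 a i : ℤ) - o), ?_⟩)
  rw [← sum_sub_distrib, mul_sum]
  exact sum_congr rfl fun i _ => by ring

/-- The check that `D` times the vector `t` is the combination with coefficients coded by `a` (offset `o`). -/
noncomputable def cmb (cs : List ℕ) (c0 o a D t : ℕ) : Bool :=
  Nat.beq (Nat.mod (Nat.add (linp 4096 cs a) (Nat.mul D f56)) h56) (Nat.mod (Nat.add (Nat.mul D t) (Nat.mul o c0)) h56)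

theorem cmb_sound {es cs : List ℕ} {c0 : ℕ} (h : colsZ es cs c0 = true) {o a D t : ℕ} (ho : 224 * o + 4 * D < 4096)
    (ha : ∀ i < 56, dig 4096 a i ≤ 2 * o) (ht : okv t = true) (hc : cmb cs c0 o a D t = true) :
    (D : ℤ) • dv t = lc es fun i => (dig 4096 a i : ℤ) - o := by
  have h1 := lin_modEq h a o
  have h2 : linp 4096 cs a + D * f56 ≡ D * t + o * c0 [MOD h56] := (beq_iff _ _).1 hc
  have h3 := Int.natCast_modEq_iff.2 h2
  push_cast at h3
  rw [h56_eq] at h3
  set w := lc es fun i => (dig 4096 a i : ℤ) - o with hw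
  have h4 : (4096 : ℤ) ^ 56 ∣ pkz 56 fun r => D * co (dv t) r - co w r := by
    have : (pkz 56 fun r => D * co (dv t) r - co w r) = D * pkz 56 (co (dv t)) - pkz 56 (co w) := by
      unfold pkz
      rw [mul_sum, ← sum_sub_distrib]
      exact sum_congr rfl fun r _ => by ring
    rw [this, pkz_dv ht]
    have := ((h1.symm.add_right _).trans h3).dvd
    convert this using 1
    ring
  refine ext_co fun p hp => ?_
  rw [co_zsmul, ← sub_eq_zero]
  refine pkz_eq_zero (fun r hr => ?_) h4 p hp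
  have b1 := abs_co_dv ht hr
  have b2 : |co w r| ≤ ∑ _i ∈ range 56, (o : ℤ) * 4 := by
    rw [hw, lc, co_sum]
    refine (abs_sum_le_sum_abs _ _).trans (sum_le_sum fun i hi => ?_)
    have := ha i (mem_range.1 hi)
    rw [co_zsmul, abs_mul]
    exact mul_le_mul (by rw [abs_le]; omega) (abs_co_dv (colsZ_ok h (mem_range.1 hi)) hr) (abs_nonneg _)
      (by positivity)
  simp only [sum_const, card_range, nsmul_eq_mul, Nat.cast_ofNat] at b2
  have b3 : |(D : ℤ) * co (dv t) r| ≤ D * 4 := by
    rw [abs_mul, Nat.abs_cast]; exact mul_le_mul_of_nonneg_left b1 (by positivity)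
  have := abs_sub ((D : ℤ) * co (dv t) r) (co w r)
  omega

/-- Twice the inner product plus a constant. -/
noncomputable def dn (n x y : ℕ) : ℕ :=
  Nat.rec (motive := fun _ => ℕ → ℕ → ℕ) (fun _ _ => 0) (fun _ ih x y => force x fun x => force y fun y =>
    force (Nat.mod x 4096) fun a => force (Nat.mod y 4096) fun b =>
      Nat.add (Nat.add (Nat.mul a b) (Nat.mul (Nat.sub 8 a) (Nat.sub 8 b))) (ih (Nat.div x 4096) (Nat.div y 4096))) n x y

theorem dn_eq (n x y : ℕ) : dn n x y =
    ∑ p ∈ range n, (dig 4096 x p * dig 4096 y p + (8 - dig 4096 x p) * (8 - dig 4096 y p)) := by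
  induction n generalizing x y with
  | zero => rfl
  | succ n ih =>
    have : dn (n + 1) x y = force x fun x => force y fun y => force (x % 4096) fun a => force (y % 4096) fun b =>
      a * b + (8 - a) * (8 - b) + dn n (x / 4096) (y / 4096) := rfl
    rw [this, force_eq, force_eq, force_eq, force_eq, ih, sum_range_succ', add_comm]
    simp only [dig_zero, dig_succ]

theorem dn_dot {x y : ℕ} (hx : okv x = true) (hy : okv y = true) :
    (dn 56 x y : ℤ) = 2 * dot (dv x) (dv y) + 1792 := by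
  rw [dn_eq, dot, mul_sum, show (1792 : ℤ) = ∑ _p ∈ range 56, 32 by simp, ← sum_add_distrib]
  push_cast
  refine sum_congr rfl fun p hp => ?_
  have hp := mem_range.1 hp
  rw [co_dv _ hp, co_dv _ hp, Nat.cast_sub (okv_le hx hp), Nat.cast_sub (okv_le hy hp)]
  push_cast
  ring

end Cfsg.Agent.Id.Ru
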