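import Cfsg.Agent.Lib.Id.RuD1

/-! A basis of the Rudvalis lattice; integrality; automorphisms from matrices. -/

set_option autoImplicit false
set_option maxRecDepth 100000
set_option Elab.async false

namespace Cfsg.Agent.Id.Ru

open Cfsg.Agent.CG Cfsg.Spor Finset

/-- The real basis. -/
noncomputable def W (k : ℕ) : RuVec := dv (nth wes 0 k)

/-- The span of the basis. -/
noncomputable def Sp : AddSubgroup RuVec := AddSubgroup.closure (W '' Set.Iio 56)

theorem W_mem_Sp {k : ℕ} (h : k < 56) : W k ∈ Sp := AddSubgroup.subset_closure ⟨k, h, rfl⟩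

theorem hW : colsZ wes wcs w0 = true := by decide +kernel

/-- The columns `28 + i` are `i` times the columns `i`. -/
noncomputable def cplx (es : List ℕ) : Bool := allLt (fun i => Nat.beq (nth es 0 (Nat.add 28 i)) (rot (nth es 0 i))) 28

theorem cplx_sound {es cs : List ℕ} {c0 : ℕ} (h : colsZ es cs c0 = true) (h2 : cplx es = true) {i : ℕ} (hi : i < 28) :
    dv (nth es 0 (28 + i)) = gI • dv (nth es 0 i) := by
  have : nth es 0 (28 + i) = rot (nth es 0 i) := (beq_iff _ _).1 ((allLt_iff _ _).1 h2 i hi)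
  rw [this, (rot_spec (colsZ_ok h (by omega))).2]

theorem W_hi {i : ℕ} (hi : i < 28) : W (28 + i) = gI • W i := cplx_sound hW (by decide +kernel) hi

/-- The check that the vector `p.1` lies in the span. -/
noncomputable def inSp (p : ℕ × ℕ) : Bool :=
  band (okv p.1) (band (Nat.beq (red 4096 17 56 p.2) p.2) (cmb wcs w0 8 p.2 1 p.1))

theorem inSp_sound {p : ℕ × ℕ} (h : inSp p = true) : okv p.1 = true ∧ dv p.1 ∈ Sp := by
  unfold inSp at h
  rw [band_eq, band_eq] at h
  refine ⟨h.1, ?_⟩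
  have := cmb_sound hW (by norm_num) (fun i hi => Nat.le_of_lt_succ
    (dig_lt_of_red (by norm_num) (by norm_num) ((beq_iff _ _).1 h.2.1) hi)) h.1 h.2.2
  rw [Nat.cast_one, one_smul] at this
  rw [this]
  exact sum_mem fun i hi => zsmul_mem (W_mem_Sp (mem_range.1 hi)) _

theorem Sp_map {T : RuVec → RuVec} (hT : ∀ v w, T (v + w) = T v + T w) {H : AddSubgroup RuVec}
    (h : ∀ k < 56, T (W k) ∈ H) {v : RuVec} (hv : v ∈ Sp) : T v ∈ H := by
  have : Sp ≤ H.comap (AddMonoidHom.mk' T hT) := by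
    rw [Sp, AddSubgroup.closure_le]
    rintro _ ⟨k, hk, rfl⟩
    exact h k hk
  exact this hv

theorem I_mem_Sp {v : RuVec} (hv : v ∈ Sp) : gI • v ∈ Sp :=
  Sp_map (T := fun v => gI • v) (smul_add _) (lo_hi (fun k hk => W_hi hk ▸ W_mem_Sp (by omega))
    fun k hk => by rw [W_hi hk, I_I]; exact neg_mem (W_mem_Sp (by omega))) hv

theorem map_mem_Sp {T : RuVec → RuVec} (hT : ∀ v w, T (v + w) = T v + T w) {L : List (ℕ × ℕ)}
    (h1 : allL inSp ((nth wes 0 0, Nat.succ (Nat.mul 2 f56)) :: L) = true)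
    (h2 : allLt (fun k => decide (T (dv (nth wes 0 k)) = dv (nth L (nth wes 0 0, Nat.succ (Nat.mul 2 f56)) k).1)) 56 = true)
    {v : RuVec} (hv : v ∈ Sp) : T v ∈ Sp :=
  Sp_map hT (fun k hk => by
    rw [W, of_decide_eq_true ((allLt_iff _ _).1 h2 k hk)]
    exact (inSp_sound ((allL_iff _ _).1 h1 _ (nth_mem_cons _ _ k))).2) hv

theorem Rj_add (v w : RuVec) : ruRj (v + w) = ruRj v + ruRj w := by
  funext ⟨a, b⟩; fin_cases b <;> simp [ruRj, mul_add, add_comm]
theorem Rk_add (v w : RuVec) : ruRk (v + w) = ruRk v + ruRk w := by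
  funext ⟨a, b⟩; fin_cases b <;> simp [ruRk, mul_add, add_comm]
theorem Sg_add (v w : RuVec) : ruSign (v + w) = ruSign v + ruSign w := by
  funext p; simp only [ruSign, Pi.add_apply]; split_ifs <;> simp [add_comm]

theorem lattice_le : ruLattice ≤ Sp := by
  refine sInf_le ⟨fun v hv => ?_, fun v hv => ⟨I_mem_Sp hv,
    map_mem_Sp (L := tj) Rj_add (by decide +kernel) (by decide +kernel) hv,
    map_mem_Sp (L := tk) Rk_add (by decide +kernel) (by decide +kernel) hv,
    map_mem_Sp (L := ts) Sg_add (by decide +kernel) (by decide +kernel) hv,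
    map_mem_Sp (L := th) (fun _ _ => rfl) (by decide +kernel) (by decide +kernel) hv⟩⟩
  have e : ruTable = tT.map fun p => dv p.1 := by decide +kernel
  rw [e, List.mem_map] at hv
  obtain ⟨p, hp, rfl⟩ := hv
  exact (inSp_sound ((allL_iff _ _).1 (by decide +kernel : allL inSp tT = true) p hp)).2

/-- The generating maps, numbered. -/
def gm (a : ℕ) (v : RuVec) : RuVec :=
  if a = 0 then ruRj v else if a = 1 then ruRk v else if a = 2 then ruSign v else if a = 3 then ruShift v else gI • v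

theorem apw_mem (w : List ℕ) {v : RuVec} (hv : v ∈ ruLattice) : w.foldr gm v ∈ ruLattice := by
  induction w with
  | nil => exact hv
  | cons a w ih =>
    rw [List.foldr_cons]
    generalize w.foldr gm v = u at ih
    rw [ruLattice, AddSubgroup.mem_sInf] at ih ⊢
    intro L hL
    have := hL.2 u (ih L hL)
    unfold gm
    split_ifs <;> tauto

theorem W_mem : ∀ k < 56, W k ∈ ruLattice := by
  have h : ∀ k < 28, W k ∈ ruLattice := by
    intro k hk
    have h1 : allLt (fun k => band (blt (nth wrd (0, []) k).1 ruTable.length) (decide (dv (nth wes 0 k) =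
      (nth wrd (0, []) k).2.foldr gm (ruTable.getD (nth wrd (0, []) k).1 0)))) 28 = true := by decide +kernel
    have := (allLt_iff _ _).1 h1 k hk
    rw [band_eq, blt_iff, decide_eq_true_eq, List.getD_eq_getElem _ _ this.1] at this
    rw [W, this.2]
    exact apw_mem _ (AddSubgroup.mem_sInf.2 fun L hL => hL.1 _ (List.getElem_mem _))
  exact lo_hi h fun k hk => W_hi hk ▸ gI_smul_mem_ruLattice (h k hk)

theorem lattice_eq : ruLattice = Sp :=
  le_antisymm lattice_le ((AddSubgroup.closure_le _).2 (by rintro _ ⟨k, hk, rfl⟩; exact W_mem k hk))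

theorem lattice_induction {P : RuVec → Prop} (h0 : P 0) (hadd : ∀ v w, P v → P w → P (v + w))
    (hneg : ∀ v, P v → P (-v)) (hW : ∀ k < 56, P (W k)) {v : RuVec} (hv : v ∈ ruLattice) : P v := by
  rw [lattice_eq] at hv
  induction hv using AddSubgroup.closure_induction with
  | mem x hx => obtain ⟨k, hk, rfl⟩ := hx; exact hW k hk
  | zero => exact h0
  | add x y _ _ hx hy => exact hadd x y hx hy
  | neg x _ hx => exact hneg x hx

theorem gram : allLt (fun k => force (nth wes 0 k) fun y => allLt (fun l =>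
    Nat.beq (Nat.mod (dn 56 (nth wes 0 l) y) 8) 0) (Nat.succ k)) 56 = true := by decide +kernel

theorem four_dvd_W {k l : ℕ} (hk : k < 56) (hl : l ≤ k) : 4 ∣ dot (W l) (W k) := by
  have h1 := (allLt_iff _ _).1 gram k hk
  rw [force_eq, allLt_iff] at h1
  have h2 : dn 56 (nth wes 0 l) (nth wes 0 k) % 8 = 0 := (beq_iff _ _).1 (h1 l (Nat.lt_succ_of_le hl))
  have h3 : _ = 2 * dot (W l) (W k) + 1792 := dn_dot (colsZ_ok hW (hl.trans_lt hk)) (colsZ_ok hW hk)
  generalize dn 56 (nth wes 0 l) (nth wes 0 k) = a at h2 h3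
  generalize dot (W l) (W k) = b at h3 ⊢
  omega

theorem four_dvd_dot {v w : RuVec} (hv : v ∈ ruLattice) (hw : w ∈ ruLattice) : 4 ∣ dot v w := by
  have key : ∀ {u : RuVec}, (∀ k < 56, 4 ∣ dot (W k) u) → ∀ {v : RuVec}, v ∈ ruLattice → 4 ∣ dot v u := by
    intro u h v hv
    refine lattice_induction (P := fun v => 4 ∣ dot v u) ?_ ?_ ?_ h hv
    · rw [dot_zero_left]; exact dvd_zero _
    · intro a b h1 h2; rw [dot_add_left]; exact dvd_add h1 h2
    · intro a h1; rw [dot_neg_left]; exact h1.neg_right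
  refine key (fun k hk => ?_) hv
  rw [dot_comm]
  refine key (fun l hl => ?_) hw
  rcases le_total l k with h | h
  · exact four_dvd_W hk h
  · rw [dot_comm]; exact four_dvd_W hl h

/-! ### Automorphisms -/

/-- The linear map with the given columns. -/
noncomputable def mp (es : List ℕ) (v : RuVec) : RuVec := lc es (co v)

theorem mp_add (es : List ℕ) (v w : RuVec) : mp es (v + w) = mp es v + mp es w := by
  simp [mp, lc, co_add, add_smul, sum_add_distrib]

theorem mp_dv (es : List ℕ) (x : ℕ) : mp es (dv x) = lc es fun i => (dig 4096 x i : ℤ) - (4 : ℕ) := by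
  unfold mp lc
  exact sum_congr rfl fun i hi => by rw [co_dv _ (mem_range.1 hi)]; rfl

/-- The check of a matrix: columns, complex structure, orthogonality, images of the basis. -/
noncomputable def matOK (es cs : List ℕ) (c0 : ℕ) (L : List (ℕ × ℕ)) : Bool :=
  band (colsZ es cs c0) (band (cplx es) (band
    (allLt (fun i => allLt (fun j => Nat.beq (dn 56 (nth es 0 i) (nth es 0 j))
      (Bool.rec 1792 1824 (Nat.beq i j))) 56) 56)
    (allLt (fun k => band (inSp (nth L (0, 0) k)) (cmb cs c0 4 (nth wes 0 k) 4 (nth L (0, 0) k).1)) 56)))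

theorem mp_of_cmb {es cs : List ℕ} {c0 : ℕ} (h : colsZ es cs c0 = true) {x t : ℕ} (hx : okv x = true)
    (ht : okv t = true) (hc : cmb cs c0 4 x 4 t = true) : mp es (dv x) = (4 : ℤ) • dv t := by
  rw [mp_dv, ← cmb_sound h (by norm_num) (fun i hi => okv_le hx hi) ht hc]; rfl

theorem four_smul_inj {v w : RuVec} (h : (4 : ℤ) • v = (4 : ℤ) • w) : v = w :=
  smul_right_injective _ (by norm_num) h

theorem exists_map {es cs : List ℕ} {c0 : ℕ} {L : List (ℕ × ℕ)} (h : matOK es cs c0 L = true) :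
    ∃ f : ruLattice →+ ruLattice, (∀ v, (4 : ℤ) • (f v : RuVec) = mp es v) ∧ (∀ v, f (ruI v) = ruI (f v)) ∧
      ∀ v, ruNorm (f v) = ruNorm v := by
  unfold matOK at h
  rw [band_eq, band_eq, band_eq, allLt_iff, allLt_iff] at h
  obtain ⟨h1, h2, h3, h4⟩ := h
  have ex : ∀ v : ruLattice, ∃ w : ruLattice, (4 : ℤ) • (w : RuVec) = mp es v := by
    intro v
    have hm := AddMonoidHom.mk' (mp es) (mp_add es)
    refine lattice_induction (P := fun v => ∃ w : ruLattice, (4 : ℤ) • (w : RuVec) = mp es v) ?_ ?_ ?_ ?_ v.2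
    · exact ⟨0, by rw [show mp es 0 = 0 from (AddMonoidHom.mk' (mp es) (mp_add es)).map_zero]; simp⟩
    · rintro a b ⟨a', ha⟩ ⟨b', hb⟩
      exact ⟨a' + b', by rw [mp_add, ← ha, ← hb]; simp⟩
    · rintro a ⟨a', ha⟩
      exact ⟨-a', by rw [show mp es (-a) = -mp es a from (AddMonoidHom.mk' (mp es) (mp_add es)).map_neg a, ← ha]; simp⟩
    · intro k hk
      have := (band_eq _ _).1 (h4 k hk)
      have h5 := inSp_sound this.1
      exact ⟨⟨_, lattice_eq ▸ h5.2⟩, (mp_of_cmb h1 (colsZ_ok hW hk) h5.1 this.2).symm⟩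
  choose f hf using ex
  have hI : ∀ v, mp es (gI • v) = gI • mp es v := by
    intro v
    simp only [mp, lc, sum56, smul_add, smul_sum]
    rw [add_comm]
    congr 1 <;> refine sum_congr rfl fun i hi => ?_
    · rw [co_I_hi _ (mem_range.1 hi), cplx_sound h1 h2 (mem_range.1 hi), smul_comm]
    · rw [co_I_lo _ (mem_range.1 hi), cplx_sound h1 h2 (mem_range.1 hi), smul_comm gI, I_I]; simp
  have hN : ∀ v, ruNorm (mp es v) = 4 * 4 * ruNorm v := by
    intro v
    rw [norm_eq_dot, norm_eq_dot, mp, lc, dot_sum_left, dot.eq_1 v v, mul_sum]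
    refine sum_congr rfl fun i hi => ?_
    rw [dot_zsmul_left, dot_comm, dot_sum_left, sum_eq_single i]
    · have h5 : dn 56 (nth es 0 i) (nth es 0 i) = Bool.rec 1792 1824 (Nat.beq i i) :=
        (beq_iff _ _).1 ((allLt_iff _ _).1 (h3 i (mem_range.1 hi)) i (mem_range.1 hi))
      have h6 := dn_dot (colsZ_ok h1 (mem_range.1 hi)) (colsZ_ok h1 (mem_range.1 hi))
      rw [h5, (beq_iff i i).2 rfl] at h6
      rw [dot_zsmul_left, show dot (dv (nth es 0 i)) (dv (nth es 0 i)) = 16 by simp only at h6; omega]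
      ring
    · intro j hj hji
      have h5 : dn 56 (nth es 0 j) (nth es 0 i) = Bool.rec 1792 1824 (Nat.beq j i) :=
        (beq_iff _ _).1 ((allLt_iff _ _).1 (h3 j (mem_range.1 hj)) i (mem_range.1 hi))
      have h6 := dn_dot (colsZ_ok h1 (mem_range.1 hj)) (colsZ_ok h1 (mem_range.1 hi))
      rw [h5, (beq_false_iff j i).2 hji] at h6
      rw [dot_zsmul_left, show dot (dv (nth es 0 j)) (dv (nth es 0 i)) = 0 by simp only at h6; omega, mul_zero]
    · intro hn; exact absurd hi hn
  refine ⟨AddMonoidHom.mk' f fun v w => Subtype.ext (four_smul_inj ?_), hf,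
    fun v => Subtype.ext (four_smul_inj ?_), fun v => ?_⟩
  · rw [hf, AddSubgroup.coe_add, AddSubgroup.coe_add, mp_add, smul_add, hf, hf]
  · change (4 : ℤ) • (f (ruI v) : RuVec) = (4 : ℤ) • gI • (f v : RuVec)
    rw [hf, smul_comm, hf, ← hI]; rfl
  · have := hN v
    rw [← hf, norm_zsmul] at this
    exact mul_left_cancel₀ (by norm_num) this

theorem mat0 : matOK g0e g0c g0s g0t = true := by decide +kernel
theorem mat1 : matOK g1e g1c g1s g1t = true := by decide +kernel

end Cfsg.Agent.Id.Ru
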