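import Cfsg.Agent.Lib.Id.RuA

/-! Sets of coordinates coded by spread binary words. -/

set_option autoImplicit false

namespace Cfsg.Agent.Id.Ru

open Cfsg.Agent.CG Finset

/-- The spread word of a predicate. -/
def sp (n : ℕ) (f : ℕ → Bool) : ℕ := pk 4096 n fun p => (f p).toNat

theorem testBit_sp (n : ℕ) (f : ℕ → Bool) (i : ℕ) :
    (sp n f).testBit i = (decide (i % 12 = 0 ∧ i / 12 < n) && f (i / 12)) := by
  induction n generalizing f i with
  | zero => simp [sp, pk]
  | succ n ih =>
    have e : sp (n + 1) f = 2 ^ 12 * sp n (fun p => f (p + 1)) + (f 0).toNat := by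
      rw [sp, pk_succ, add_comm]; rfl
    rw [e, Nat.testBit_two_pow_mul_add _ ((Bool.toNat_le _).trans_lt (by norm_num))]
    split_ifs with h
    · rw [Nat.testBit_bool_toNat, Nat.div_eq_of_lt h, Nat.mod_eq_of_lt h]; simp
    · rw [ih, show (i - 12) / 12 + 1 = i / 12 by omega]
      congr 1
      exact decide_eq_decide.2 (by omega)

theorem sp_mod (n : ℕ) (f : ℕ → Bool) : sp n f ≡ ((range n).filter fun p => f p).card [MOD 4095] := by
  rw [card_filter, sp, pk]
  refine Nat.ModEq.sum fun p _ => ?_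
  have : (f p).toNat * 4096 ^ p ≡ (f p).toNat * 1 ^ p [MOD 4095] :=
    Nat.ModEq.mul_left _ (Nat.ModEq.pow _ (by decide))
  cases h : f p <;> simp_all

/-- The set of coordinates coded by a word. -/
def st (x : ℕ) : Finset ℕ := (range 56).filter fun p => x.testBit (12 * p)

/-- Clean words. -/
def Cl (x : ℕ) : Prop := ∀ i, x.testBit i = true → i % 12 = 0 ∧ i / 12 < 56

theorem mem_st {x p : ℕ} : p ∈ st x ↔ p < 56 ∧ x.testBit (12 * p) = true := by simp [st]

theorem Cl.sp (f : ℕ → Bool) : Cl (sp 56 f) := fun i h => by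
  rw [testBit_sp, Bool.and_eq_true, decide_eq_true_eq] at h; exact h.1

theorem mem_st_sp {f : ℕ → Bool} {p : ℕ} : p ∈ st (sp 56 f) ↔ p < 56 ∧ f p = true := by
  rw [mem_st, testBit_sp]; simp +contextual

theorem Cl.card {x : ℕ} (h : Cl x) : x % 4095 = (st x).card := by
  have e : x = Ru.sp 56 fun p => x.testBit (12 * p) := Nat.eq_of_testBit_eq fun i => by
    rw [testBit_sp]
    by_cases hi : i % 12 = 0 ∧ i / 12 < 56
    · rw [decide_eq_true hi, Bool.true_and, Nat.mul_div_cancel' (Nat.dvd_of_mod_eq_zero hi.1)]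
    · rw [decide_eq_false hi, Bool.false_and, Bool.eq_false_iff]; exact fun h2 => hi (h i h2)
  have h2 : (st x).card < 4095 := (card_filter_le _ _).trans_lt (by simp)
  rw [← Nat.mod_eq_of_lt h2]
  conv_lhs => rw [e]
  exact sp_mod _ _

theorem Cl.zero : Cl 0 := fun i h => by simp at h

theorem Cl.land {x : ℕ} (h : Cl x) (y : ℕ) : Cl (y &&& x) := fun i hi => by
  rw [Nat.testBit_and, Bool.and_eq_true] at hi; exact h i hi.2

theorem Cl.xor {x y : ℕ} (h : Cl x) (h' : Cl y) : Cl (x ^^^ y) := fun i hi => by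
  rw [Nat.testBit_xor] at hi
  cases hx : x.testBit i
  · exact h' i (by simpa [hx] using hi)
  · exact h i hx

theorem Cl.pow {n : ℕ} (h : n < 56) : Cl (2 ^ (12 * n)) := fun i hi => by
  rw [Nat.testBit_two_pow, decide_eq_true_eq] at hi; omega

theorem st_zero : st 0 = ∅ := by ext p; simp [mem_st]

theorem st_land (x y : ℕ) : st (x &&& y) = st x ∩ st y := by
  ext p; simp only [mem_st, mem_inter, Nat.testBit_and, Bool.and_eq_true]; tauto

theorem mem_st_xor {x y p : ℕ} : p ∈ st (x ^^^ y) ↔ p < 56 ∧ ¬ (p ∈ st x ↔ p ∈ st y) := by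
  simp only [mem_st, Nat.testBit_xor]
  cases x.testBit (12 * p) <;> cases y.testBit (12 * p) <;> simp

theorem mem_st_pow {n p : ℕ} (h : n < 56) : p ∈ st (2 ^ (12 * n)) ↔ p = n := by
  rw [mem_st, Nat.testBit_two_pow, decide_eq_true_eq]; omega

theorem lin2_xor (l : List ℕ) (a b : ℕ) : lin2 l (a ^^^ b) = lin2 l a ^^^ lin2 l b := by
  induction l generalizing a b with
  | nil => exact (Nat.xor_self 0).symm
  | cons c l ih =>
    rw [lin2_cons, lin2_cons, lin2_cons, Nat.xor_div_two, ih, Nat.xor_mod_two_eq, Nat.add_mod]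
    rcases Nat.mod_two_eq_zero_or_one a with e | e <;> rcases Nat.mod_two_eq_zero_or_one b with e' | e' <;>
      simp [e, e', Nat.xor_assoc, Nat.xor_left_comm]

theorem lin2_zero (l : List ℕ) : lin2 l 0 = 0 := by simpa using lin2_xor l 0 0

theorem lin2_ind {P : ℕ → Prop} (h0 : P 0) (hx : ∀ x y, P x → P y → P (x ^^^ y)) {l : List ℕ} (h : ∀ c ∈ l, P c)
    (m : ℕ) : P (lin2 l m) := by
  induction l generalizing m with
  | nil => exact h0
  | cons c l ih =>
    rw [lin2_cons]
    refine hx _ _ ?_ (ih (fun d hd => h d (List.mem_cons_of_mem _ hd)) _)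
    rcases Nat.mod_two_eq_zero_or_one m with e | e <;> rw [e]
    · simpa using h0
    · simpa using h c List.mem_cons_self

/-- `P` holds on the coset of the span. -/
noncomputable def enumAll (P : ℕ → Bool) (G : List ℕ) (x : ℕ) : Bool :=
  List.rec (motive := fun _ => ℕ → Bool) P (fun g _ ih x => force x fun x => band (ih x) (ih (Nat.xor g x))) G x

theorem enumAll_cons {P : ℕ → Bool} {g x : ℕ} {G : List ℕ} :
    enumAll P (g :: G) x = true ↔ enumAll P G x = true ∧ enumAll P G (Nat.xor g x) = true := by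
  have : enumAll P (g :: G) x = force x fun x => band (enumAll P G x) (enumAll P G (Nat.xor g x)) := rfl
  rw [this, force_eq, band_eq]

theorem enumAll_sound {P : ℕ → Bool} {G : List ℕ} {x : ℕ} (h : enumAll P G x = true) (m : ℕ) :
    P (lin2 G m ^^^ x) = true := by
  induction G generalizing x m with
  | nil => rw [show lin2 [] m = 0 from rfl, Nat.zero_xor]; exact h
  | cons g G ih =>
    rw [enumAll_cons] at h
    rw [lin2_cons]
    rcases Nat.mod_two_eq_zero_or_one m with e | e <;> rw [e]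
    · simpa using ih h.1 _
    · rw [one_mul, Nat.xor_comm g, Nat.xor_assoc]; exact ih h.2 _

theorem lin2_shift (l : List ℕ) (k m : ℕ) : lin2 l m >>> k = lin2 (l.map (· >>> k)) m := by
  induction l generalizing m with
  | nil => exact Nat.zero_shiftRight k
  | cons c l ih =>
    rw [List.map_cons, lin2_cons, lin2_cons, Nat.shiftRight_xor_distrib, ih]
    rcases Nat.mod_two_eq_zero_or_one m with e | e <;> simp [e]

/-- `P` holds on all words obtained from `z >>> 60` by adding `k` coordinates below `n`. -/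
noncomputable def allSub (P : ℕ → Bool) (k n z : ℕ) : Bool :=
  Nat.rec (motive := fun _ => ℕ → ℕ → Bool) (fun _ z => force z fun z => P (Nat.shiftRight z 60))
    (fun _ ih n z => force z fun z => allLt (fun p =>
      ih p (Nat.xor (Nat.xor z (Nat.pow 2 p)) (Nat.pow 2 (Nat.add 60 (Nat.mul 12 p))))) n) k n z

theorem allSub_sound {P : ℕ → Bool} {k n z : ℕ} (h : allSub P k n z = true) (hn : n ≤ 56) (hz : Cl (z >>> 60))
    (hd : ∀ p ∈ st (z >>> 60), n ≤ p) {s : Finset ℕ} (hs : ∀ p ∈ s, p < n) (hk : s.card = k) :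
    ∃ y, Cl y ∧ st y = st (z >>> 60) ∪ s ∧ P y = true := by
  induction k generalizing n z s with
  | zero => exact ⟨_, hz, by rw [card_eq_zero.1 hk, union_empty], (force_eq z fun z => P (z >>> 60)).symm.trans h⟩
  | succ k ih =>
    have e : allSub P (k + 1) n z =
      force z fun z => allLt (fun p => allSub P k p (z ^^^ 2 ^ p ^^^ 2 ^ (60 + 12 * p))) n := rfl
    rw [e, force_eq, allLt_iff] at h
    have e2 : ∀ p < 56, (z ^^^ 2 ^ p ^^^ 2 ^ (60 + 12 * p)) >>> 60 = z >>> 60 ^^^ 2 ^ (12 * p) := fun p hp => by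
      rw [Nat.shiftRight_xor_distrib, Nat.shiftRight_xor_distrib, Nat.shiftRight_eq_div_pow (2 ^ p),
        Nat.div_eq_of_lt (Nat.pow_lt_pow_right (by norm_num) (by omega)), Nat.xor_zero, Nat.shiftRight_eq_div_pow (2 ^ _),
        pow_add, Nat.mul_div_cancel_left _ (by norm_num)]
    have hne : s.Nonempty := card_pos.1 (by omega)
    have hm := hs _ (s.max'_mem hne)
    have hst : ∀ p, p ∈ st (z >>> 60 ^^^ 2 ^ (12 * s.max' hne)) ↔ p ∈ st (z >>> 60) ∨ p = s.max' hne := by
      intro p
      rw [mem_st_xor, mem_st_pow (by omega)]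
      generalize s.max' hne = q at hm ⊢
      constructor
      · tauto
      · rintro (h1 | rfl)
        · exact ⟨(mem_st.1 h1).1, fun h2 => absurd (h2.1 h1 ▸ hd p h1) (by omega)⟩
        · exact ⟨by omega, fun h2 => absurd (hd p (h2.2 rfl)) (by omega)⟩
    obtain ⟨y, h1, h2, h3⟩ := ih (h _ hm) (by omega) (by
      rw [e2 _ (by omega)]; exact hz.xor (Cl.pow (by omega))) (fun p hp => by
      rw [e2 _ (by omega)] at hp
      rcases (hst p).1 hp with h4 | h4
      · exact hm.le.trans (hd p h4)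
      · exact h4.ge) (s := s.erase (s.max' hne)) (fun p hp => s.lt_max'_of_mem_erase_max' hne hp)
      (by rw [card_erase_of_mem (s.max'_mem hne), hk]; rfl)
    refine ⟨y, h1, ?_, h3⟩
    rw [h2, e2 _ (by omega)]
    ext p
    have := s.max'_mem hne
    simp only [mem_union, hst, mem_erase]
    by_cases h4 : p = s.max' hne <;> simp_all

theorem ncard_list {α β : Type*} {A : α → Set β} {b : α → ℕ} (l : List α)
    (h : ∀ e ∈ l, (A e).Finite ∧ (A e).ncard ≤ b e) :
    {v | ∃ e ∈ l, v ∈ A e}.Finite ∧ {v | ∃ e ∈ l, v ∈ A e}.ncard ≤ (l.map b).sum := by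
  induction l with
  | nil => simp
  | cons a l ih =>
    have e : {v | ∃ e ∈ a :: l, v ∈ A e} = A a ∪ {v | ∃ e ∈ l, v ∈ A e} := by ext v; simp
    have h1 := h a List.mem_cons_self
    have h2 := ih fun e he => h e (List.mem_cons_of_mem _ he)
    rw [e, List.map_cons, List.sum_cons]
    exact ⟨h1.1.union h2.1, (Set.ncard_union_le _ _).trans (Nat.add_le_add h1.2 h2.2)⟩

end Cfsg.Agent.Id.Ru
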