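import Cfsg.Agent.Lib.Id.RuB
import Cfsg.Agent.Lib.Id.RuS

/-! Tools for counting the minimal vectors of the Rudvalis lattice. -/

set_option autoImplicit false
set_option maxRecDepth 100000

namespace Cfsg.Agent.Id.Ru

open Cfsg.Agent.CG Cfsg.Spor Finset

/-- The odd coordinates. -/
def Od (v : RuVec) : Finset ℕ := (range 56).filter fun p => co v p % 2 = 1
/-- The coordinates that are twice an odd number. -/
def Tw (v : RuVec) : Finset ℕ := (range 56).filter fun p => co v p % 4 = 2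

theorem mem_Od {v : RuVec} {p : ℕ} : p ∈ Od v ↔ p < 56 ∧ co v p % 2 = 1 := by simp [Od]
theorem mem_Tw {v : RuVec} {p : ℕ} : p ∈ Tw v ↔ p < 56 ∧ co v p % 4 = 2 := by simp [Tw]

theorem mul_mod_four (a b : ℤ) (h : ¬ (a % 2 = 1 ∧ b % 2 = 1)) : 4 ∣ a * b -
    2 * ((if b % 4 = 2 ∧ a % 2 = 1 then 1 else 0) + (if b % 2 = 1 ∧ a % 4 = 2 then 1 else 0)) := by
  have h1 := Int.mul_emod a b 4
  have ha : a % 4 = 0 ∨ a % 4 = 1 ∨ a % 4 = 2 ∨ a % 4 = 3 := by omega
  have hb : b % 4 = 0 ∨ b % 4 = 1 ∨ b % 4 = 2 ∨ b % 4 = 3 := by omega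
  generalize a * b = c at h1
  rcases ha with e | e | e | e <;> rcases hb with e' | e' | e' | e' <;> rw [e, e'] at h1 <;> split_ifs <;> omega

theorem card_inter_filter (P Q : ℕ → Prop) [DecidablePred P] [DecidablePred Q] :
    ((((range 56).filter P ∩ (range 56).filter Q).card : ℕ) : ℤ) = ∑ p ∈ range 56, if P p ∧ Q p then 1 else 0 := by
  rw [← filter_and, card_filter]; simp

theorem core {v w : RuVec} (hv : v ∈ ruLattice) (hw : w ∈ ruLattice) (h : Od w ∩ Od v = ∅) :
    ((Tw w ∩ Od v).card + (Od w ∩ Tw v).card) % 2 = 0 := by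
  have h1 := four_dvd_dot hv hw
  have h2 : (4 : ℤ) ∣ dot v w - 2 * (((Tw w ∩ Od v).card : ℤ) + (Od w ∩ Tw v).card) := by
    rw [Tw, Tw, Od, Od, card_inter_filter, card_inter_filter, ← sum_add_distrib, mul_sum, dot, ← sum_sub_distrib]
    refine dvd_sum fun p hp => mul_mod_four _ _ fun h3 => ?_
    exact notMem_empty p (h ▸ mem_inter.2 ⟨mem_Od.2 ⟨mem_range.1 hp, h3.2⟩, mem_Od.2 ⟨mem_range.1 hp, h3.1⟩⟩)
  omega

theorem sq_facts (a : ℤ) : ∃ k : ℤ, 0 ≤ k ∧
    a * a = (if a % 2 = 1 then 1 else 0) + 4 * (if a % 4 = 2 then 1 else 0) + 8 * k := by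
  obtain ⟨q, hq⟩ : ∃ q, a = 4 * q ∨ a = 4 * q + 1 ∨ a = 4 * q + 2 ∨ a = 4 * q - 1 := by
    by_cases h : a % 4 = 3
    · exact ⟨a / 4 + 1, by omega⟩
    · exact ⟨a / 4, by omega⟩
  have h1 : 0 ≤ q * q + q := by nlinarith [mul_self_nonneg (2 * q + 1), Int.le_self_sq (-q)]
  have h2 : 0 ≤ q * q - q := by nlinarith [Int.le_self_sq q]
  have h3 := mul_self_nonneg q
  rcases hq with rfl | rfl | rfl | rfl
  · exact ⟨2 * (q * q), by omega, by rw [if_neg (by omega), if_neg (by omega)]; ring⟩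
  · exact ⟨q * q + (q * q + q), by omega, by rw [if_pos (by omega), if_neg (by omega)]; ring⟩
  · exact ⟨2 * (q * q + q), by omega, by rw [if_neg (by omega), if_pos (by omega)]; ring⟩
  · exact ⟨q * q + (q * q - q), by omega, by rw [if_pos (by omega), if_neg (by omega)]; ring⟩

theorem norm_facts (v : RuVec) : ∃ k : ℕ → ℤ, (∀ p, 0 ≤ k p ∧ co v p * co v p =
    (if co v p % 2 = 1 then 1 else 0) + 4 * (if co v p % 4 = 2 then 1 else 0) + 8 * k p) ∧
    ruNorm v = (Od v).card + 4 * (Tw v).card + 8 * ∑ p ∈ range 56, k p := by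
  choose k h1 h2 using fun p => sq_facts (co v p)
  refine ⟨k, fun p => ⟨h1 p, h2 p⟩, ?_⟩
  rw [norm_eq_dot, dot, Od, Tw, card_filter, card_filter]
  push_cast
  rw [mul_sum, mul_sum, ← sum_add_distrib, ← sum_add_distrib]
  exact sum_congr rfl fun p _ => h2 p

theorem norm_cards {v : RuVec} (h : ruNorm v = 16) :
    (Od v).card + 4 * (Tw v).card ≤ 16 ∧ ((Od v).card + 4 * (Tw v).card) % 8 = 0 := by
  obtain ⟨k, h1, h2⟩ := norm_facts v
  have := sum_nonneg fun p (_ : p ∈ range 56) => (h1 p).1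
  omega

theorem abs_le_one {v : RuVec} (h : ruNorm v = 16) (h16 : (Od v).card = 16) {p : ℕ} (hp : p < 56) :
    co v p = 0 ∨ co v p = 1 ∨ co v p = -1 := by
  obtain ⟨k, h1, h2⟩ := norm_facts v
  have h3 := sum_nonneg fun p (_ : p ∈ range 56) => (h1 p).1
  have h4 : ∑ p ∈ range 56, k p = 0 := by omega
  have h5 : Tw v = ∅ := card_eq_zero.1 (by omega)
  have h6 := (h1 p).2
  rw [(sum_eq_zero_iff_of_nonneg fun p _ => (h1 p).1).1 h4 p (mem_range.2 hp),
    if_neg (fun e => notMem_empty p (h5 ▸ mem_Tw.2 ⟨hp, e⟩) : ¬ co v p % 4 = 2)] at h6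
  have h7 : co v p * co v p ≤ 1 := by split_ifs at h6 <;> omega
  have : co v p ≤ 1 := by nlinarith
  have : -1 ≤ co v p := by nlinarith
  omega

/-- The vectors `± 4 e p`. -/
def frame : Finset RuVec := (range 56 ×ˢ ({4, -4} : Finset ℤ)).image fun q => vec fun p => if p = q.1 then q.2 else 0

theorem mem_frame {v : RuVec} (h : ruNorm v = 16) (h1 : Od v = ∅) (h2 : Tw v = ∅) : v ∈ frame := by
  obtain ⟨p, hp, hne⟩ : ∃ p < 56, co v p ≠ 0 := by
    by_contra! hc
    rw [show v = 0 from ext_co fun p hp => by rw [hc p hp, co_zero]] at h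
    simp [ruNorm] at h
  have h3 : ¬ co v p % 2 = 1 := fun e => notMem_empty p (h1 ▸ mem_Od.2 ⟨hp, e⟩)
  have h4 : ¬ co v p % 4 = 2 := fun e => notMem_empty p (h2 ▸ mem_Tw.2 ⟨hp, e⟩)
  rw [norm_eq_dot, dot, ← add_sum_erase _ _ (mem_range.2 hp)] at h
  have h5 := sum_nonneg fun q (_ : q ∈ (range 56).erase p) => mul_self_nonneg (co v q)
  have h6 : co v p = 4 ∨ co v p = -4 := by
    have : co v p ≤ 4 := by nlinarith
    have : -4 ≤ co v p := by nlinarith
    omega
  have h7 : ∑ q ∈ (range 56).erase p, co v q * co v q = 0 := by rcases h6 with e | e <;> rw [e] at h <;> omega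
  rw [sum_eq_zero_iff_of_nonneg fun q _ => mul_self_nonneg (co v q)] at h7
  refine mem_image.2 ⟨(p, co v p), mem_product.2 ⟨mem_range.2 hp, by simpa using h6⟩, ext_co fun q hq => ?_⟩
  rw [co_vec _ q hq]
  split_ifs with e
  · rw [e]
  · exact (mul_self_eq_zero.1 (h7 q (mem_erase.2 ⟨e, mem_range.2 hq⟩))).symm

theorem card_frame : frame.card ≤ 112 := card_image_le.trans (by rw [card_product]; simp)

/-! ### Witnesses -/

/-- The word of all coordinates. -/
def one56 : ℕ := Nat.div f56 4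

theorem one56_eq : one56 = sp 56 fun _ => true := by decide +kernel

theorem cl_one : Cl one56 := one56_eq ▸ Cl.sp _

theorem mem_st_one {p : ℕ} : p ∈ st one56 ↔ p < 56 := by rw [one56_eq, mem_st_sp]; simp

/-- The odd coordinates of a witness. -/
noncomputable def wp (a : ℕ) : ℕ := Nat.land (linp 4096 wes a) one56
/-- A word that agrees with the coordinates `2 mod 4` of a witness outside the odd ones. -/
noncomputable def wd (a : ℕ) : ℕ := Nat.shiftRight (linp 4096 wes a) 1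

theorem dig_bits (y p : ℕ) : (y.testBit (12 * p) = true ↔ dig 4096 y p % 2 = 1) ∧
    ((y >>> 1).testBit (12 * p) = true ↔ dig 4096 y p / 2 % 2 = 1) := by
  have e : dig 4096 y p = (y >>> (12 * p)) % 4096 := by rw [dig, Nat.shiftRight_eq_div_pow, pow_mul]; rfl
  have h1 : y.testBit (12 * p) = (y >>> (12 * p)).testBit 0 := by rw [Nat.testBit_shiftRight]; rfl
  have h2 : (y >>> 1).testBit (12 * p) = (y >>> (12 * p) / 2).testBit 0 := by
    rw [← Nat.testBit_succ, Nat.testBit_shiftRight, Nat.testBit_shiftRight, add_comm]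
  rw [e, h1, h2, Nat.testBit_zero, Nat.testBit_zero, decide_eq_true_eq, decide_eq_true_eq]
  omega

theorem wit {a : ℕ} (ha : okv a = true) : ∃ w ∈ ruLattice, st (wp a) = Od w ∧
    ∀ p, p ∉ Od w → (p ∈ st (wd a) ↔ p ∈ Tw w) := by
  have hl : wes.length = 56 := by decide +kernel
  have key : ∀ p < 56, (dig 4096 (linp 4096 wes a) p : ℤ) % 4 = co (lc wes fun i => dig 4096 a i) p % 4 := by
    intro p hp
    rw [dig_linp (p := 9) (by norm_num) (by norm_num) (by norm_num) hl (fun c hc => ?_) ((beq_iff _ _).1 ha) hp, lc,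
      co_sum]
    · push_cast
      refine Int.ModEq.sum fun i hi => ?_
      rw [co_zsmul, co_dv _ hp, nth_eq]
      exact (Int.modEq_iff_dvd.2 ⟨-dig 4096 a i, by ring⟩)
    · obtain ⟨i, hi, rfl⟩ := List.getElem_of_mem hc
      have := colsZ_ok hW (hl ▸ hi)
      rw [nth_eq, List.getD_eq_getElem _ _ hi] at this
      exact (beq_iff _ _).1 this
  refine ⟨lc wes fun i => dig 4096 a i, sum_mem fun i hi => zsmul_mem (W_mem i (mem_range.1 hi)) _, ?_, fun p hp => ?_⟩
  · ext p
    rw [show wp a = linp 4096 wes a &&& one56 from rfl, st_land, mem_inter, mem_st_one, mem_st, mem_Od, (dig_bits _ _).1]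
    have := key p
    omega
  · rw [mem_Od] at hp
    rw [show wd a = linp 4096 wes a >>> 1 from rfl, mem_st, mem_Tw, (dig_bits _ _).2]
    have := key p
    omega

/-- The check excluding vectors with odd coordinates `x` and `k` coordinates `2 mod 4`. -/
noncomputable def excl (x k : ℕ) (ws : List (ℕ × ℕ × ℕ)) : Bool :=
  band (allL (fun w => band (okv w.1) (band (Nat.beq (wp w.1) w.2.1) (band (Nat.beq (Nat.land w.2.1 x) 0)
    (Nat.beq (Nat.mod (Nat.land (wd w.1) x) 4095) w.2.2)))) ws)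
    (allSub (fun z => anyL (fun w => Nat.beq (Nat.mod (Nat.add w.2.2 (Nat.mod (Nat.land w.2.1 z) 4095)) 2) 1) ws) k 56 0)

theorem excl_sound {x k : ℕ} {ws : List (ℕ × ℕ × ℕ)} (h : excl x k ws = true) (hx : Cl x) {v : RuVec}
    (hv : v ∈ ruLattice) (h1 : st x = Od v) : (Tw v).card ≠ k := by
  intro h2
  unfold excl at h
  rw [band_eq, allL_iff] at h
  obtain ⟨z, h3, h4, h5⟩ := allSub_sound h.2 le_rfl Cl.zero (by simp [st_zero]) (fun p hp => (mem_Tw.1 hp).1) h2
  rw [Nat.zero_shiftRight, st_zero, empty_union] at h4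
  obtain ⟨⟨a, y, b⟩, h6, h7⟩ := (anyL_iff _ _).1 h5
  have h8 := h.1 _ h6
  rw [band_eq, band_eq, band_eq] at h8
  obtain ⟨w, hw, h9, h10⟩ := wit (a := a) h8.1
  have e1 : wp a = y := (beq_iff _ _).1 h8.2.1
  have e2 : y &&& x = 0 := (beq_iff _ _).1 h8.2.2.1
  have e3 : (wd a &&& x) % 4095 = b := (beq_iff _ _).1 h8.2.2.2
  have e4 : (b + (y &&& z) % 4095) % 2 = 1 := (beq_iff _ _).1 h7
  have e5 : Od w ∩ Od v = ∅ := by rw [← h9, ← h1, e1, ← st_land, e2, st_zero]
  have e6 : st (wd a) ∩ Od v = Tw w ∩ Od v := by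
    ext p
    rw [mem_inter, mem_inter]
    exact and_congr_left fun hp => h10 p fun hp' => notMem_empty p (e5 ▸ mem_inter.2 ⟨hp', hp⟩)
  rw [(hx.land _).card, st_land, h1, e6] at e3
  rw [(h3.land _).card, st_land, h4, ← e1, h9, ← e3, core hv hw e5] at e4
  omega

/-- Elimination of the coordinates of `R` by code words. -/
noncomputable def elim (G ms : List ℕ) (R : ℕ) : Bool :=
  List.rec (motive := fun _ => ℕ → Bool) (fun R => Nat.beq R 0) (fun m _ ih R => force R fun R =>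
    force (Nat.land (lin2 G m) R) fun r => band (Nat.beq (Nat.mod r 4095) 1) (ih (Nat.xor R r))) ms R

theorem elim_sound {G ms : List ℕ} {R : ℕ} (h : elim G ms R = true) (hR : Cl R) {D : Finset ℕ}
    (hG : ∀ m, (st (lin2 G m) ∩ D).card % 2 = 0) (hD : D ⊆ st R) : D = ∅ := by
  induction ms generalizing R with
  | nil => rw [show R = 0 from (beq_iff _ _).1 h, st_zero] at hD; exact subset_empty.1 hD
  | cons m ms ih =>
    have e : elim G (m :: ms) R = force R fun R => force (lin2 G m &&& R) fun r =>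
      band (Nat.beq (r % 4095) 1) (elim G ms (R ^^^ r)) := rfl
    rw [e, force_eq, force_eq, band_eq, beq_iff, (hR.land _).card, st_land] at h
    refine ih h.2 (hR.xor (hR.land _)) fun p hp => ?_
    have h1 : (st (lin2 G m) ∩ D).card ≤ 1 := h.1 ▸ card_le_card (inter_subset_inter_left hD)
    have h2 := hG m
    have h3 : st (lin2 G m) ∩ D = ∅ := card_eq_zero.1 (by omega)
    rw [mem_st_xor, st_land, mem_inter]
    exact ⟨(mem_st.1 (hD hp)).1, fun h4 => notMem_empty p (h3 ▸ mem_inter.2 ⟨(h4.1 (hD hp)).1, hp⟩)⟩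

/-- The minimal vectors. -/
def Sm : Set RuVec := {v | v ∈ ruLattice ∧ ruNorm v = 16}

theorem good_bound {G ms : List ℕ} {x K : ℕ} (hG : ∀ m, ∃ w ∈ ruLattice, st (lin2 G m) = Od w)
    (h16 : (st x).card = 16) (hK : Cl K) (hx : Cl x) (h : elim G ms (x ^^^ K) = true) :
    {v ∈ Sm | Od v = st x}.Finite ∧ {v ∈ Sm | Od v = st x}.ncard ≤ 2 ^ (K % 4095) := by
  have inj : Set.InjOn (fun v => (st K).filter fun p => co v p = 1) {v ∈ Sm | Od v = st x} := by
    rintro v ⟨hv, e⟩ w ⟨hw, e'⟩ hvw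
    have a1 := @abs_le_one v hv.2 (e ▸ h16)
    have a2 := @abs_le_one w hw.2 (e' ▸ h16)
    have a3 : ∀ p < 56, (co v p % 2 = 1 ↔ co w p % 2 = 1) := fun p hp => by
      have := @mem_Od v p
      rw [e, ← e', mem_Od] at this
      tauto
    have a4 : Od (v - w) = ∅ := eq_empty_of_forall_notMem fun p hp => by
      rw [mem_Od, co_sub] at hp
      have := a3 p hp.1
      omega
    have a5 : Tw (v - w) = ∅ := elim_sound h (hx.xor hK) (fun m => by
      obtain ⟨u, hu, h1⟩ := hG m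
      have := core (sub_mem hv.1 hw.1) hu (by rw [a4, inter_empty])
      rwa [a4, inter_empty, card_empty, zero_add, ← h1] at this) fun p hp => by
        rw [mem_Tw, co_sub] at hp
        have b1 := a1 hp.1
        have b2 := a2 hp.1
        have b3 : p ∈ st x := e ▸ mem_Od.2 ⟨hp.1, by omega⟩
        refine mem_st_xor.2 ⟨hp.1, fun h4 => ?_⟩
        have := congrArg (p ∈ ·) hvw
        simp only [mem_filter, h4.1 b3, true_and, eq_iff_iff] at this
        omega
    refine ext_co fun p hp => ?_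
    have b1 := a1 hp
    have b2 := a2 hp
    have b3 := a3 p hp
    have b4 : ¬ co (v - w) p % 4 = 2 := fun e => notMem_empty p (a5 ▸ mem_Tw.2 ⟨hp, e⟩)
    rw [co_sub] at b4
    omega
  have mp : Set.MapsTo (fun v => (st K).filter fun p => co v p = 1) {v ∈ Sm | Od v = st x} ((st K).powerset : Set _) :=
    fun v _ => mem_coe.2 (mem_powerset.2 (filter_subset _ _))
  refine ⟨Set.Finite.of_injOn mp inj (finite_toSet _), ?_⟩
  rw [hK.card, ← card_powerset, ← Set.ncard_coe_finset]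
  exact Set.ncard_le_ncard_of_injOn _ mp inj (finite_toSet _)

theorem st_red {x : ℕ} : Cl (red 4096 2 56 x) ∧ st (red 4096 2 56 x) = Od (dv x) := by
  have e : red 4096 2 56 x = sp 56 fun p => dig 4096 x p % 2 = 1 := by
    rw [red_eq]
    refine pk_congr fun p _ => ?_
    rcases Nat.mod_two_eq_zero_or_one (dig 4096 x p) with e | e <;> simp [e]
  rw [e]
  refine ⟨Cl.sp _, ?_⟩
  ext p
  rw [mem_st_sp, mem_Od, decide_eq_true_eq]
  refine and_congr_right fun hp => ?_
  rw [co_dv _ hp]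
  omega

theorem Od_add {v w : RuVec} {x y : ℕ} (h1 : st x = Od v) (h2 : st y = Od w) : st (x ^^^ y) = Od (v + w) := by
  ext p
  rw [mem_st_xor, h1, h2, mem_Od, mem_Od, mem_Od, co_add]
  omega

end Cfsg.Agent.Id.Ru
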