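import Cfsg.Agent.Lib.Id.RuE0

/-! Enumeration of the parity code. -/

set_option autoImplicit false
set_option maxRecDepth 100000
set_option Elab.async false

namespace Cfsg.Agent.Id.Ru

open Cfsg.Agent.CG

theorem en4 : enP 4 = true := by decide +kernel
theorem en5 : enP 5 = true := by decide +kernel
theorem en6 : enP 6 = true := by decide +kernel
theorem en7 : enP 7 = true := by decide +kernel

end Cfsg.Agent.Id.Ru
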