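import Cfsg.Agent.Lib.Id.RuC
import Cfsg.Agent.Lib.Id.RuD2

/-! The dual of the parity code has no words of weight 2 or 4. -/

set_option autoImplicit false
set_option maxRecDepth 100000
set_option Elab.async false

namespace Cfsg.Agent.Id.Ru

open Cfsg.Agent.CG

theorem z2 : excl 0 2 zer = true := by decide +kernel
theorem z4 : excl 0 4 zer = true := by decide +kernel

end Cfsg.Agent.Id.Ru
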