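import Cfsg.Agent.Lib.Id.RuE1
import Cfsg.Agent.Lib.Id.RuE2
import Cfsg.Agent.Lib.Id.RuE3

/-! The Rudvalis lattice has at most 16240 minimal vectors. -/

set_option autoImplicit false
set_option maxRecDepth 100000
set_option Elab.async false

namespace Cfsg.Agent.Id.Ru

open Cfsg.Agent.CG Cfsg.Spor Finset

theorem low_all (m : ℕ) : low (lin2 cT m) = true := by
  obtain ⟨a, b, c, e⟩ : ∃ a b c, cT = a :: b :: c :: cT.drop 3 := ⟨nth cT 0 0, nth cT 0 1, nth cT 0 2, by decide +kernel⟩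
  have h : ∀ i < 8, enP i = true := by
    intro i hi
    interval_cases i
    exacts [en0, en1, en2, en3, en4, en5, en6, en7]
  have h2 := enumAll_sound (h (m % 8) (Nat.mod_lt _ (by norm_num))) (m / 8)
  generalize cT.drop 3 = G at e h2
  rw [e] at h2 ⊢
  simp only [lin2_cons] at h2 ⊢
  rw [show m % 8 / 2 / 2 / 2 = 0 by omega, lin2_zero, Nat.xor_zero, show m % 8 % 2 = m % 2 by omega,
    show m % 8 / 2 % 2 = m / 2 % 2 by omega, show m % 8 / 2 / 2 % 2 = m / 2 / 2 % 2 by omega, Nat.xor_comm,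
    Nat.xor_assoc, Nat.xor_assoc] at h2
  rwa [show m / 2 / 2 / 2 = m / 8 by omega]

theorem cG_eq : cT.map (· >>> 60) = cG := by decide +kernel

theorem code_wit (m : ℕ) : Cl (lin2 cG m) ∧ ∃ w ∈ ruLattice, st (lin2 cG m) = Od w := by
  refine lin2_ind (P := fun x => Cl x ∧ ∃ w ∈ ruLattice, st x = Od w)
    ⟨Cl.zero, 0, zero_mem _, by ext p; simp [mem_st, mem_Od, co_zero]⟩ ?_ (fun c hc => ?_) m
  · rintro x y ⟨h1, v, hv, h2⟩ ⟨h3, w, hw, h4⟩
    exact ⟨h1.xor h3, v + w, add_mem hv hw, Od_add h2 h4⟩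
  · have h : cG = cGk.map fun k => red 4096 2 56 (nth wes 0 k) := by decide +kernel
    rw [h, List.mem_map] at hc
    obtain ⟨k, hk, rfl⟩ := hc
    exact ⟨st_red.1, W k, W_mem k ((blt_iff _ _).1 ((allL_iff _ _).1
      (by decide +kernel : allL (fun k => blt k 56) cGk = true) k hk)), st_red.2⟩

theorem exists_code {v : RuVec} (hv : v ∈ ruLattice) : ∃ m, st (lin2 cG m) = Od v := by
  refine lattice_induction (P := fun v => ∃ m, st (lin2 cG m) = Od v)
    ⟨0, by rw [lin2_zero]; ext p; simp [mem_st, mem_Od, co_zero]⟩ ?_ ?_ (fun k hk => ?_) hv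
  · rintro v w ⟨a, ha⟩ ⟨b, hb⟩
    exact ⟨a ^^^ b, by rw [lin2_xor]; exact Od_add ha hb⟩
  · rintro v ⟨a, ha⟩
    refine ⟨a, ha.trans ?_⟩
    ext p
    rw [mem_Od, mem_Od, co_neg]
    omega
  · have h : allLt (fun k => Nat.beq (lin2 cG (nth cM 0 k)) (red 4096 2 56 (nth wes 0 k))) 56 = true := by decide +kernel
    exact ⟨nth cM 0 k, by rw [(beq_iff _ _).1 ((allLt_iff _ _).1 h k hk)]; exact st_red.2⟩

theorem memF_iff {α : Type} {x : ℕ} {l : List (ℕ × α)} : memF x l = true ↔ ∃ e ∈ l, x = e.1 := by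
  simp only [memF, anyL_iff, beq_iff]

theorem cl_of_land {x : ℕ} (h : Nat.beq (Nat.land x one56) x = true) : Cl x :=
  (show x &&& one56 = x from (beq_iff _ _).1 h) ▸ cl_one.land x

theorem gd_bound {l : List (ℕ × ℕ × List ℕ)} (h : allL gdOK l = true) :
    {v | ∃ e ∈ l, v ∈ {v ∈ Sm | Od v = st (e.1 >>> 60)}}.Finite ∧
    {v | ∃ e ∈ l, v ∈ {v ∈ Sm | Od v = st (e.1 >>> 60)}}.ncard ≤ (l.map fun e => 2 ^ (e.2.1 % 4095)).sum := by
  refine ncard_list l fun e he => ?_
  have := (allL_iff _ _).1 h e he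
  unfold gdOK at this
  rw [force_eq, band_eq, band_eq, band_eq] at this
  have h1 := cl_of_land this.2.1
  exact good_bound (fun m => (code_wit m).2) (h1.card ▸ (beq_iff _ _).1 this.1) (cl_of_land this.2.2.1) h1 this.2.2.2

theorem Sm_sub {v : RuVec} (hv : v ∈ Sm) : v ∈ frame ∨
    ∃ e ∈ good0 ++ (good1 ++ (good2 ++ good3)), v ∈ {v ∈ Sm | Od v = st (e.1 >>> 60)} := by
  obtain ⟨m, hm⟩ := exists_code hv.1
  have h1 := low_all m
  have h2 := lin2_shift cT 60 m
  have h3 := (code_wit m).1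
  have h4 := norm_cards hv.2
  rw [cG_eq] at h2
  rw [← h2] at hm h3
  generalize lin2 cT m = x at h1 hm h3
  have h5 := h3.card
  rw [hm] at h5
  have hb : ∀ {l}, allL bdOK l = true → ¬ ∃ e ∈ l, x = e.1 := by
    rintro l hl ⟨e, he, rfl⟩
    have := (allL_iff _ _).1 hl e he
    unfold bdOK at this
    rw [force_eq, band_eq] at this
    have h6 : e.1 >>> 60 % 4095 = 16 := (beq_iff _ _).1 this.1
    exact excl_sound this.2 h3 hv.1 hm (by omega)
  unfold low at h1
  simp only [force_eq, bor_eq, memF_iff, blt_iff, beq_iff] at h1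
  rcases h1 with h | ⟨e, he, rfl⟩ | ⟨e, he, rfl⟩ | ⟨e, he, rfl⟩ | ⟨e, he, rfl⟩ | h | h | h | ⟨e, he, rfl⟩ | rfl
  · have h : 16 < x >>> 60 % 4095 := h
    omega
  · exact Or.inr ⟨e, List.mem_append_left _ he, hv, hm.symm⟩
  · exact Or.inr ⟨e, List.mem_append_right _ (List.mem_append_left _ he), hv, hm.symm⟩
  · exact Or.inr ⟨e, List.mem_append_right _ (List.mem_append_right _ (List.mem_append_left _ he)), hv, hm.symm⟩
  · exact Or.inr ⟨e, List.mem_append_right _ (List.mem_append_right _ (List.mem_append_right _ he)), hv, hm.symm⟩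
  · exact absurd h (hb bd0)
  · exact absurd h (hb bd1)
  · exact absurd h (hb bd2)
  · have := (allL_iff _ _).1 oc0 e he
    unfold ocOK at this
    rw [force_eq, band_eq, band_eq] at this
    have h6 : e.1 >>> 60 % 4095 = 8 := (beq_iff _ _).1 this.1
    have h7 := excl_sound this.2.1 h3 hv.1 hm
    have h8 := excl_sound this.2.2 h3 hv.1 hm
    omega
  · have h7 := excl_sound z2 h3 hv.1 hm
    have h8 := excl_sound z4 h3 hv.1 hm
    rw [Nat.zero_shiftRight] at h5
    exact Or.inl (mem_frame hv.2 (card_eq_zero.1 (by omega)) (card_eq_zero.1 (by omega)))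

theorem allL_app {α : Type} {p : α → Bool} {l m : List α} (h1 : allL p l = true) (h2 : allL p m = true) :
    allL p (l ++ m) = true := by
  rw [allL_iff] at h1 h2 ⊢
  exact fun a ha => (List.mem_append.1 ha).elim (h1 a) (h2 a)

theorem Sm_bound : Sm.Finite ∧ Sm.ncard ≤ 16240 := by
  have h := gd_bound (allL_app gd0 (allL_app gd1 (allL_app gd2 gd3)))
  rw [show ((good0 ++ (good1 ++ (good2 ++ good3))).map fun e => 2 ^ (e.2.1 % 4095)).sum = 16128 by decide +kernel] at h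
  have h3 := card_frame
  have h4 := @Sm_sub
  generalize frame = F at h3 h4
  generalize good0 ++ (good1 ++ (good2 ++ good3)) = l at h h4
  have h1 : Sm ⊆ (F : Set RuVec) ∪ _ := fun v hv => (h4 hv).imp mem_coe.2 id
  have h2 := (finite_toSet F).union h.1
  refine ⟨h2.subset h1, (Set.ncard_le_ncard h1 h2).trans ((Set.ncard_union_le _ _).trans ?_)⟩
  rw [Set.ncard_coe_finset]
  exact Nat.add_le_add h3 h.2

end Cfsg.Agent.Id.Ru
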