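import Cfsg.Agent.Lib.Id.RuC
import Cfsg.Agent.Lib.Id.RuD2

/-! The tests on the words of the parity code of the Rudvalis lattice. -/

set_option autoImplicit false
set_option maxRecDepth 100000
set_option Elab.async false

namespace Cfsg.Agent.Id.Ru

open Cfsg.Agent.CG

/-- Membership among first components. -/
noncomputable def memF {α : Type} (x : ℕ) (l : List (ℕ × α)) : Bool := anyL (fun p => Nat.beq x p.1) l

/-- The test of one code word. -/
noncomputable def low (x : ℕ) : Bool := force x fun x =>
  bor (blt 16 (Nat.mod (Nat.shiftRight x 60) 4095)) (bor (memF x good0) (bor (memF x good1) (bor (memF x good2)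
    (bor (memF x good3) (bor (memF x bad0) (bor (memF x bad1) (bor (memF x bad2) (bor (memF x oct) (Nat.beq x 0)))))))))

/-- One eighth of the enumeration. -/
noncomputable def enP (i : ℕ) : Bool := enumAll low (cT.drop 3) (lin2 cT i)

/-- The test of a word that carries minimal vectors. -/
noncomputable def gdOK (e : ℕ × ℕ × List ℕ) : Bool := force (Nat.shiftRight e.1 60) fun x =>
  band (Nat.beq (Nat.mod x 4095) 16) (band (Nat.beq (Nat.land x one56) x) (band (Nat.beq (Nat.land e.2.1 one56) e.2.1)
    (elim cG e.2.2 (Nat.xor x e.2.1))))

/-- The test of a word of weight 16 that carries no minimal vector. -/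
noncomputable def bdOK (e : ℕ × ℕ) : Bool := force (Nat.shiftRight e.1 60) fun x =>
  band (Nat.beq (Nat.mod x 4095) 16) (excl x 0 [(e.2, wp e.2, Nat.mod (Nat.land (wd e.2) x) 4095)])

/-- The test of a word of weight 8. -/
noncomputable def ocOK (e : ℕ × List (ℕ × ℕ × ℕ)) : Bool := force (Nat.shiftRight e.1 60) fun x =>
  band (Nat.beq (Nat.mod x 4095) 8) (band (excl x 0 e.2) (excl x 2 e.2))

theorem gd0 : allL gdOK good0 = true := by decide +kernel
theorem gd1 : allL gdOK good1 = true := by decide +kernel
theorem gd2 : allL gdOK good2 = true := by decide +kernel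
theorem gd3 : allL gdOK good3 = true := by decide +kernel
theorem bd0 : allL bdOK bad0 = true := by decide +kernel
theorem bd1 : allL bdOK bad1 = true := by decide +kernel
theorem bd2 : allL bdOK bad2 = true := by decide +kernel
theorem oc0 : allL ocOK oct = true := by decide +kernel

end Cfsg.Agent.Id.Ru
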