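import Cfsg.Agent.Lib.Id.RuE0

/-! Enumeration of the parity code. -/

set_option autoImplicit false
set_option maxRecDepth 100000
set_option Elab.async false

namespace Cfsg.Agent.Id.Ru

open Cfsg.Agent.CG

theorem en0 : enP 0 = true := by decide +kernel
theorem en1 : enP 1 = true := by decide +kernel
theorem en2 : enP 2 = true := by decide +kernel
theorem en3 : enP 3 = true := by decide +kernel

end Cfsg.Agent.Id.Ru
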