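import Cfsg.Agent.Lib.Id.RuG0

/-! Checks of the table of minimal vectors. -/

set_option autoImplicit false
set_option maxRecDepth 100000
set_option Elab.async false

namespace Cfsg.Agent.Id.Ru

open Cfsg.Agent.CG

theorem ct0 : allRange chkT 0 116 = true := by decide +kernel
theorem ct1 : allRange chkT 116 116 = true := by decide +kernel
theorem ct2 : allRange chkT 232 116 = true := by decide +kernel
theorem ct3 : allRange chkT 348 116 = true := by decide +kernel
theorem ct4 : allRange chkT 464 116 = true := by decide +kernel
theorem ct5 : allRange chkT 580 116 = true := by decide +kernel
theorem ct6 : allRange chkT 696 116 = true := by decide +kernel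

end Cfsg.Agent.Id.Ru
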