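import Cfsg.Agent.Lib.Id.RuG0

/-! Checks of the table of minimal vectors. -/

set_option autoImplicit false
set_option maxRecDepth 100000
set_option Elab.async false

namespace Cfsg.Agent.Id.Ru

open Cfsg.Agent.CG

theorem ct14 : allRange chkT 1624 116 = true := by decide +kernel
theorem ct15 : allRange chkT 1740 116 = true := by decide +kernel
theorem ct16 : allRange chkT 1856 116 = true := by decide +kernel
theorem ct17 : allRange chkT 1972 116 = true := by decide +kernel
theorem ct18 : allRange chkT 2088 116 = true := by decide +kernel
theorem ct19 : allRange chkT 2204 116 = true := by decide +kernel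
theorem ct20 : allRange chkT 2320 116 = true := by decide +kernel

end Cfsg.Agent.Id.Ru
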