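import Cfsg.Agent.Lib.Id.RuG0

/-! Checks of the table of minimal vectors. -/

set_option autoImplicit false
set_option maxRecDepth 100000
set_option Elab.async false

namespace Cfsg.Agent.Id.Ru

open Cfsg.Agent.CG

theorem ct21 : allRange chkT 2436 116 = true := by decide +kernel
theorem ct22 : allRange chkT 2552 116 = true := by decide +kernel
theorem ct23 : allRange chkT 2668 116 = true := by decide +kernel
theorem ct24 : allRange chkT 2784 116 = true := by decide +kernel
theorem ct25 : allRange chkT 2900 116 = true := by decide +kernel
theorem ct26 : allRange chkT 3016 116 = true := by decide +kernel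
theorem ct27 : allRange chkT 3132 116 = true := by decide +kernel

end Cfsg.Agent.Id.Ru
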