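import Cfsg.Agent.Lib.Id.RuE
import Cfsg.Agent.Lib.Id.RuG1
import Cfsg.Agent.Lib.Id.RuG2
import Cfsg.Agent.Lib.Id.RuG3
import Cfsg.Agent.Lib.Id.RuG4
import Cfsg.Agent.Lib.Id.RuG5
import Cfsg.Agent.Lib.Grp.Ru.Main
import Cfsg.Agent.Lib.Id.Basic

/-! The minimal vectors of the Rudvalis lattice and the action of the generators. -/

set_option autoImplicit false
set_option maxRecDepth 100000
set_option Elab.async false

namespace Cfsg.Agent.Id.Ru

open Cfsg.Agent.CG Cfsg.Spor Finset Pointwise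

theorem cat {p : ℕ → Bool} {a b : ℕ} (c : ℕ) (h1 : allRange p 0 a = true) (h2 : allRange p a b = true)
    (h : c = a + b := by norm_num) : allRange p 0 c = true := h ▸ allRange_append h1 (by rwa [zero_add])

theorem chk_all : allRange chkT 0 4060 = true :=
  cat 4060 (cat 3944 (cat 3828 (cat 3712 (cat 3596 (cat 3480 (cat 3364 (cat 3248 (cat 3132 (cat 3016 (cat 2900 (cat 2784 (cat 2668 (cat 2552 (cat 2436 (cat 2320 (cat 2204 (cat 2088 (cat 1972 (cat 1856 (cat 1740 (cat 1624 (cat 1508 (cat 1392 (cat 1276 (cat 1160 (cat 1044 (cat 928 (cat 812 (cat 696 (cat 580 (cat 464 (cat 348 (cat 232 (ct0) ct1) ct2) ct3) ct4) ct5) ct6) ct7) ct8) ct9) ct10) ct11) ct12) ct13) ct14) ct15) ct16) ct17) ct18) ct19) ct20) ct21) ct22) ct23) ct24) ct25) ct26) ct27) ct28) ct29) ct30) ct31) ct32) ct33) ct34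

theorem chk {j : ℕ} (hj : j < 4060) : okv (tab j) = true ∧ (j = 0 ∨ tab (j - 1) < tab j) ∧
    (∀ e ∈ [1, 2, 3], rt e (tab j) < tab j) ∧ img g0c g0s 0 j (tab j) = true ∧ img g1c g1s 1 j (tab j) = true ∧
    ∀ l ∈ lvL, lvT j (linp 4096 cF (tab j)) l = true := by
  have := (allRange_iff _ 0 4060).1 chk_all j (Nat.zero_le _) (by omega)
  unfold chkT at this
  rw [force_eq, band_eq, band_eq, band_eq, band_eq, band_eq, force_eq, allL_iff, allL_iff, bor_eq, beq_iff j, blt_iff] at this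
  exact ⟨this.1, this.2.1, fun e he => (blt_iff _ _).1 (this.2.2.1 e he), this.2.2.2⟩

theorem tab_lt {i j : ℕ} (h : i < j) (hj : j < 4060) : tab i < tab j := by
  induction j with
  | zero => omega
  | succ j ih =>
    have h1 : tab j < tab (j + 1) := (chk hj).2.1.resolve_left (by omega)
    rcases Nat.lt_succ_iff_lt_or_eq.1 h with h2 | rfl
    · exact (ih h2 (by omega)).trans h1
    · exact h1

theorem rt_spec {x : ℕ} (h : okv x = true) (e : ℕ) : okv (rt e x) = true ∧ dv (rt e x) = gI ^ e • dv x := by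
  induction e with
  | zero => exact ⟨h, by rw [pow_zero, one_smul]; rfl⟩
  | succ e ih =>
    have := rot_spec ih.1
    exact ⟨this.1, by rw [pow_succ', mul_smul, ← ih.2]; exact this.2⟩

theorem I_pow_mod (e : ℕ) : gI ^ (e % 4) = gI ^ e := (pow_eq_pow_mod e (by decide)).symm

theorem I_cancel {a b : ℕ} {v w : RuVec} (ha : a < 4) (h : gI ^ a • v = gI ^ b • w) : v = gI ^ ((4 - a + b) % 4) • w := by
  rw [I_pow_mod, pow_add, mul_smul, ← h, smul_smul, ← pow_add, Nat.sub_add_cancel ha.le, show gI ^ 4 = 1 by decide, one_smul]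

theorem I_pow_Sm {v : RuVec} (h : v ∈ Sm) (e : ℕ) : gI ^ e • v ∈ Sm := by
  induction e with
  | zero => simpa using h
  | succ e ih => rw [pow_succ', mul_smul]; exact ⟨gI_smul_mem_ruLattice ih.1, (norm_I _).trans ih.2⟩

/-- The table of all minimal vectors. -/
noncomputable def TV (n : ℕ) : RuVec := gI ^ (n % 4) • dv (tab (n / 4))

theorem tab_le {i j e : ℕ} (hi : i < 4060) (hj : j < 4060) (he : e < 4) (h : dv (tab i) = gI ^ e • dv (tab j)) :
    tab i ≤ tab j ∧ (e ≠ 0 → tab i < tab j) := by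
  have h1 := rt_spec (chk hj).1 e
  have h2 := dv_inj (chk hi).1 h1.1 (h.trans h1.2.symm)
  by_cases h0 : e = 0
  · subst h0; exact ⟨h2.le, fun h => absurd rfl h⟩
  · have := (chk hj).2.2.1 e (by simp; omega)
    exact ⟨h2 ▸ this.le, fun _ => h2 ▸ this⟩

theorem TV_inj : Set.InjOn TV (range 16240 : Finset ℕ) := by
  intro m hm n hn h
  have hm : m < 16240 := by simpa using hm
  have hn : n < 16240 := by simpa using hn
  have h1 := tab_le (by omega) (by omega) (Nat.mod_lt _ (by norm_num)) (I_cancel (Nat.mod_lt _ (by norm_num)) h)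
  have h2 := tab_le (by omega) (by omega) (Nat.mod_lt _ (by norm_num)) (I_cancel (Nat.mod_lt _ (by norm_num)) h.symm)
  have h3 : m / 4 = n / 4 := by
    rcases lt_trichotomy (m / 4) (n / 4) with h4 | h4 | h4
    · exact absurd (tab_lt h4 (by omega)) h2.1.not_gt
    · exact h4
    · exact absurd (tab_lt h4 (by omega)) h1.1.not_gt
  have h4 : (4 - m % 4 + n % 4) % 4 = 0 := by
    by_contra h5
    exact absurd (h1.2 h5) h2.1.not_gt
  omega

theorem img_spec {es cs : List ℕ} {c0 a : ℕ} (h : colsZ es cs c0 = true) {j : Fin 4060}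
    (hj : img cs c0 a j (tab j) = true) {f : ruLattice →+ ruLattice} (hf : ∀ v, (4 : ℤ) • (f v : RuVec) = mp es v)
    (hm : dv (tab j) ∈ ruLattice) :
    ∃ e < 4, (f ⟨_, hm⟩ : RuVec) = gI ^ e • dv (tab (permOf 4060 16 CG.Ru.app a j : ℕ)) := by
  unfold img at hj
  rw [force_eq, anyL_iff] at hj
  obtain ⟨e, he, h1⟩ := hj
  rw [show Nat.div (CG.Ru.app a (Nat.mul 16 j)) 16 = _ from (permOf_val CG.Ru.tabOK a j).symm] at h1
  have h2 := rt_spec (chk (permOf 4060 16 CG.Ru.app a j).2).1 e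
  exact ⟨e, by simp at he; omega, four_smul_inj (by rw [hf, mp_of_cmb h (chk j.2).1 h2.1 h1, h2.2])⟩

theorem matOK_cols {es cs : List ℕ} {c0 : ℕ} {L : List (ℕ × ℕ)} (h : matOK es cs c0 L = true) :
    colsZ es cs c0 = true := ((band_eq _ _).1 h).1

theorem gens (a : ℕ) (ha : a ∈ [0, 1]) : ∃ f : ruLattice →+ ruLattice, (∀ v, f (ruI v) = ruI (f v)) ∧
    (∀ v, ruNorm (f v) = ruNorm v) ∧ ∀ (j : Fin 4060) (hm : dv (tab j) ∈ ruLattice),
      ∃ e < 4, (f ⟨_, hm⟩ : RuVec) = gI ^ e • dv (tab (permOf 4060 16 CG.Ru.app a j : ℕ)) := by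
  simp only [List.mem_cons, List.not_mem_nil, or_false] at ha
  rcases ha with rfl | rfl
  · obtain ⟨f, h1, h2, h3⟩ := exists_map mat0
    exact ⟨f, h2, h3, fun j hm => img_spec (matOK_cols mat0) (chk j.2).2.2.2.1 h1 hm⟩
  · obtain ⟨f, h1, h2, h3⟩ := exists_map mat1
    exact ⟨f, h2, h3, fun j hm => img_spec (matOK_cols mat1) (chk j.2).2.2.2.2.1 h1 hm⟩

theorem PG_le {R : Subgroup (Equiv.Perm (Fin 4060))} (h : ∀ a ∈ [0, 1], permOf 4060 16 CG.Ru.app a ∈ R) :
    CG.Ru.PG ≤ R := tabGroup_le CG.Ru.tabOK CG.Ru.hinv [0, 1] h (by decide +kernel)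

/-- The index of the `t`-th fixed vector. -/
noncomputable def fn (t : ℕ) : ℕ := nth fnL 0 t

theorem fn_lt (t : ℕ) : fn t < 16240 :=
  (blt_iff _ _).1 ((allL_iff _ _).1 (by decide +kernel : allL (fun n => blt n 16240) (0 :: fnL) = true) _
    (nth_mem_cons _ _ t))

theorem TV_rt {n : ℕ} (h : n < 16240) :
    okv (rt (n % 4) (tab (n / 4))) = true ∧ dv (rt (n % 4) (tab (n / 4))) = TV n := rt_spec (chk (by omega)).1 _

theorem TV_fn {k : ℕ} (hk : k < 28) : TV (fn (19 + k)) = W k := by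
  have h : allLt (fun k => force (fn (19 + k)) fun n => Nat.beq (rt (n % 4) (tab (n / 4))) (nth wes 0 k)) 28 = true := by
    decide +kernel
  have := (allLt_iff _ _).1 h k hk
  rw [force_eq, beq_iff] at this
  rw [← (TV_rt (fn_lt _)).2, this, W]

theorem Sm_of_I_pow {v : RuVec} {e : ℕ} (he : e < 4) (h : gI ^ e • v ∈ Sm) : v ∈ Sm := by
  rw [I_cancel (v := v) (b := 0) he (one_smul _ _).symm]; exact I_pow_Sm h _

theorem all_of_step {Q : ℕ → Prop} (h : ∀ a ∈ [0, 1], ∀ j : Fin 4060, Q j → Q (permOf 4060 16 CG.Ru.app a j))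
    {i j : ℕ} (hi : i < 4060) (hj : j < 4060) (h0 : Q i) : Q j := by
  have h1 : CG.Ru.PG ≤ MulAction.stabilizer _ {j : Fin 4060 | Q j} := PG_le fun a ha => by
    have h2 := h a ha
    generalize permOf 4060 16 CG.Ru.app a = σ at h2 ⊢
    rw [MulAction.mem_stabilizer_set_iff_smul_set_subset (Set.toFinite _)]
    rintro _ ⟨j, hj, rfl⟩
    exact h2 j hj
  obtain ⟨g, hg, e⟩ := transitive_of_chain CG.Ru.tabOK CG.Ru.chain rfl ⟨i, hi⟩ ⟨j, hj⟩
  have h4 : g • (⟨i, hi⟩ : Fin 4060) ∈ g • {j : Fin 4060 | Q j} := Set.smul_mem_smul_set h0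
  rw [h1 hg, Equiv.Perm.smul_def, e] at h4
  exact h4

theorem W_zero : W 0 ∈ Sm := ⟨W_mem 0 (by norm_num), by
  have h3 : _ = 2 * dot (W 0) (W 0) + 1792 :=
    dn_dot (colsZ_ok hW (by norm_num : 0 < 56)) (colsZ_ok hW (by norm_num : 0 < 56))
  rw [show dn 56 (nth wes 0 0) (nth wes 0 0) = 1824 by decide +kernel] at h3
  rw [norm_eq_dot]
  generalize dot (W 0) (W 0) = a at h3
  omega⟩

theorem tab_mem {j : ℕ} (hj : j < 4060) : dv (tab j) ∈ Sm := by
  have h2 := W_zero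
  rw [← TV_fn (by norm_num), TV] at h2
  have h3 := fn_lt (19 + 0)
  generalize fn (19 + 0) = n at h2 h3
  refine all_of_step (Q := fun j => dv (tab j) ∈ Sm) (fun a ha j hj => ?_) (by omega) hj
    (Sm_of_I_pow (Nat.mod_lt _ (by norm_num)) h2)
  obtain ⟨f, -, h3, h4⟩ := gens a ha
  obtain ⟨e, he, h5⟩ := h4 j hj.1
  refine Sm_of_I_pow he ?_
  rw [← h5]
  exact ⟨(f _).2, (h3 _).trans hj.2⟩

theorem TV_mem {n : ℕ} (h : n < 16240) : TV n ∈ Sm := I_pow_Sm (tab_mem (by omega)) _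

theorem exists_TV {v : RuVec} (h : v ∈ Sm) : ∃ n < 16240, TV n = v := by
  have h1 : TV '' (range 16240 : Finset ℕ) = Sm := Set.eq_of_subset_of_ncard_le
    (by rintro _ ⟨n, hn, rfl⟩; exact TV_mem (by simpa using hn))
    (by rw [TV_inj.ncard_image, Set.ncard_coe_finset, card_range]; exact Sm_bound.2) Sm_bound.1
  obtain ⟨n, hn, e⟩ := h1.symm ▸ h
  exact ⟨n, by simpa using hn, e⟩

/-- The minimal vectors inside the lattice. -/
def SL : Set ruLattice := Subtype.val ⁻¹' Sm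

theorem SL_bound : SL.Finite ∧ SL.ncard ≤ 16240 :=
  ⟨Sm_bound.1.preimage Subtype.val_injective.injOn,
    (Set.ncard_le_ncard_of_injOn (s := SL) Subtype.val (fun _ h => h) Subtype.val_injective.injOn Sm_bound.1).trans Sm_bound.2⟩

theorem ext_W {P : ruLattice → Prop} (h0 : P 0) (hadd : ∀ v w, P v → P w → P (v + w)) (hneg : ∀ v, P v → P (-v))
    (hI : ∀ v, P v → P (ruI v)) (h : ∀ k (hk : k < 28), P ⟨W k, W_mem k (by omega)⟩) (v : ruLattice) : P v := by
  have := lattice_induction (P := fun v => ∃ hv : v ∈ ruLattice, P ⟨v, hv⟩) ⟨_, h0⟩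
    (fun _ _ ⟨_, h1⟩ ⟨_, h2⟩ => ⟨_, hadd _ _ h1 h2⟩) (fun _ ⟨_, h1⟩ => ⟨_, hneg _ h1⟩)
    (lo_hi (fun k hk => ⟨_, h k hk⟩) fun k hk => by rw [W_hi hk]; exact ⟨_, hI _ (h k hk)⟩) v.2
  exact this.2

theorem exists_aut (f : ruLattice →+ ruLattice) (h1 : ∀ v, f (ruI v) = ruI (f v)) (h2 : ∀ v, ruNorm (f v) = ruNorm v) :
    ∃ g : fourRu, ∀ v, g • v = f v := by
  have inj : Function.Injective f := (injective_iff_map_eq_zero f).2 fun v hv => Subtype.ext (eq_zero_of_norm (by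
    rw [← h2, hv]; simp [ruNorm]))
  have h3 : Set.SurjOn f SL SL := ((SL_bound.1.injOn_iff_bijOn_of_mapsTo
    fun v hv => ⟨(f v).2, (h2 v).trans hv.2⟩).1 inj.injOn).surjOn
  have surj : Function.Surjective f := ext_W (P := (· ∈ f.range)) (zero_mem _) (fun _ _ => add_mem) (fun _ => neg_mem)
    (by rintro _ ⟨v, rfl⟩; exact ⟨_, h1 v⟩) fun k hk => by
      obtain ⟨v, -, e⟩ := h3 (show (⟨W k, W_mem k (by omega)⟩ : ruLattice) ∈ SL from TV_fn hk ▸ TV_mem (fn_lt _))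
      exact ⟨v, e⟩
  exact ⟨⟨Equiv.ofBijective f ⟨inj, surj⟩, f.map_add, h1, h2⟩, fun _ => rfl⟩

end Cfsg.Agent.Id.Ru
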