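import Cfsg.Agent.Lib.Id.RuD1
import Cfsg.Agent.Lib.Id.RuD3
import Cfsg.Agent.Lib.Id.RuD4
import Cfsg.Agent.Lib.Grp.Ru.Defs

/-! The checks on the table of minimal vectors. -/

set_option autoImplicit false

namespace Cfsg.Agent.Id.Ru

open Cfsg.Agent.CG

/-- Multiplication by `i ^ e` on codes. -/
noncomputable def rt (e x : ℕ) : ℕ := Nat.rec (motive := fun _ => ℕ) x (fun _ y => rot y) e

/-- The image of the `j`-th line under a generator. -/
noncomputable def img (cs : List ℕ) (c0 a j x : ℕ) : Bool :=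
  force (tab (Nat.div (CG.Ru.app a (Nat.mul 16 j)) 16)) fun y => anyL (fun e => cmb cs c0 4 x 4 (rt e y)) [0, 1, 2, 3]

/-- The test of one class. -/
noncomputable def lvT (j Y : ℕ) (l : Lv) : Bool :=
  bor (bnot (Nat.beq (Nat.mod Y l.M) l.tg)) (bit (maskOf l.cls) (Nat.add (Nat.mul 4 j) l.e))

/-- All checks on the `j`-th line. -/
noncomputable def chkT (j : ℕ) : Bool := force (tab j) fun x =>
  band (okv x) (band (bor (Nat.beq j 0) (blt (tab (Nat.pred j)) x)) (band (allL (fun e => blt (rt e x) x) [1, 2, 3])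
    (band (img g0c g0s 0 j x) (band (img g1c g1s 1 j x) (force (linp 4096 cF x) fun Y => allL (lvT j Y) lvL)))))

end Cfsg.Agent.Id.Ru
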