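import Cfsg.Agent.Lib.Id.Proj
import Cfsg.Agent.Lib.Grp.U35.Main

/-! Identification of `PSU(3,5)` with its table permutation group on the isotropic points. -/

set_option autoImplicit false
set_option maxRecDepth 100000
set_option Elab.async false

namespace Cfsg.Agent.Id.U35

open Cfsg.Agent.CG Matrix
open scoped Pointwise

/-- The model field. -/
abbrev K : Type := QuadraticAlgebra (ZMod 5) 2 0

/-- The element with a given code. -/
def el (c : ℕ) : K := ⟨(c : ℕ), (c / 5 : ℕ)⟩

/-- The codes of the points. -/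
noncomputable def cd (j : ℕ) : ℕ := look 0xffff 0x3ab13a993a673a4e399f392238f038d737f637dd372e36b1367f3666335e33463297327e321a3201313930ee3026300d2fa92f902ec82e7d2de72dce2d832d512d062c702b762b5d2b122ae02a9529ff28d328ba2856283d2775272a26df26c62617259a2568254f23f123d82374235b2293224821b22199214e211c20d1203b1f411f281edd1eab1e601dca1c9e1c851c211c081b401af51aaa1a9119e219651933191a161215fa15c815af15001483145114381357133e128f121211e011c70ebf0ea70df80ddf0d7b0d620c9a0c4f0bb90ba00b550b230ad80a42076c075404fb04e30466044d040203d0038502ef0259020e00e20097004c0033 (Nat.mul 16 j)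

/-- The vector with a given code. -/
def vec (c : ℕ) (i : Fin 3) : K := el (c / 25 ^ i.1)

/-- The matrix with a given code. -/
def mat (c : ℕ) : Matrix (Fin 3) (Fin 3) K := fun i j => el (c / 25 ^ (3 * i.1 + j.1))

theorem vec_inj : Function.Injective fun j : Fin 126 => vec (cd j) := by
  have h1 : ∀ j : Fin 126, ∑ i, ((vec (cd j) i).re.val + 5 * (vec (cd j) i).im.val) * 25 ^ i.1 = cd j := by
    decide +kernel
  have h2 : StrictMono fun j : Fin 126 => cd j := Fin.strictMono_iff_lt_succ.2 (by decide +kernel)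
  exact fun i j h => h2.injective ((h1 i).symm.trans (by rw [show vec (cd i) = vec (cd j) from h, h1]))

theorem nrm : ∀ j : Fin 126, ∃ i, vec (cd j) i = 1 ∧ ∀ k < i, vec (cd j) k = 0 := by decide +kernel

theorem actA : ∀ j : Fin 126, el (look 255 0x100a0108040b070e1503180602090114170d050c160d101703050f060f09141007150a040f0b021001080d0f0c100e100c180f161315010812091207171305180d02120e0b1304060b1203130c130a1612140f0e0a07030a060d1402170501080d181604090b150c180d04140b0e0d07080209170e05150a06160c030108 (Nat.mul 8 j)) ≠ 0 ∧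
    mat 3226621331842 *ᵥ vec (cd j) = el (look 255 0x100a0108040b070e1503180602090114170d050c160d101703050f060f09141007150a040f0b021001080d0f0c100e100c180f161315010812091207171305180d02120e0b1304060b1203130c130a1612140f0e0a07030a060d1402170501080d181604090b150c180d04140b0e0d07080209170e05150a06160c030108 (Nat.mul 8 j)) •
      vec (cd (CG.U35.app 0 (12 * j) / 12)) := by
  decide +kernel

theorem actB : ∀ j : Fin 126, el (look 255 0x11105160c170d0a08140a150b030e100f070112060208141306180f10130a02151813110d031816071812051713180b010c0213170a09150e050609130f0b0e090703120e0c160e08140d090e0110021109150c061107120814030f05100617140b0a02150d01160d0b071612100e170c030c0a0615110f021705010814 (Nat.mul 8 j)) ≠ 0 ∧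
    mat 225230767204 *ᵥ vec (cd j) = el (look 255 0x11105160c170d0a08140a150b030e100f070112060208141306180f10130a02151813110d031816071812051713180b010c0213170a09150e050609130f0b0e090703120e0c160e08140d090e0110021109150c061107120814030f05100617140b0a02150d01160d0b071612100e170c030c0a0615110f021705010814 (Nat.mul 8 j)) •
      vec (cd (CG.U35.app 1 (12 * j) / 12)) := by
  decide +kernel

theorem trans (i j : Fin 126) : ∃ g ∈ CG.U35.PG, g i = j :=
  transitive_of_chain CG.U35.tabOK CG.U35.mc_ok rfl i j

theorem center_PG : Subgroup.center CG.U35.PG = ⊥ :=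
  center_eq_bot_of_fix CG.U35.tabOK trans 15 0 (by decide +kernel) (by decide +kernel)

instance fact5 : Fact (Nat.Prime 5) := ⟨by norm_num⟩

variable {F : Type*} [Field F] [Fintype F] (hF : Fintype.card F = 5 ^ 2)
include hF

theorem card_SU35 : Nat.card (SU 3 F 5) = 378000 := by
  have := card_SU (n := 3) hF
  simp only [Finset.prod_range_succ] at this
  norm_num at this
  omega

theorem exists_hom : ∃ f : SU 3 F 5 →* CG.U35.PG, Function.Surjective f ∧
    f.ker ≤ Subgroup.center _ ∧ Nat.card f.ker = 3 := by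
  obtain ⟨φ, hφ⟩ := exists_quad_hom hF 2 (fun ⟨a, b⟩ => by revert a b; decide +kernel) (by norm_num)
  obtain ⟨A, hA⟩ := exists_SU hF φ (M := mat 3226621331842) (by decide +kernel)
  obtain ⟨B, hB⟩ := exists_SU hF φ (M := mat 225230767204) (by decide +kernel)
  obtain ⟨s, hs⟩ := exists_SU hF φ (M := el 17 • (1 : Matrix (Fin 3) (Fin 3) K)) (by decide +kernel)
  have h1 : s.1.1 = φ (el 17) • (1 : Matrix (Fin 3) (Fin 3) F) := by
    rw [hs]; ext i j; simp [one_apply, apply_ite φ]
  have h2 : orderOf s = 3 := by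
    refine orderOf_eq_prime (Subtype.ext (Subtype.ext ?_)) fun h => ?_
    · change s.1.1 ^ 3 = 1
      rw [h1, smul_pow, one_pow, ← map_pow, show el 17 ^ 3 = 1 by decide +kernel, map_one, one_smul]
    · have := congrFun (congrFun h1 0) 0
      rw [h] at this
      exact absurd (hφ (a₁ := 1) (a₂ := el 17) (by simpa using this)) (by decide +kernel)
  have h3 : Nat.card (Subgroup.zpowers s) = 3 := by rw [Nat.card_zpowers, h2]
  obtain ⟨f, h4, h5, -⟩ := exists_hom_of_realized (X := SU 3 F 5)
    (pt := fun j : Fin 126 => pline (φ ∘ vec (cd j)))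
    (fun i j h => vec_inj (pline_inj φ hφ (nrm i) (nrm j) h))
    (tabGroup_le' CG.U35.tabOK [0, 1] (by decide +kernel) (List.forall_mem_cons.2
      ⟨⟨A, fun j => by simp only [permOf_val CG.U35.tabOK]; exact smul_pline_map φ hφ A.1 hA (actA j)⟩,
        List.forall_mem_cons.2
      ⟨⟨B, fun j => by simp only [permOf_val CG.U35.tabOK]; exact smul_pline_map φ hφ B.1 hB (actB j)⟩,
        by simp⟩⟩)) (Subgroup.zpowers s)
    (fun z hz j => (Subgroup.zpowers_le_of_mem (H := MulAction.stabilizer (SU 3 F 5) (pline (φ ∘ vec (cd j))))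
      (smul_pline_map φ hφ s.1 hs ⟨show el 17 ≠ 0 by decide +kernel, by rw [smul_mulVec, one_mulVec]⟩)) hz)
    (by rw [h3, card_SU35 hF]; exact Nat.mul_le_mul_left 3 CG.U35.le_card)
  refine ⟨f, h4, h5 ▸ Subgroup.zpowers_le_of_mem (Subgroup.mem_center_iff.2 fun g =>
    Subtype.ext (Subtype.ext ?_)), h5 ▸ h3⟩
  change g.1.1 * s.1.1 = s.1.1 * g.1.1
  simp [h1]

theorem iso : Nonempty (PSU 3 F 5 ≃* CG.U35.PG) := by
  obtain ⟨f, h1, h2, -⟩ := exists_hom hF
  exact quotient_center_equiv f h1 h2 center_PG

theorem factCard : Fact (Nat.card CG.U35.PG ≤ 126000) := by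
  obtain ⟨f, h1, -, h2⟩ := exists_hom hF
  have := card_SU35 hF
  rw [Subgroup.card_eq_card_quotient_mul_card_subgroup f.ker, h2,
    Nat.card_congr (QuotientGroup.quotientKerEquivOfSurjective f h1).toEquiv] at this
  exact ⟨by omega⟩

end Cfsg.Agent.Id.U35
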